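import Cfsg.Agent.H294.PU.Gen_m3
import Cfsg.Agent.H562.FpfWeights2
import Mathlib
import Cfsg.Agent.H664.R1.Split
import Cfsg.Agent.H664.R1.U3Iso
import Cfsg.Agent.H767.PU.Card_m3
import Cfsg.Agent.H659.PU.Over_m3
import Cfsg.Agent.H802.FusBasic
import Cfsg.Agent.FastGrp
import Cfsg.Agent.Prune
set_option linter.all false

section
prune_inst 0x7f00000000000000000000000000000000000000000000000000000000000000000000000000000000000000000000000000000000000000000000000000000000000000000000000000000000000000003fffffffffffffffffffffffffffbeffbdffffffff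

section
prune_inst 0xf3bdf9dfb8e9dfdfff7e7ffe9cdffdfdf97fffbfdffdcbffe8e9ff0fdf4b02cdc5ab8d8feb52fc0fd6629410f87b43fd7eeeffea6bd87ffffd1ff41ffbffcfedf7b50851148c340fbc0ff603f0778e7f000000000000000000000000000000004200000000

-- part: H440/PU/Wact_mg
section
prune_inst 0xc4204200006202000018000630000020480000020020000000200c000000832205012100088011001802a2400009002811000000424000000e00040000010100008812042100a00022009e000084000000000000000000000000000000000000000000000
set_option linter.all false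
open scoped Cfsg.Agent.FastGrp

-- part: H440/PU/Fld
section
/-!
# S5258 (PU-L1a): the field with its involution (helper440)
-/

set_option autoImplicit false

namespace Cfsg.Agent.H440.PU

open Cfsg.Agent.H756.PU

universe u

variable {K : Type u} [Field K] [StarRing K] {p n : ℕ}

variable (K) in
/-- the fixed elements -/
def Fx : AddSubgroup K where
  carrier := {x | star x = x}
  zero_mem' := star_zero K
  add_mem' := by
    intro a b ha hb
    show star (a + b) = a + b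
    rw [star_add, show star a = a from ha, show star b = b from hb]
  neg_mem' := by
    intro a ha
    show star (-a) = -a
    rw [star_neg, show star a = a from ha]

variable (K) in
/-- the elements of trace zero -/
def T0 : AddSubgroup K where
  carrier := {x | x + star x = 0}
  zero_mem' := by
    show (0 : K) + star 0 = 0
    rw [star_zero, add_zero]
  add_mem' := by
    intro a b ha hb
    have h1 : a + star a = 0 := ha
    have h2 : b + star b = 0 := hb
    show a + b + star (a + b) = 0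
    rw [star_add]
    linear_combination h1 + h2
  neg_mem' := by
    intro a ha
    have h1 : a + star a = 0 := ha
    show -a + star (-a) = 0
    rw [star_neg]
    linear_combination -h1

/-- the trace -/
def tr : K →+ K where
  toFun x := x + star x
  map_zero' := by simp
  map_add' x y := by rw [star_add]; abel

/-- `x ↦ x* - x` -/
def df : K →+ K where
  toFun x := star x - x
  map_zero' := by simp
  map_add' x y := by rw [star_add]; abel

theorem ker_tr : (tr : K →+ K).ker = T0 K := rfl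

theorem ker_df : (df : K →+ K).ker = Fx K := by
  ext x
  rw [AddMonoidHom.mem_ker]
  show star x - x = 0 ↔ star x = x
  exact sub_eq_zero

theorem range_tr_le : (tr : K →+ K).range ≤ Fx K := by
  rintro _ ⟨x, rfl⟩
  show star (x + star x) = x + star x
  rw [star_add, star_star, add_comm]

theorem range_df_le : (df : K →+ K).range ≤ T0 K := by
  rintro _ ⟨x, rfl⟩
  show star x - x + star (star x - x) = 0
  rw [star_sub, star_star]
  ring

theorem card_pow_eq_le [Finite K] {q : ℕ} (hq : 1 < q) (a : K) : Nat.card {x : K // x ^ q = a * x} ≤ q := by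
  classical
  have : Fintype K := Fintype.ofFinite K
  let f : Polynomial K := Polynomial.X ^ q - Polynomial.C a * Polynomial.X
  have hd : (Polynomial.C a * Polynomial.X : Polynomial K).degree < q :=
    (Polynomial.degree_C_mul_X_le a).trans_lt (by exact_mod_cast hq)
  have hf : f.natDegree = q := by
    rw [Polynomial.natDegree_eq_of_degree_eq_some]
    have h1 := Polynomial.degree_sub_eq_left_of_degree_lt (p := (Polynomial.X ^ q : Polynomial K))
      (q := Polynomial.C a * Polynomial.X) (by rw [Polynomial.degree_X_pow]; exact hd)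
    rw [h1, Polynomial.degree_X_pow]
  have hf0 : f ≠ 0 := by
    intro h
    rw [h, Polynomial.natDegree_zero] at hf
    omega
  calc Nat.card {x : K // x ^ q = a * x} ≤ Nat.card {x : K // x ∈ f.roots.toFinset} := by
        refine Nat.card_le_card_of_injective (fun x => ⟨x.1, ?_⟩) (fun x y h => Subtype.ext (Subtype.mk.inj h))
        rw [Multiset.mem_toFinset, Polynomial.mem_roots hf0, Polynomial.IsRoot, Polynomial.eval_sub,
          Polynomial.eval_pow, Polynomial.eval_mul, Polynomial.eval_C, Polynomial.eval_X, x.2, sub_self]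
    _ = f.roots.toFinset.card := by rw [Nat.card_eq_fintype_card, Fintype.card_coe]
    _ ≤ f.roots.card := Multiset.toFinset_card_le _
    _ ≤ q := hf ▸ Polynomial.card_roots' f

section

variable (h : HypK K p n)
include h

theorem one_lt_q : 1 < p ^ n := Nat.one_lt_pow (Nat.one_le_iff_ne_zero.1 h.hn) h.pp.one_lt

theorem card_Fx_le : Nat.card (Fx K) ≤ p ^ n := by
  have := h.fin
  refine le_trans (Nat.card_le_card_of_injective (fun x : Fx K => (⟨x.1, ?_⟩ : {x : K // x ^ p ^ n = 1 * x}))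
    (fun x y h => Subtype.ext (Subtype.mk.inj h))) (card_pow_eq_le (one_lt_q h) 1)
  rw [← h.star_eq, one_mul]
  exact x.2

theorem card_T0_le : Nat.card (T0 K) ≤ p ^ n := by
  have := h.fin
  refine le_trans (Nat.card_le_card_of_injective (fun x : T0 K => (⟨x.1, ?_⟩ : {x : K // x ^ p ^ n = (-1) * x}))
    (fun x y h => Subtype.ext (Subtype.mk.inj h))) (card_pow_eq_le (one_lt_q h) (-1))
  rw [← h.star_eq]
  have h1 : (x : K) + star (x : K) = 0 := x.2
  linear_combination h1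

theorem card_ker_mul_range (f : K →+ K) : Nat.card f.ker * Nat.card f.range = (p ^ n) ^ 2 := by
  have := h.fin
  rw [← h.card, ← Nat.card_congr (QuotientAddGroup.quotientKerEquivRange f).toEquiv, mul_comm,
    ← AddSubgroup.card_eq_card_quotient_mul_card_addSubgroup]

theorem card_T0 : Nat.card (T0 K) = p ^ n := by
  have := h.fin
  have h1 := card_ker_mul_range h (tr : K →+ K)
  have h2 := Nat.card_le_card_of_injective _ (AddSubgroup.inclusion_injective (range_tr_le (K := K)))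
  have h3 := card_Fx_le h
  have h4 := card_T0_le h
  rw [ker_tr] at h1
  have h5 := one_lt_q h
  have : (p ^ n) * (p ^ n) ≤ Nat.card (T0 K) * (p ^ n) := by
    calc (p ^ n) * (p ^ n) = Nat.card (T0 K) * Nat.card (tr : K →+ K).range := by rw [h1, sq]
      _ ≤ Nat.card (T0 K) * (p ^ n) := Nat.mul_le_mul_left _ (h2.trans h3)
  exact le_antisymm h4 (Nat.le_of_mul_le_mul_right this (by omega))

theorem card_range_tr : Nat.card (tr : K →+ K).range = p ^ n := by
  have h1 := card_ker_mul_range h (tr : K →+ K)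
  rw [ker_tr, card_T0 h, sq] at h1
  exact Nat.eq_of_mul_eq_mul_left (by have := one_lt_q h; omega) h1

theorem card_Fx : Nat.card (Fx K) = p ^ n := by
  have := h.fin
  refine le_antisymm (card_Fx_le h) ?_
  rw [← card_range_tr h]
  exact Nat.card_le_card_of_injective _ (AddSubgroup.inclusion_injective (range_tr_le (K := K)))

theorem card_range_df : Nat.card (df : K →+ K).range = p ^ n := by
  have h1 := card_ker_mul_range h (df : K →+ K)
  rw [ker_df, card_Fx h, sq] at h1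
  exact Nat.eq_of_mul_eq_mul_left (by have := one_lt_q h; omega) h1

theorem eq_of_le_of_card {A B : AddSubgroup K} (hle : A ≤ B) (hA : Nat.card A = p ^ n) (hB : Nat.card B = p ^ n) :
    A = B := by
  have := h.fin
  exact AddSubgroup.eq_of_le_of_card_ge hle (by rw [hA, hB])

/-- the trace is onto -/
theorem exists_trace {a : K} (ha : star a = a) : ∃ c : K, c + star c = a := by
  have h1 := eq_of_le_of_card h range_tr_le (card_range_tr h) (card_Fx h)
  have h2 : a ∈ Fx K := ha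
  rw [← h1] at h2
  obtain ⟨c, hc⟩ := h2
  exact ⟨c, hc⟩

/-- additive Hilbert 90 -/
theorem exists_diff {a : K} (ha : a + star a = 0) : ∃ c : K, star c - c = a := by
  have h1 := eq_of_le_of_card h range_df_le (card_range_df h) (card_T0 h)
  have h2 : a ∈ T0 K := ha
  rw [← h1] at h2
  obtain ⟨c, hc⟩ := h2
  exact ⟨c, hc⟩

theorem exists_not_fixed : ∃ x : K, star x ≠ x := by
  by_contra hc
  push Not at hc
  have := h.fin
  have h1 : Fx K = ⊤ := by
    ext x
    exact ⟨fun _ => AddSubgroup.mem_top x, fun _ => hc x⟩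
  have h2 := card_Fx h
  rw [h1, AddSubgroup.card_top, h.card, sq] at h2
  have h3 := one_lt_q h
  have : p ^ n * p ^ n > p ^ n * 1 := Nat.mul_lt_mul_of_pos_left h3 (by omega)
  omega

theorem exists_T0 : ∃ κ : K, κ ≠ 0 ∧ κ + star κ = 0 := by
  obtain ⟨x, hx⟩ := exists_not_fixed h
  refine ⟨star x - x, sub_ne_zero.2 hx, ?_⟩
  rw [star_sub, star_star]
  ring

/-- the norm is onto -/
theorem exists_norm {a : K} (ha : star a = a) : ∃ s : K, s * star s = a := by
  classical
  by_cases ha0 : a = 0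
  · exact ⟨0, by rw [ha0, zero_mul]⟩
  have := h.fin
  have : Fintype K := Fintype.ofFinite K
  have hq := one_lt_q h
  let N : Kˣ →* Kˣ := powMonoidHom (p ^ n + 1)
  -- the fixed units
  let F : Subgroup Kˣ := (powMonoidHom (p ^ n - 1) : Kˣ →* Kˣ).ker
  have hNF : N.range ≤ F := by
    rintro _ ⟨x, rfl⟩
    rw [MonoidHom.mem_ker, powMonoidHom_apply, powMonoidHom_apply, ← pow_mul]
    have h1 : (p ^ n + 1) * (p ^ n - 1) = Nat.card Kˣ := by
      rw [Nat.card_units, h.card, ← Nat.sq_sub_sq, one_pow]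
    rw [h1]
    exact pow_card_eq_one'
  have hF : Nat.card F ≤ p ^ n - 1 := by
    have h1 := IsCyclic.card_pow_eq_one_le (α := Kˣ) (n := p ^ n - 1) (by omega)
    rw [← Fintype.card_subtype] at h1
    refine le_trans (le_of_eq ?_) h1
    rw [Nat.card_eq_fintype_card]
    exact Fintype.card_congr (Equiv.refl _)
  have hK : Nat.card N.ker ≤ p ^ n + 1 := by
    have h1 := IsCyclic.card_pow_eq_one_le (α := Kˣ) (n := p ^ n + 1) (by omega)
    rw [← Fintype.card_subtype] at h1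
    refine le_trans (le_of_eq ?_) h1
    rw [Nat.card_eq_fintype_card]
    exact Fintype.card_congr (Equiv.refl _)
  have hc : Nat.card N.ker * Nat.card N.range = (p ^ n + 1) * (p ^ n - 1) := by
    rw [← Nat.card_congr (QuotientGroup.quotientKerEquivRange N).toEquiv, mul_comm,
      ← Subgroup.card_eq_card_quotient_mul_card_subgroup, Nat.card_units, h.card, ← Nat.sq_sub_sq, one_pow]
  have hR : p ^ n - 1 ≤ Nat.card N.range := by
    have : (p ^ n + 1) * (p ^ n - 1) ≤ (p ^ n + 1) * Nat.card N.range := by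
      rw [← hc]
      exact Nat.mul_le_mul_right _ hK
    exact Nat.le_of_mul_le_mul_left this (by omega)
  have hE : N.range = F := Subgroup.eq_of_le_of_card_ge hNF (hF.trans hR)
  have haF : Units.mk0 a ha0 ∈ F := by
    rw [MonoidHom.mem_ker, powMonoidHom_apply]
    ext
    rw [Units.val_pow_eq_pow_val, Units.val_mk0, Units.val_one]
    have h1 : a ^ p ^ n = a := by rw [← h.star_eq]; exact ha
    have h2 : a ^ (p ^ n - 1) * a = 1 * a := by
      rw [← pow_succ, Nat.sub_add_cancel (by omega), h1, one_mul]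
    exact mul_right_cancel₀ ha0 h2
  rw [← hE] at haF
  obtain ⟨s, hs⟩ := haF
  refine ⟨s, ?_⟩
  have h1 := congrArg Units.val hs
  rw [powMonoidHom_apply, Units.val_pow_eq_pow_val, Units.val_mk0, pow_succ, mul_comm] at h1
  rw [h.star_eq]
  exact h1

end

end Cfsg.Agent.H440.PU
end

-- part: H440/PU/Wact
section
/-!
# S5258 (PU-L1a): the action of `Aut(Q₁)` on `W = Q₁/Z` (helper440)

`W = K × K × K` with the coordinates `(r, u1, b)`.
-/

set_option autoImplicit false

namespace Cfsg.Agent.H440.PU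

open Cfsg Cfsg.FusionSystem Cfsg.Agent.H756.PU

universe u

variable {K : Type u} [Field K] [StarRing K] {p n : ℕ}

/-- `Q₁ → W` -/
def pr (e : Q1 K) : K × K × K := ((e : UG K).r, (e : UG K).u1, (e : UG K).b)

theorem Q1_u2 (e : Q1 K) : (e : UG K).u2 = 0 := e.2.1
theorem Q1_c (e : Q1 K) : (e : UG K).c = 0 := e.2.2

theorem ext_Q1 {e f : Q1 K} (h : pr e = pr f) (ha : (e : UG K).a = (f : UG K).a) : e = f := by
  have h1 := congrArg Prod.fst h
  have h2 := congrArg (fun w : K × K × K => w.2.1) h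
  have h3 := congrArg (fun w : K × K × K => w.2.2) h
  apply Subtype.ext
  refine UG.ext h1 h2 ?_ ha h3 ?_
  · rw [Q1_u2, Q1_u2]
  · rw [Q1_c, Q1_c]

theorem pr_mul (e f : Q1 K) : pr (e * f) = pr e + pr f := by
  unfold pr
  rw [Subgroup.coe_mul, UG.mul_r, UG.mul_u1, UG.mul_b, Q1_u2, Q1_c]
  simp

theorem pr_one : pr (1 : Q1 K) = 0 := rfl

/-- the hermitian form -/
def hh (w w' : K × K × K) : K := w.1 * star w'.2.2 + w.2.1 * star w'.2.1 + w.2.2 * star w'.1

/-- the commutator form -/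
def om (w w' : K × K × K) : K := star (hh w w') - hh w w'

theorem om_mem (w w' : K × K × K) : om w w' + star (om w w') = 0 := by
  simp only [om, star_sub, star_star]
  ring

theorem a_mul_sub (e f : Q1 K) : (((e * f : Q1 K)) : UG K).a = (((f * e : Q1 K)) : UG K).a + om (pr e) (pr f) := by
  rw [Subgroup.coe_mul, Subgroup.coe_mul, UG.mul_a, UG.mul_a]
  simp only [UG.d, Q1_u2, Q1_c, om, hh, pr, star_add, star_mul', star_star, zero_mul, mul_zero, sub_zero, star_zero]
  ring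

/-- the element of `Z` -/
def zz (a : K) (ha : a + star a = 0) : Q1 K :=
  ⟨{ r := 0, u1 := 0, u2 := 0, a := a, b := 0, c := 0, ha := by simpa only [_root_.star_zero, _root_.MulZeroClass.mul_zero, _root_.add_zero] using ha, hc := by simp }, rfl, rfl⟩

theorem pr_zz (a : K) (ha : a + star a = 0) : pr (zz a ha) = 0 := rfl

theorem zz_mul_a (a : K) (ha : a + star a = 0) (e : Q1 K) : ((zz a ha * e : Q1 K) : UG K).a = a + (e : UG K).a := by
  rw [Subgroup.coe_mul, UG.mul_a]
  simp only [zz, _root_.MulZeroClass.zero_mul, _root_.add_zero, _root_.star_zero, _root_.MulZeroClass.mul_zero, _root_.sub_zero]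

theorem mul_eq_zz (e f : Q1 K) : e * f = zz (om (pr e) (pr f)) (om_mem _ _) * (f * e) := by
  apply ext_Q1
  · rw [pr_mul, pr_mul, pr_mul, pr_zz, zero_add, add_comm]
  · rw [zz_mul_a, a_mul_sub, add_comm]

theorem eq_zz_mul {e f : Q1 K} (h : pr e = pr f) : ∃ (a : K) (ha : a + star a = 0), e = zz a ha * f := by
  have h1 := congrArg (fun w : K × K × K => w.2.1) h
  have h1' : (e : UG K).u1 = (f : UG K).u1 := h1
  have h2 := (e : UG K).ha
  have h3 := (f : UG K).ha
  rw [h1'] at h2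
  refine ⟨(e : UG K).a - (f : UG K).a, ?_, ?_⟩
  · rw [star_sub]
    linear_combination h2 - h3
  · apply ext_Q1
    · rw [pr_mul, pr_zz, zero_add, h]
    · rw [zz_mul_a]; ring

theorem zz_inj {a b : K} {ha : a + star a = 0} {hb : b + star b = 0} (h : zz a ha = zz b hb) : a = b :=
  congrArg (fun e : Q1 K => (e : UG K).a) h

theorem zz_comm (a : K) (ha : a + star a = 0) (e : Q1 K) : zz a ha * e = e * zz a ha := by
  have h := mul_eq_zz (zz a ha) e
  have h0 : om (pr (zz a ha)) (pr e) = 0 := by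
    rw [pr_zz]
    simp only [om, hh, _root_.Prod.fst_zero, _root_.MulZeroClass.zero_mul, _root_.Prod.snd_zero, _root_.add_zero, _root_.star_zero, _root_.sub_self]
  have h1 : zz (om (pr (zz a ha)) (pr e)) (om_mem _ _) = 1 := by
    apply ext_Q1
    · rfl
    · exact h0
  rw [h, h1, one_mul]

/-- coordinates of conjugates -/
theorem conj_coord (x e : UG K) (h2 : e.u2 = 0) (hc : e.c = 0) :
    (x * e * x⁻¹).r = e.r ∧ (x * e * x⁻¹).u1 = e.u1 - x.u2 * e.r ∧ (x * e * x⁻¹).u2 = 0 ∧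
      (x * e * x⁻¹).b = e.b + star x.u2 * e.u1 + star x.c * e.r ∧ (x * e * x⁻¹).c = 0 := by
  have h3 := x.hc
  refine ⟨?_, ?_, ?_, ?_, ?_⟩
  · simp only [UG.mul_r, UG.inv_r]; ring
  · simp only [UG.mul_r, UG.mul_u1, UG.inv_u1, UG.inv_u2, h2]; ring
  · simp only [UG.mul_u2, UG.inv_u2, h2]; ring
  · simp only [UG.mul_r, UG.mul_u1, UG.mul_b, UG.inv_b, UG.inv_c, UG.inv_u2, UG.d, h2, hc, star_neg, star_sub, star_mul',
      star_star]
    rw [star_zero]
    ring
  · simp only [UG.mul_u2, UG.mul_c, UG.inv_c, UG.inv_u2, h2, hc, star_neg]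
    rw [star_zero]
    linear_combination h3

theorem conj_mem (x : UG K) (e : Q1 K) : x * (e : UG K) * x⁻¹ ∈ Q1 K := by
  obtain ⟨-, -, h3, -, h5⟩ := conj_coord x e (Q1_u2 e) (Q1_c e)
  exact ⟨h3, h5⟩

/-- conjugation by `x` on `Q₁` -/
def cj (x : UG K) : MulAut (Q1 K) where
  toFun e := ⟨x * e * x⁻¹, conj_mem x e⟩
  invFun e := ⟨x⁻¹ * e * x⁻¹⁻¹, conj_mem x⁻¹ e⟩
  left_inv e := Subtype.ext (by
    show x⁻¹ * (x * (e : UG K) * x⁻¹) * x⁻¹⁻¹ = e
    group)
  right_inv e := Subtype.ext (by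
    show x * (x⁻¹ * (e : UG K) * x⁻¹⁻¹) * x⁻¹ = e
    group)
  map_mul' e f := Subtype.ext (by
    show x * ((e : UG K) * f) * x⁻¹ = (x * e * x⁻¹) * (x * f * x⁻¹)
    group)

theorem cj_coe (x : UG K) (e : Q1 K) : ((cj x e : Q1 K) : UG K) = x * e * x⁻¹ := rfl

theorem mem_A_iff (α : MulAut (Q1 K)) : α ∈ autInducedBy ⊤ (Q1 K) ↔ ∃ x : UG K, α = cj x := by
  rw [H802.mem_autInducedBy_iff]
  constructor
  · rintro ⟨x, -, hx⟩
    exact ⟨x, MulEquiv.ext fun e => Subtype.ext (hx e)⟩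
  · rintro ⟨x, rfl⟩
    exact ⟨x, Subgroup.mem_top x, fun e => rfl⟩

theorem cj_mem (x : UG K) : cj x ∈ autInducedBy ⊤ (Q1 K) := (mem_A_iff _).2 ⟨x, rfl⟩

section

variable (h : HypK K p n)
include h

theorem exists_lift (w : K × K × K) : ∃ e : Q1 K, pr e = w := by
  obtain ⟨a, ha⟩ := exists_trace h (a := -(w.2.1 * star w.2.1)) (by
    rw [star_neg, star_mul', star_star, mul_comm])
  exact ⟨⟨{ r := w.1, u1 := w.2.1, u2 := 0, a := a, b := w.2.2, c := 0, ha := by rw [ha]; ring, hc := by simp },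
    rfl, rfl⟩, rfl⟩

/-- the form is not degenerate -/
theorem om_nondeg {w : K × K × K} (hw : ∀ w', om w w' = 0) : w = 0 := by
  obtain ⟨x, hx⟩ := exists_not_fixed h
  have key : ∀ t : K, (∀ s, star (t * star s) = t * star s) → t = 0 := by
    intro t ht
    by_contra h0
    apply hx
    have h1 := ht (star (t⁻¹ * x))
    rwa [star_star, mul_inv_cancel_left₀ h0] at h1
  have h1 : w.1 = 0 := key _ fun s => by
    have := hw (0, 0, s)
    simp only [om, hh, star_zero, mul_zero, add_zero] at this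
    exact sub_eq_zero.1 this
  have h2 : w.2.1 = 0 := key _ fun s => by
    have := hw (0, s, 0)
    simp only [om, hh, star_zero, mul_zero, add_zero, zero_add] at this
    exact sub_eq_zero.1 this
  have h3 : w.2.2 = 0 := key _ fun s => by
    have := hw (s, 0, 0)
    simp only [om, hh, star_zero, mul_zero, zero_add] at this
    exact sub_eq_zero.1 this
  exact Prod.ext h1 (Prod.ext h2 h3)

/-- `Z` is the centre of `Q₁` -/
theorem pr_map_zero (γ : MulAut (Q1 K)) {e : Q1 K} (he : pr e = 0) : pr (γ e) = 0 := by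
  apply om_nondeg h
  intro w'
  obtain ⟨f, rfl⟩ := exists_lift h w'
  obtain ⟨a, ha, h1⟩ := eq_zz_mul (e := e) (f := 1) (by rw [he, pr_one])
  rw [mul_one] at h1
  have h2 : γ e * f = f * γ e := by
    have h3 := congrArg γ (zz_comm a ha (γ.symm f))
    rw [map_mul, map_mul, MulEquiv.apply_symm_apply, ← h1] at h3
    exact h3
  have h4 := a_mul_sub (γ e) f
  rw [h2] at h4
  exact (left_eq_add.1 h4)

theorem pr_congr (γ : MulAut (Q1 K)) {e f : Q1 K} (he : pr e = pr f) : pr (γ e) = pr (γ f) := by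
  obtain ⟨a, ha, h1⟩ := eq_zz_mul he
  rw [h1, map_mul, pr_mul, pr_map_zero h γ (pr_zz a ha), zero_add]

/-- a lift -/
noncomputable def lift (w : K × K × K) : Q1 K := (exists_lift h w).choose

theorem pr_lift (w : K × K × K) : pr (lift h w) = w := (exists_lift h w).choose_spec

/-- **the action on `W`** -/
noncomputable def rho : MulAut (Q1 K) →* Equiv.Perm (K × K × K) where
  toFun γ :=
    { toFun := fun w => pr (γ (lift h w))
      invFun := fun w => pr (γ.symm (lift h w))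
      left_inv := fun w => by
        show pr (γ.symm (lift h (pr (γ (lift h w))))) = w
        rw [pr_congr h γ.symm (pr_lift h _), MulEquiv.symm_apply_apply, pr_lift]
      right_inv := fun w => by
        show pr (γ (lift h (pr (γ.symm (lift h w))))) = w
        rw [pr_congr h γ (pr_lift h _), MulEquiv.apply_symm_apply, pr_lift] }
  map_one' := by
    ext1 w
    exact pr_lift h w
  map_mul' γ δ := by
    ext1 w
    show pr (γ (δ (lift h w))) = pr (γ (lift h (pr (δ (lift h w)))))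
    exact pr_congr h γ (pr_lift h _).symm

theorem rho_add (γ : MulAut (Q1 K)) (w w' : K × K × K) : rho h γ (w + w') = rho h γ w + rho h γ w' := by
  show pr (γ (lift h (w + w'))) = pr (γ (lift h w)) + pr (γ (lift h w'))
  rw [← pr_mul, ← map_mul]
  apply pr_congr h
  rw [pr_mul, pr_lift, pr_lift, pr_lift]

theorem rho_zero (γ : MulAut (Q1 K)) : rho h γ 0 = 0 := by
  have h1 := rho_add h γ 0 0
  rw [add_zero] at h1
  exact (left_eq_add.1 h1)

theorem rho_pr (γ : MulAut (Q1 K)) (e : Q1 K) : rho h γ (pr e) = pr (γ e) := pr_congr h γ (pr_lift h _)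

theorem pr_of_rho {γ δ : MulAut (Q1 K)} (hγ : rho h γ = rho h δ) (e : Q1 K) : pr (γ e) = pr (δ e) := by
  rw [← rho_pr h, hγ, rho_pr h]

/-- the form is preserved up to an automorphism of `Z` -/
theorem om_eq_of (γ : MulAut (Q1 K)) {w w' v v' : K × K × K} (hw : om w w' = om v v') :
    om (rho h γ w) (rho h γ w') = om (rho h γ v) (rho h γ v') := by
  obtain ⟨e, rfl⟩ := exists_lift h w
  obtain ⟨e', rfl⟩ := exists_lift h w'
  obtain ⟨f, rfl⟩ := exists_lift h v
  obtain ⟨f', rfl⟩ := exists_lift h v'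
  rw [rho_pr, rho_pr, rho_pr, rho_pr]
  have h1 := congrArg γ (mul_eq_zz e e')
  have h2 := congrArg γ (mul_eq_zz f f')
  rw [map_mul, map_mul, map_mul, mul_eq_zz (γ e) (γ e')] at h1
  rw [map_mul, map_mul, map_mul, mul_eq_zz (γ f) (γ f')] at h2
  have h3 := mul_right_cancel h1
  have h4 := mul_right_cancel h2
  have h5 : zz (om (pr e) (pr e')) (om_mem _ _) = zz (om (pr f) (pr f')) (om_mem _ _) := by
    congr 1
  rw [h5, ← h4] at h3
  exact zz_inj h3

/-- orthogonality is preserved -/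
theorem perp_iff (γ : MulAut (Q1 K)) (w w' : K × K × K) : om (rho h γ w) (rho h γ w') = 0 ↔ om w w' = 0 := by
  have h0 : ∀ v : K × K × K, om 0 v = 0 := fun v => by simp only [om, hh, _root_.Prod.fst_zero, _root_.MulZeroClass.zero_mul, _root_.Prod.snd_zero, _root_.add_zero, _root_.star_zero, _root_.sub_self]
  constructor
  · intro h1
    have h2 : om (rho h γ w) (rho h γ w') = om 0 0 := by rw [h1, h0]
    have h3 := om_eq_of h γ⁻¹ h2
    have e1 : ∀ v, rho h γ⁻¹ (rho h γ v) = v := fun v => by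
      rw [map_inv]
      exact (rho h γ).symm_apply_apply v
    rwa [rho_zero, h0, e1, e1] at h3
  · intro h1
    have h2 : om w w' = om 0 0 := by rw [h1, h0]
    have h3 := om_eq_of h γ h2
    rwa [rho_zero, h0] at h3

/-- the action of `S` on `W` -/
theorem rho_cj (x : UG K) (w : K × K × K) :
    rho h (cj x) w = (w.1, w.2.1 - x.u2 * w.1, w.2.2 + star x.u2 * w.2.1 + star x.c * w.1) := by
  obtain ⟨e, rfl⟩ := exists_lift h w
  rw [rho_pr]
  obtain ⟨h1, h2, -, h4, -⟩ := conj_coord x e (Q1_u2 e) (Q1_c e)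
  unfold pr
  rw [cj_coe, h1, h2, h4]

end

end Cfsg.Agent.H440.PU
end

-- part: H757/PU/RealDef
section
/-!
# S5258, task PU-REAL-b: the interface to the concrete group `SUJ`
-/

set_option autoImplicit false

namespace Cfsg.Agent.H757.PU

open Cfsg Cfsg.FusionSystem Cfsg.Agent.H756.PU

universe u

/-- The data to be supplied by the concrete group: `G0 = SUJ` (matrices `g ∈ SL₅(K)` with `g J g* = J`), `T` the group
of triples `(x1, x2, τ)`; for instance `T` = the subgroup of `MulAut (UG K) × MulAut G0` of the pairs `(a, b)` with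
`IsTor a x1 x2 τ`, `b` = conjugation by `diag(x1, x2, ..)` after `τ`, for some `x1, x2, τ`. -/
structure RData (K : Type u) [Field K] [StarRing K] (p : ℕ) where
  G0 : Type u
  T : Type u
  [grpG : Group G0]
  [finG : Finite G0]
  [grpT : Group T]
  /-- the embedding -/
  ι : UG K →* G0
  ρ : T →* MulAut (UG K)
  A : T →* MulAut G0
  inj : Function.Injective ι
  syl : ¬ p ∣ ι.range.index
  injT : Function.Injective ρ
  tor : ∀ (α : MulAut (UG K)) (x1 x2 : K) (τ : K ≃+* K), IsTor α x1 x2 τ → α ∈ ρ.range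
  act : ∀ (t : T) (x : UG K), A t (ι x) = ι (ρ t x)
  nrm : ∀ g : G0, (∀ x : UG K, g * ι x * g⁻¹ ∈ ι.range) →
    ∃ (u : UG K) (s t : K) (α β : MulAut (UG K)), s ≠ 0 ∧ t ≠ 0 ∧ IsTor α s s⁻¹ (RingEquiv.refl K) ∧
      IsTor β (t * (star t)⁻¹) (t ^ 2 * (star t)⁻¹) (RingEquiv.refl K) ∧
      ∀ x : UG K, g * ι x * g⁻¹ = ι (u * α (β x) * u⁻¹)
  w1 : ∃ (g : G0) (κ : K) (γ : MulAut (Q1 K)), IsW1 κ γ ∧ ∀ e : Q1 K, g * ι (e : UG K) * g⁻¹ = ι ((γ e : Q1 K) : UG K)
  w2 : ∃ (g : G0) (γ : MulAut (Q2 K)), IsW2 γ ∧ ∀ e : Q2 K, g * ι (e : UG K) * g⁻¹ = ι ((γ e : Q2 K) : UG K)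

attribute [instance] RData.grpG RData.finG RData.grpT

/-- (REAL-a) -/
def StRealA : Prop :=
  ∀ {K : Type u} [Field K] [StarRing K] {p n : ℕ} [Fact p.Prime], HypK K p n → Nonempty (RData.{u} K p)

end Cfsg.Agent.H757.PU
end

private theorem dce_cc58a514907a : _root_.True := by
  try have : _root_.True := by simp only [_root_.Cfsg.Agent.H440.PU.om.eq_1]
  try have : _root_.True := by simp only [_root_.Cfsg.Agent.H756.PU.UG.mk.congr_simp]
  try have : _root_.True := by simp only [_root_.Cfsg.Agent.H440.PU.hh.eq_1]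
  try have : _root_.True := by simp only [_root_.Cfsg.Agent.H440.PU.pr.eq_1]
  try have : _root_.True := by simp only [_root_.Cfsg.Agent.H440.PU.zz.eq_1]
  exact _root_.True.intro
end

-- part: H440/PU/Heis
section
prune_inst 0x4206004116202000018001630002020680004020020000070200f020302d3222507210108903d029802aa506009002811000140424000000e000c000001012080a852042300a10426009f802084000000000000000000000000000000041000000000000
set_option linter.all false
open scoped Cfsg.Agent.FastGrp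

/-!
# S5258 (PU-L1a): the group `P = S/Q₁` (helper440)
-/

set_option autoImplicit false

namespace Cfsg.Agent.H440.PU

open Cfsg Cfsg.FusionSystem Cfsg.Agent.H756.PU
open scoped commutatorElement

universe u v

variable {K : Type u} [Field K] [StarRing K] {p n : ℕ}

variable (K) in
/-- the complement of `Q₁` -/
def PP : Subgroup (UG K) where
  carrier := {g | g.r = 0 ∧ g.u1 = 0 ∧ g.a = 0 ∧ g.b = 0}
  one_mem' := by simp
  mul_mem' := by
    rintro x y ⟨h1, h2, h3, h4⟩ ⟨k1, k2, k3, k4⟩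
    simp [UG.mul_a, UG.mul_b, UG.d, h1, h2, h3, h4, k1, k2, k3, k4]
  inv_mem' := by
    rintro x ⟨h1, h2, h3, h4⟩
    simp [UG.inv_a, UG.inv_b, UG.d, h1, h2, h3, h4]

/-- the element `(s, c)` -/
def pp (s c : K) (hc : c + star c + s * star s = 0) : PP K :=
  ⟨{ r := 0, u1 := 0, u2 := s, a := 0, b := 0, c := c, ha := by simp, hc := hc }, rfl, rfl, rfl, rfl⟩

theorem PP_ext {x y : PP K} (h1 : (x : UG K).u2 = (y : UG K).u2) (h2 : (x : UG K).c = (y : UG K).c) : x = y := by
  obtain ⟨⟨r, u1, u2, a, b, c, ha, hc⟩, h3, h4, h5, h6⟩ := x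
  obtain ⟨⟨r', u1', u2', a', b', c', ha', hc'⟩, h3', h4', h5', h6'⟩ := y
  simp only at h1 h2 h3 h4 h5 h6 h3' h4' h5' h6'
  subst h1 h2 h3 h4 h5 h6
  subst h3' h4' h5' h6'
  rfl

/-- the first coordinate -/
def ppf : PP K →* Multiplicative K where
  toFun x := Multiplicative.ofAdd (x : UG K).u2
  map_one' := rfl
  map_mul' x y := by
    rw [Subgroup.coe_mul, UG.mul_u2, ofAdd_add]

theorem mem_ker_ppf (x : PP K) : x ∈ (ppf : PP K →* Multiplicative K).ker ↔ (x : UG K).u2 = 0 := by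
  rw [MonoidHom.mem_ker]
  exact ⟨fun h => congrArg Multiplicative.toAdd h, fun h => congrArg Multiplicative.ofAdd h⟩

theorem PP_c_mem {x : PP K} (hx : (x : UG K).u2 = 0) : (x : UG K).c + star (x : UG K).c = 0 := by
  have := (x : UG K).hc
  rwa [hx, zero_mul, add_zero] at this

/-- the commutator -/
theorem PP_comm (x y : PP K) (c : K) (hc : c + star c + 0 * star 0 = 0)
    (h1 : c = star (x : UG K).u2 * (y : UG K).u2 - (x : UG K).u2 * star (y : UG K).u2) :
    x * y = pp 0 c hc * (y * x) := by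
  apply PP_ext
  · simp only [Subgroup.coe_mul, UG.mul_u2, pp]
    ring
  · simp only [Subgroup.coe_mul, UG.mul_u2, UG.mul_c, pp, h1]
    ring

section

variable (h : HypK K p n)
include h

theorem card_ker_ppf : Nat.card (ppf : PP K →* Multiplicative K).ker = p ^ n := by
  rw [← card_T0 h]
  refine Nat.card_congr
    { toFun := fun x => ⟨((x : PP K) : UG K).c, PP_c_mem ((mem_ker_ppf _).1 x.2)⟩
      invFun := fun c => ⟨pp 0 c (by
        have h1 : (c : K) + star (c : K) = 0 := c.2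
        rw [h1, zero_mul, add_zero]), (mem_ker_ppf _).2 rfl⟩
      left_inv := fun x => Subtype.ext (PP_ext ((mem_ker_ppf _).1 x.2).symm rfl)
      right_inv := fun c => rfl }

theorem exists_pp (s : K) : ∃ c, c + star c + s * star s = 0 := by
  obtain ⟨c, hc⟩ := exists_trace h (a := -(s * star s)) (by rw [star_neg, star_mul', star_star, mul_comm])
  exact ⟨c, by rw [hc]; ring⟩

theorem card_PP : Nat.card (PP K) = (p ^ n) ^ 3 := by
  have h1 : (ppf : PP K →* Multiplicative K).range = ⊤ := by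
    rw [MonoidHom.range_eq_top]
    intro s
    obtain ⟨c, hc⟩ := exists_pp h (Multiplicative.toAdd s)
    exact ⟨pp _ c hc, rfl⟩
  have h2 : Nat.card (PP K) = Nat.card (ppf : PP K →* Multiplicative K).ker *
      Nat.card (ppf : PP K →* Multiplicative K).range := by
    rw [← Nat.card_congr (QuotientGroup.quotientKerEquivRange (ppf : PP K →* Multiplicative K)).toEquiv, mul_comm]
    exact Subgroup.card_eq_card_quotient_mul_card_subgroup _
  rw [h2, card_ker_ppf h, h1, Subgroup.card_top, Nat.card_congr Multiplicative.toAdd, h.card]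
  ring

theorem center_PP : Subgroup.center (PP K) = (ppf : PP K →* Multiplicative K).ker := by
  ext x
  rw [mem_ker_ppf, Subgroup.mem_center_iff]
  constructor
  · intro hx
    by_contra h0
    obtain ⟨t, ht⟩ := exists_not_fixed h
    -- `y = (s', c')` with `s̄ s' = s s̄'` for all `s'`
    have key : ∀ s' : K, star (x : UG K).u2 * s' = (x : UG K).u2 * star s' := by
      intro s'
      obtain ⟨c', hc'⟩ := exists_pp h s'
      have h1 := hx (pp s' c' hc')
      have h2 := congrArg (fun z : PP K => (z : UG K).c) h1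
      simp only [Subgroup.coe_mul, UG.mul_c, pp] at h2
      linear_combination -h2
    have h1 := key (x : UG K).u2
    have h2 := key (t * (x : UG K).u2)
    rw [star_mul'] at h2
    have h3 : (x : UG K).u2 * star (x : UG K).u2 ≠ 0 := mul_ne_zero h0 (star_ne_zero.2 h0)
    apply ht
    apply mul_left_cancel₀ h3
    linear_combination -h2
  · intro hx y
    apply PP_ext
    · simp only [Subgroup.coe_mul, UG.mul_u2]
      ring
    · simp only [Subgroup.coe_mul, UG.mul_c, hx, star_zero]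
      ring

theorem commutator_PP : commutator (PP K) = Subgroup.center (PP K) := by
  rw [center_PP h]
  apply le_antisymm
  · exact Abelianization.commutator_subset_ker _
  · intro z hz
    rw [mem_ker_ppf] at hz
    have h1 := PP_c_mem hz
    obtain ⟨s, hs⟩ := exists_diff h h1
    obtain ⟨c, hc⟩ := exists_pp h s
    obtain ⟨c', hc'⟩ := exists_pp h (1 : K)
    have h2 := PP_comm (pp s c hc) (pp 1 c' hc') (z : UG K).c (by rw [h1, zero_mul, add_zero]) (by
      simp only [pp, star_one, mul_one]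
      exact hs.symm)
    have h3 : pp 0 (z : UG K).c (by rw [h1, zero_mul, add_zero]) = z := PP_ext hz.symm rfl
    rw [h3] at h2
    have h4 : z = ⁅pp s c hc, pp 1 c' hc'⁆ := by
      rw [commutatorElement_def, h2]
      group
    rw [h4]
    exact Subgroup.commutator_mem_commutator (Subgroup.mem_top _) (Subgroup.mem_top _)

theorem pow_PP (hp2 : p ≠ 2) (x : PP K) : x ^ p = 1 := by
  have hch := h.char
  have h2 : (2 : K) ≠ 0 := by
    intro h0
    have h1 : ((2 : ℕ) : K) = 0 := by exact_mod_cast h0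
    rw [CharP.cast_eq_zero_iff K p] at h1
    exact hp2 ((Nat.prime_dvd_prime_iff_eq h.pp Nat.prime_two).1 h1)
  have key : ∀ k : ℕ, ((x ^ k : PP K) : UG K).u2 = k * (x : UG K).u2 ∧
      2 * ((x ^ k : PP K) : UG K).c = 2 * k * (x : UG K).c - k * (k - 1) * ((x : UG K).u2 * star (x : UG K).u2) := by
    intro k
    induction k with
    | zero => simp
    | succ k ih =>
      obtain ⟨i1, i2⟩ := ih
      rw [pow_succ, Subgroup.coe_mul, UG.mul_u2, UG.mul_c, i1]
      constructor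
      · push_cast; ring
      · push_cast
        linear_combination i2
  obtain ⟨h3, h4⟩ := key p
  have hp0 : (p : K) = 0 := CharP.cast_eq_zero K p
  rw [hp0] at h3 h4
  apply PP_ext
  · rw [h3, zero_mul]; rfl
  · have h5 : 2 * ((x ^ p : PP K) : UG K).c = 0 := by rw [h4]; ring
    exact (mul_eq_zero.1 h5).resolve_left h2

/-- transport to an isomorphic group -/
theorem heis_facts {P : Type v} [Group P] (e : PP K ≃* P) : Nat.card P = (p ^ n) ^ 3 ∧
    Nat.card (Subgroup.center P) = p ^ n ∧ commutator P = Subgroup.center P ∧ (p ≠ 2 → ∀ x : P, x ^ p = 1) := by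
  have hc : ∀ x : PP K, e x ∈ Subgroup.center P ↔ x ∈ Subgroup.center (PP K) := by
    intro x
    rw [Subgroup.mem_center_iff, Subgroup.mem_center_iff]
    constructor
    · intro hx y
      apply e.injective
      rw [map_mul, map_mul]
      exact hx (e y)
    · intro hx y
      obtain ⟨y, rfl⟩ := e.surjective y
      rw [← map_mul, ← map_mul, hx y]
  have hm : (Subgroup.center (PP K)).map e.toMonoidHom = Subgroup.center P := by
    ext y
    obtain ⟨x, rfl⟩ := e.surjective y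
    rw [hc]
    constructor
    · rintro ⟨x', hx', hxx⟩
      rwa [e.injective hxx] at hx'
    · exact fun hx => ⟨x, hx, rfl⟩
  refine ⟨?_, ?_, ?_, ?_⟩
  · rw [← Nat.card_congr e.toEquiv, card_PP h]
  · rw [← hm, Subgroup.card_map_of_injective e.injective, center_PP h, card_ker_ppf h]
  · rw [← hm, ← commutator_PP h, commutator_def, commutator_def, Subgroup.map_commutator]
    have h1 : (⊤ : Subgroup (PP K)).map e.toMonoidHom = ⊤ := Subgroup.map_top_of_surjective _ e.surjective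
    rw [h1]
  · intro hp2 y
    obtain ⟨x, rfl⟩ := e.surjective y
    rw [← map_pow, pow_PP h hp2, map_one]

end

end Cfsg.Agent.H440.PU

private theorem dce_6904e1aade9f : _root_.True := by
  try have : _root_.True := by simp only [_root_.Cfsg.Agent.H440.PU.pp.congr_simp]
  try have : _root_.True := by simp only [_root_.Cfsg.Agent.H440.PU.pp.eq_1]
  exact _root_.True.intro
end

-- part: H440/PU/Syl
section
prune_inst 0xc4206204016202000018001230000000480004020000000010600d02000252222502200008901d021882a84060010028111000004000000004000400000101000088120cb108a10022009e002084000000000000000000000000000000041000000000000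
set_option linter.all false
open scoped Cfsg.Agent.FastGrp

/-!
# S5258 (PU-L1a): the image of `Γ` in `Aut(W)` and its Sylow subgroup (helper440)
-/

set_option autoImplicit false

namespace Cfsg.Agent.H440.PU

open Cfsg Cfsg.FusionSystem Cfsg.Agent.H756.PU

universe u v

variable {K : Type u} [Field K] [StarRing K] {p n : ℕ}

theorem cj_mul (x y : UG K) : cj (x * y) = cj x * cj y := by
  refine MulEquiv.ext fun e => Subtype.ext ?_
  rw [MulAut.mul_apply, cj_coe, cj_coe, cj_coe]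
  group

theorem cj_one : cj (1 : UG K) = 1 := by
  refine MulEquiv.ext fun e => Subtype.ext ?_
  rw [cj_coe]
  simp

variable (K) in
/-- `[W, Z(P)] = C_W(P)` -/
def U0s : Set (K × K × K) := {w | w.1 = 0 ∧ w.2.1 = 0}

variable (K) in
/-- `C_W(Z(P))` -/
def U1s : Set (K × K × K) := {w | w.1 = 0}

/-- trivial action on the chain `0 < U₀ < U₁ < W` -/
def ChS (f : Equiv.Perm (K × K × K)) : Prop :=
  (∀ w, (f w).1 = w.1) ∧ (∀ w, w.1 = 0 → (f w).2.1 = w.2.1) ∧ (∀ w, w.1 = 0 → w.2.1 = 0 → f w = w)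

omit [Field K] [StarRing K] in
theorem fix_conj (g x : Equiv.Perm (K × K × K)) : {w | (g * x * g⁻¹) w = w} = g '' {w | x w = w} := by
  ext w
  constructor
  · intro hw
    refine ⟨g.symm w, ?_, g.apply_symm_apply w⟩
    have h1 : g (x (g.symm w)) = w := hw
    show x (g.symm w) = g.symm w
    rw [Equiv.eq_symm_apply, h1]
  · rintro ⟨v, hv, rfl⟩
    show g (x (g.symm (g v))) = g v
    rw [g.symm_apply_apply, hv]

section

variable (h : HypK K p n)

/-- the image of `Γ` -/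
noncomputable def Gt (Γ : Subgroup (MulAut (Q1 K))) : Subgroup (Equiv.Perm (K × K × K)) := Γ.map (rho h)

/-- the image of `S` -/
noncomputable def Pt : Subgroup (Equiv.Perm (K × K × K)) := (autInducedBy ⊤ (Q1 K)).map (rho h)

/-- the isomorphism with the group of pairs -/
noncomputable def phi : PP K →* Equiv.Perm (K × K × K) where
  toFun x := rho h (cj x)
  map_one' := by
    show rho h (cj 1) = 1
    rw [cj_one, map_one]
  map_mul' x y := by
    show rho h (cj (x * y : UG K)) = _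
    rw [cj_mul, map_mul]

theorem phi_apply (x : PP K) : phi h x = rho h (cj x) := rfl

theorem phi_injective : Function.Injective (phi h) := by
  intro x y hxy
  have h1 := congrArg (fun f : Equiv.Perm (K × K × K) => f (1, 0, 0)) hxy
  simp only [phi_apply, rho_cj, mul_one, mul_zero, zero_sub, add_zero, zero_add] at h1
  have h2 : -(x : UG K).u2 = -(y : UG K).u2 := congrArg (fun w : K × K × K => w.2.1) h1
  have h3 : star (x : UG K).c = star (y : UG K).c := congrArg (fun w : K × K × K => w.2.2) h1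
  exact PP_ext (neg_injective h2) (star_injective h3)

theorem mem_Pt_iff (f : Equiv.Perm (K × K × K)) : f ∈ Pt h ↔ ∃ x : PP K, f = rho h (cj x) := by
  constructor
  · rintro ⟨α, hα, rfl⟩
    obtain ⟨x, rfl⟩ := (mem_A_iff α).1 hα
    refine ⟨pp x.u2 x.c x.hc, ?_⟩
    ext1 w
    rw [rho_cj, rho_cj]
    rfl
  · rintro ⟨x, rfl⟩
    exact ⟨cj x, cj_mem _, rfl⟩

theorem phi_range : (phi h).range = Pt h := by
  ext f
  rw [mem_Pt_iff]
  constructor
  · rintro ⟨x, rfl⟩
    exact ⟨x, rfl⟩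
  · rintro ⟨x, rfl⟩
    exact ⟨x, rfl⟩

theorem cj_mem_Pt (x : UG K) : rho h (cj x) ∈ Pt h := ⟨cj x, cj_mem x, rfl⟩

theorem Pt_ChS {f : Equiv.Perm (K × K × K)} (hf : f ∈ Pt h) : ChS f := by
  obtain ⟨x, rfl⟩ := (mem_Pt_iff h f).1 hf
  refine ⟨fun w => ?_, fun w hw => ?_, fun w hw hw' => ?_⟩
  · rw [rho_cj]
  · rw [rho_cj]
    simp [hw]
  · rw [rho_cj]
    refine Prod.ext rfl (Prod.ext ?_ ?_) <;> simp [hw, hw']

section
include h

/-- the kernel of `ρ` consists of `p`-elements -/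
theorem pow_of_rho_eq_one {γ : MulAut (Q1 K)} (hγ : rho h γ = 1) : γ ^ p = 1 := by
  have hch := h.char
  have hpr : ∀ e, pr (γ e) = pr e := fun e => by
    rw [← rho_pr h, hγ]
    rfl
  have hz : ∀ (b : K) (hb : b + star b = 0), γ (zz b hb) = zz b hb := by
    intro b hb
    obtain ⟨c, hc⟩ := exists_diff h hb
    obtain ⟨e, he⟩ := exists_lift h (c, 0, 0)
    obtain ⟨e', he'⟩ := exists_lift h (0, 0, 1)
    have h0 : om (pr e) (pr e') = b := by
      rw [he, he']
      simp only [om, hh, star_one, mul_one, star_zero, mul_zero, add_zero]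
      exact hc
    have h1 := mul_eq_zz e e'
    have h2 := congrArg γ h1
    have h3 := mul_eq_zz (γ e) (γ e')
    rw [map_mul, map_mul, map_mul, h3] at h2
    have h4 := mul_right_cancel h2
    have h5 : zz (om (pr e) (pr e')) (om_mem _ _) = zz b hb := by congr 1
    have h6 : zz (om (pr (γ e)) (pr (γ e'))) (om_mem _ _) = zz b hb := by
      congr 1
      rw [hpr, hpr, h0]
    rw [h5, h6] at h4
    exact h4.symm
  ext1 e
  obtain ⟨a, ha, h1⟩ := eq_zz_mul (hpr e)
  have key : ∀ k : ℕ, (γ ^ k) e = zz a ha ^ k * e := by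
    intro k
    induction k with
    | zero => simp
    | succ k ih =>
      rw [pow_succ', MulAut.mul_apply, ih, map_mul, map_pow, hz, h1, ← mul_assoc, ← pow_succ]
  have hk : ∀ k : ℕ, pr (zz a ha ^ k) = 0 ∧ ((zz a ha ^ k : Q1 K) : UG K).a = k * a := by
    intro k
    induction k with
    | zero => exact ⟨rfl, by rw [pow_zero, Nat.cast_zero, zero_mul]; rfl⟩
    | succ k ih =>
      rw [pow_succ']
      refine ⟨by rw [pr_mul, ih.1, pr_zz, add_zero], ?_⟩
      rw [zz_mul_a, ih.2]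
      push_cast
      ring
  rw [key, MulAut.one_apply]
  have h2 : zz a ha ^ p = 1 := by
    apply ext_Q1
    · rw [(hk p).1, pr_one]
    · rw [(hk p).2, CharP.cast_eq_zero K p, zero_mul]
      rfl
  rw [h2, one_mul]

theorem mem_U1s_iff (w : K × K × K) : w ∈ U1s K ↔ ∀ v ∈ U0s K, om w v = 0 := by
  obtain ⟨x, hx⟩ := exists_not_fixed h
  constructor
  · intro hw v hv
    have h1 : w.1 = 0 := hw
    have h2 : v.1 = 0 := hv.1
    have h3 : v.2.1 = 0 := hv.2
    simp [om, hh, h1, h2, h3]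
  · intro hw
    show w.1 = 0
    by_contra h0
    apply hx
    have h1 := hw (0, 0, star (w.1⁻¹ * x)) ⟨rfl, rfl⟩
    simp only [om, hh, star_zero, mul_zero, add_zero, star_star] at h1
    rw [mul_inv_cancel_left₀ h0] at h1
    exact sub_eq_zero.1 h1

theorem mem_U0s_iff (w : K × K × K) : w ∈ U0s K ↔ ∀ v ∈ U1s K, om w v = 0 := by
  obtain ⟨x, hx⟩ := exists_not_fixed h
  constructor
  · intro hw v hv
    have h1 : w.1 = 0 := hw.1
    have h2 : v.1 = 0 := hv
    have h3 : w.2.1 = 0 := hw.2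
    simp [om, hh, h1, h2, h3]
  · intro hw
    refine ⟨(mem_U1s_iff h w).2 fun v hv => hw v hv.1, ?_⟩
    by_contra h0
    apply hx
    have h1 := hw (0, star (w.2.1⁻¹ * x), 0) rfl
    simp only [om, hh, star_zero, mul_zero, add_zero, zero_add, star_star] at h1
    rw [mul_inv_cancel_left₀ h0] at h1
    exact sub_eq_zero.1 h1

theorem ncard_U0s : (U0s K).ncard = Nat.card K := by
  rw [← Nat.card_coe_set_eq]
  exact Nat.card_congr
    { toFun := fun w => w.1.2.2
      invFun := fun b => ⟨(0, 0, b), rfl, rfl⟩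
      left_inv := fun w => Subtype.ext (Prod.ext w.2.1.symm (Prod.ext w.2.2.symm rfl))
      right_inv := fun b => rfl }

theorem ncard_U1s : (U1s K).ncard = Nat.card K * Nat.card K := by
  rw [← Nat.card_coe_set_eq, ← Nat.card_prod]
  exact Nat.card_congr
    { toFun := fun w => w.1.2
      invFun := fun b => ⟨(0, b), rfl⟩
      left_inv := fun w => Subtype.ext (Prod.ext w.2.symm rfl)
      right_inv := fun b => rfl }

end

variable {Γ : Subgroup (MulAut (Q1 K))}

theorem Gt_add {f : Equiv.Perm (K × K × K)} (hf : f ∈ Gt h Γ) (w w' : K × K × K) : f (w + w') = f w + f w' := by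
  obtain ⟨γ, -, rfl⟩ := hf
  exact rho_add h γ w w'

theorem Gt_zero {f : Equiv.Perm (K × K × K)} (hf : f ∈ Gt h Γ) : f 0 = 0 := by
  obtain ⟨γ, -, rfl⟩ := hf
  exact rho_zero h γ

theorem Gt_neg {f : Equiv.Perm (K × K × K)} (hf : f ∈ Gt h Γ) (w : K × K × K) : f (-w) = - f w := by
  have h1 := Gt_add h hf w (-w)
  rw [add_neg_cancel, Gt_zero h hf] at h1
  exact (neg_eq_of_add_eq_zero_right h1.symm).symm

theorem Gt_sub {f : Equiv.Perm (K × K × K)} (hf : f ∈ Gt h Γ) (w w' : K × K × K) : f (w - w') = f w - f w' := by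
  rw [sub_eq_add_neg, Gt_add h hf, Gt_neg h hf, ← sub_eq_add_neg]

theorem Gt_perp {f : Equiv.Perm (K × K × K)} (hf : f ∈ Gt h Γ) (w w' : K × K × K) :
    om (f w) (f w') = 0 ↔ om w w' = 0 := by
  obtain ⟨γ, -, rfl⟩ := hf
  exact perp_iff h γ w w'

theorem image_U1_of {f : Equiv.Perm (K × K × K)} (hf : f ∈ Gt h Γ) (hU : f '' U0s K = U0s K) : f '' U1s K = U1s K := by
  have key : ∀ w, w ∈ U1s K ↔ f w ∈ U1s K := by
    intro w
    rw [mem_U1s_iff h, mem_U1s_iff h]
    constructor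
    · intro hw v hv
      rw [← hU] at hv
      obtain ⟨v', hv', rfl⟩ := hv
      exact (Gt_perp h hf _ _).2 (hw v' hv')
    · intro hw v hv
      rw [← Gt_perp h hf]
      exact hw _ (by rw [← hU]; exact ⟨v, hv, rfl⟩)
  ext w
  constructor
  · rintro ⟨v, hv, rfl⟩
    exact (key v).1 hv
  · intro hw
    refine ⟨f.symm w, (key _).2 ?_, f.apply_symm_apply w⟩
    rwa [f.apply_symm_apply]

theorem image_U0_of {f : Equiv.Perm (K × K × K)} (hf : f ∈ Gt h Γ) (hU : f '' U1s K = U1s K) : f '' U0s K = U0s K := by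
  have key : ∀ w, w ∈ U0s K ↔ f w ∈ U0s K := by
    intro w
    rw [mem_U0s_iff h, mem_U0s_iff h]
    constructor
    · intro hw v hv
      rw [← hU] at hv
      obtain ⟨v', hv', rfl⟩ := hv
      exact (Gt_perp h hf _ _).2 (hw v' hv')
    · intro hw v hv
      rw [← Gt_perp h hf]
      exact hw _ (by rw [← hU]; exact ⟨v, hv, rfl⟩)
  ext w
  constructor
  · rintro ⟨v, hv, rfl⟩
    exact (key v).1 hv
  · intro hw
    refine ⟨f.symm w, (key _).2 ?_, f.apply_symm_apply w⟩
    rwa [f.apply_symm_apply]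

/-- chain stabilizers have order a power of `p` -/
theorem pow_ChS {f : Equiv.Perm (K × K × K)} (hf : f ∈ Gt h Γ) (hc : ChS f) : f ^ p ^ 2 = 1 := by
  have hch := h.char
  obtain ⟨h1, h2, h3⟩ := hc
  have hadd := Gt_add h hf
  have key : ∀ (k : ℕ) (w : K × K × K),
      (f ^ k) w = w + k • (f w - w) + (k.choose 2) • (f (f w - w) - (f w - w)) := by
    intro k w
    induction k with
    | zero => simp
    | succ k ih =>
      have hns : ∀ (m : ℕ) (v : K × K × K), f (m • v) = m • f v := by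
        intro m v
        induction m with
        | zero => rw [zero_smul, zero_smul, Gt_zero h hf]
        | succ m im => rw [succ_nsmul, succ_nsmul, hadd, im]
      have h4 : f (f (f w - w) - (f w - w)) = f (f w - w) - (f w - w) := by
        apply h3
        · rw [Prod.fst_sub, h1, sub_self]
        · rw [Prod.snd_sub, Prod.fst_sub, h2 _ (by rw [Prod.fst_sub, h1, sub_self]), sub_self]
      rw [pow_succ', Equiv.Perm.mul_apply, ih, hadd, hadd, hns, hns, h4]
      have e1 : f w = w + (f w - w) := by abel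
      have e2 : f (f w - w) = (f w - w) + (f (f w - w) - (f w - w)) := by abel
      have e3 : (k + 1).choose 2 = k + k.choose 2 := by
        rw [Nat.choose_succ_succ' k 1, Nat.choose_one_right]
      rw [e3]
      generalize hA : f w - w = A at *
      generalize hB : f A - A = B at *
      rw [e1, e2, smul_add, add_smul, add_smul, one_smul]
      abel
  have hp2 : ∀ v : K × K × K, (p ^ 2) • v = 0 := by
    intro v
    have h5 : ∀ x : K, (p ^ 2) • x = 0 := fun x => by
      rw [nsmul_eq_mul, Nat.cast_pow, CharP.cast_eq_zero K p]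
      ring
    exact Prod.ext (h5 _) (Prod.ext (h5 _) (h5 _))
  have hc2 : ∀ v : K × K × K, ((p ^ 2).choose 2) • v = 0 := by
    intro v
    obtain ⟨m, hm⟩ : p ∣ (p ^ 2).choose 2 := by
      refine h.pp.dvd_choose_pow (by norm_num) ?_
      have := h.pp.two_le
      have : 2 * 2 ≤ p ^ 2 := by rw [sq]; exact Nat.mul_le_mul this this
      omega
    have h5 : ∀ x : K, ((p ^ 2).choose 2) • x = 0 := fun x => by
      rw [hm, nsmul_eq_mul, Nat.cast_mul, CharP.cast_eq_zero K p]
      ring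
    exact Prod.ext (h5 _) (Prod.ext (h5 _) (h5 _))
  ext1 w
  rw [key, hp2, hc2, add_zero, add_zero]
  rfl

section par

variable {D : Subgroup (MulAut (UG K))} (hP : Par p (Q1 K) Γ D)
include hP

theorem Pt_le : Pt h ≤ Gt h Γ := Subgroup.map_mono hP.indu

/-- the Sylow subgroup -/
noncomputable def Sy : Sylow p (Gt h Γ) where
  toSubgroup := (Pt h).subgroupOf (Gt h Γ)
  isPGroup' := by
    rintro ⟨f, hf⟩
    have hf' : (f : Equiv.Perm (K × K × K)) ∈ Pt h := hf
    refine ⟨2, Subtype.ext (Subtype.ext ?_)⟩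
    exact pow_ChS h (Pt_le h hP hf') (Pt_ChS h hf')
  is_maximal' := by
    intro Q hQ hle
    have hfin := h.fin
    let R : Subgroup (MulAut (Q1 K)) := Γ ⊓ (Q.map (Gt h Γ).subtype).comap (rho h)
    have hR : IsPGroup p R := by
      rintro ⟨γ, hγ⟩
      obtain ⟨hγ1, q, hq, hq2⟩ := hγ
      obtain ⟨k, hk⟩ := hQ ⟨q, hq⟩
      refine ⟨k + 1, Subtype.ext ?_⟩
      have h1 : rho h (γ ^ p ^ k) = 1 := by
        rw [map_pow, ← hq2]
        have := congrArg (fun z : Q => (Gt h Γ).subtype (z : Gt h Γ)) hk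
        simpa using this
      have h2 := pow_of_rho_eq_one h h1
      rw [← pow_mul, ← pow_succ] at h2
      exact h2
    obtain ⟨g, hg, hgR⟩ := hP.syl R inf_le_left hR
    have hgG : rho h g ∈ Gt h Γ := ⟨g, hg, rfl⟩
    symm
    refine Subgroup.eq_of_le_of_card_ge hle ?_
    rw [← Subgroup.card_map_of_injective (f := (MulAut.conj (⟨rho h g, hgG⟩ : Gt h Γ)).toMonoidHom)
      (MulAut.conj _).injective]
    refine Nat.card_le_card_of_injective (Subgroup.inclusion ?_) (Subgroup.inclusion_injective _)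
    rintro _ ⟨q, hq, rfl⟩
    obtain ⟨γ, hγ, hγq⟩ := q.2
    have h1 : γ ∈ R := ⟨hγ, q, hq, hγq.symm⟩
    have h2 := hgR γ h1
    show rho h g * (q : Equiv.Perm (K × K × K)) * (rho h g)⁻¹ ∈ Pt h
    refine ⟨g * γ * g⁻¹, h2, ?_⟩
    rw [map_mul, map_mul, map_inv, hγq]

theorem mem_Pt_of_ChS {f : Equiv.Perm (K × K × K)} (hf : f ∈ Gt h Γ) (hc : ChS f) : f ∈ Pt h := by
  have hfin := h.fin
  -- the group of chain stabilizers
  let Q : Subgroup (Gt h Γ) :=
    { carrier := {g | ChS (g : Equiv.Perm (K × K × K))}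
      one_mem' := ⟨fun w => rfl, fun w _ => rfl, fun w _ _ => rfl⟩
      mul_mem' := by
        rintro a b ⟨a1, a2, a3⟩ ⟨b1, b2, b3⟩
        refine ⟨fun w => ?_, fun w hw => ?_, fun w hw hw' => ?_⟩
        · show ((a : Equiv.Perm (K × K × K)) ((b : Equiv.Perm (K × K × K)) w)).1 = w.1
          rw [a1, b1]
        · show ((a : Equiv.Perm (K × K × K)) ((b : Equiv.Perm (K × K × K)) w)).2.1 = w.2.1
          rw [a2 _ (by rw [b1, hw]), b2 _ hw]
        · show (a : Equiv.Perm (K × K × K)) ((b : Equiv.Perm (K × K × K)) w) = w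
          rw [b3 w hw hw', a3 w hw hw']
      inv_mem' := by
        rintro a ⟨a1, a2, a3⟩
        have key : ∀ w, (a : Equiv.Perm (K × K × K)) ((a⁻¹ : Gt h Γ).1 w) = w := fun w =>
          (a : Equiv.Perm (K × K × K)).apply_symm_apply w
        refine ⟨fun w => ?_, fun w hw => ?_, fun w hw hw' => ?_⟩
        · have := a1 ((a⁻¹ : Gt h Γ).1 w)
          rw [key] at this
          exact this.symm
        · have h1 := a1 ((a⁻¹ : Gt h Γ).1 w)
          rw [key] at h1
          have := a2 ((a⁻¹ : Gt h Γ).1 w) (by rw [← h1, hw])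
          rw [key] at this
          exact this.symm
        · have h1 := a3 w hw hw'
          show (a : Equiv.Perm (K × K × K)).symm w = w
          rw [Equiv.symm_apply_eq, h1] }
  have hQ : IsPGroup p Q := by
    rintro ⟨g, hg⟩
    exact ⟨2, Subtype.ext (Subtype.ext (pow_ChS h g.2 hg))⟩
  have hle : (Sy h hP : Subgroup (Gt h Γ)) ≤ Q := fun g hg => Pt_ChS h hg
  have := (Sy h hP).is_maximal' hQ hle
  have hfQ : (⟨f, hf⟩ : Gt h Γ) ∈ Q := hc
  rw [this] at hfQ
  exact hfQ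

/-- `g` normalizes `P` as soon as it preserves the chain -/
theorem conj_mem_of_image {g : Equiv.Perm (K × K × K)} (hg : g ∈ Gt h Γ) (hU0 : g '' U0s K = U0s K)
    (hU1 : g '' U1s K = U1s K) {x : Equiv.Perm (K × K × K)} (hx : x ∈ Pt h) : g * x * g⁻¹ ∈ Pt h := by
  obtain ⟨x1, x2, x3⟩ := Pt_ChS h hx
  have hxG := Pt_le h hP hx
  have e0 : ∀ w, (g * x * g⁻¹) w = g (x (g.symm w)) := fun w => rfl
  have hs1 : ∀ w, w ∈ U1s K → g.symm w ∈ U1s K := by
    intro w hw
    rw [← hU1] at hw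
    obtain ⟨v, hv, rfl⟩ := hw
    rwa [g.symm_apply_apply]
  have hs0 : ∀ w, w ∈ U0s K → g.symm w ∈ U0s K := by
    intro w hw
    rw [← hU0] at hw
    obtain ⟨v, hv, rfl⟩ := hw
    rwa [g.symm_apply_apply]
  have hm1 : ∀ w, w ∈ U1s K → g w ∈ U1s K := fun w hw => by rw [← hU1]; exact ⟨w, hw, rfl⟩
  have hm0 : ∀ w, w ∈ U0s K → g w ∈ U0s K := fun w hw => by rw [← hU0]; exact ⟨w, hw, rfl⟩
  refine mem_Pt_of_ChS h hP (mul_mem (mul_mem hg hxG) (inv_mem hg)) ⟨fun w => ?_, fun w hw => ?_, fun w hw hw' => ?_⟩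
  · rw [e0]
    have h1 : x (g.symm w) - g.symm w ∈ U1s K := by
      show (x (g.symm w) - g.symm w).1 = 0
      rw [Prod.fst_sub, x1, sub_self]
    have h2 : (g (x (g.symm w) - g.symm w)).1 = 0 := hm1 _ h1
    rw [Gt_sub h hg, g.apply_symm_apply, Prod.fst_sub] at h2
    exact sub_eq_zero.1 h2
  · rw [e0]
    have h0 : (g.symm w).1 = 0 := hs1 w hw
    have h1 : x (g.symm w) - g.symm w ∈ U0s K := by
      refine ⟨?_, ?_⟩
      · rw [Prod.fst_sub, x1, sub_self]
      · rw [Prod.snd_sub, Prod.fst_sub, x2 _ h0, sub_self]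
    have h2 : (g (x (g.symm w) - g.symm w)).2.1 = 0 := (hm0 _ h1).2
    rw [Gt_sub h hg, g.apply_symm_apply, Prod.snd_sub, Prod.fst_sub] at h2
    exact sub_eq_zero.1 h2
  · rw [e0]
    have h1 := hs0 w ⟨hw, hw'⟩
    rw [x3 _ h1.1 h1.2, g.apply_symm_apply]

omit hP in
/-- fixed points of the elements of `P` -/
theorem fix_cases {x : Equiv.Perm (K × K × K)} (hx : x ∈ Pt h) (hx1 : x ≠ 1) :
    {w | x w = w} = U0s K ∨ {w | x w = w} = U1s K := by
  obtain ⟨y, rfl⟩ := (mem_Pt_iff h x).1 hx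
  by_cases hs : (y : UG K).u2 = 0
  · right
    have hc : (y : UG K).c ≠ 0 := by
      intro hc
      apply hx1
      ext1 w
      rw [rho_cj, hs, hc]
      simp
    ext w
    simp only [Set.mem_ofPred_eq, rho_cj, hs]
    constructor
    · intro hw
      have h1 := congrArg (fun w : K × K × K => w.2.2) hw
      simp only [star_zero, zero_mul, add_zero] at h1
      have h2 : star (y : UG K).c * w.1 = 0 := add_eq_left.1 h1
      exact (mul_eq_zero.1 h2).resolve_left (star_ne_zero.2 hc)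
    · intro hw
      have h0 : w.1 = 0 := hw
      refine Prod.ext rfl (Prod.ext ?_ ?_) <;> simp [h0]
  · left
    ext w
    simp only [Set.mem_ofPred_eq, rho_cj]
    constructor
    · intro hw
      have h1 := congrArg (fun w : K × K × K => w.2.1) hw
      have h2 := congrArg (fun w : K × K × K => w.2.2) hw
      simp only at h1 h2
      have h3 : w.1 = 0 := by
        have : (y : UG K).u2 * w.1 = 0 := by linear_combination -h1
        exact (mul_eq_zero.1 this).resolve_left hs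
      rw [h3, mul_zero, add_zero] at h2
      have h4 : star (y : UG K).u2 * w.2.1 = 0 := add_eq_left.1 h2
      exact ⟨h3, (mul_eq_zero.1 h4).resolve_left (star_ne_zero.2 hs)⟩
    · rintro ⟨h0, h0'⟩
      refine Prod.ext rfl (Prod.ext ?_ ?_) <;> simp [h0, h0']

/-- TI -/
theorem ti {g : Equiv.Perm (K × K × K)} (hg : g ∈ Gt h Γ) {x : Equiv.Perm (K × K × K)} (hx : x ∈ Pt h)
    (hx1 : x ≠ 1) (hgx : g * x * g⁻¹ ∈ Pt h) : g '' U0s K = U0s K ∧ g '' U1s K = U1s K := by
  have hfin := h.fin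
  have hgx1 : g * x * g⁻¹ ≠ 1 := fun h0 => hx1 (conj_eq_one_iff.1 h0)
  have hK : 1 < Nat.card K := by
    rw [h.card]
    exact Nat.one_lt_pow (by norm_num) (one_lt_q h)
  have hne : Nat.card K ≠ Nat.card K * Nat.card K := by
    intro h0
    have : Nat.card K * 1 < Nat.card K * Nat.card K := Nat.mul_lt_mul_of_pos_left hK (by omega)
    omega
  have h0 := fix_conj g x
  rcases fix_cases h hx hx1 with h1 | h1 <;> rcases fix_cases h hgx hgx1 with h2 | h2 <;>
    rw [h1, h2] at h0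
  · exact ⟨h0.symm, image_U1_of h hg h0.symm⟩
  · exfalso
    have h3 := congrArg Set.ncard h0
    rw [Set.ncard_image_of_injective _ g.injective, ncard_U0s h, ncard_U1s h] at h3
    exact hne h3.symm
  · exfalso
    have h3 := congrArg Set.ncard h0
    rw [Set.ncard_image_of_injective _ g.injective, ncard_U0s h, ncard_U1s h] at h3
    exact hne h3
  · exact ⟨image_U0_of h hg h0.symm, h0.symm⟩

end par

end

end Cfsg.Agent.H440.PU

private theorem dce_d2bf27fc1e87 : _root_.True := by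
  try have : _root_.True := by simp only [_root_.Cfsg.Agent.H440.PU.zz.congr_simp]
  try have : _root_.True := by simp only [_root_.Cfsg.Agent.H440.PU.phi.congr_simp]
  try have : _root_.True := by simp only [_root_.Cfsg.Agent.H440.PU.rho.congr_simp]
  exact _root_.True.intro
end

-- part: H440/PU/Core
section
prune_inst 0xc4206204706200000018001432002020680004020020000040000c00010983022501010002901102188622404809002811000140424000000e000000000200000000100420000000000006000004000000000000000000000000000000000000000000000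
set_option linter.all false
open scoped Cfsg.Agent.FastGrp

/-!
# S5258 (PU-L1a): the fixed space of the opposite Sylow subgroup (helper440)
-/

set_option autoImplicit false

namespace Cfsg.Agent.H440.PU

open Cfsg Cfsg.FusionSystem Cfsg.Agent.H756.PU

universe u

variable {K : Type u} [Field K] [StarRing K] {p n : ℕ}

section

variable (h : HypK K p n)
include h

/-- the elements `t / t*` are many -/
theorem card_quot_star : p ^ n + 1 ≤ Nat.card {x : K // ∃ t : K, t ≠ 0 ∧ x = t * (star t)⁻¹} := by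
  classical
  have := h.fin
  have hq := one_lt_q h
  let f : Kˣ →* Kˣ :=
    { toFun := fun t => t * (Units.map (starRingEnd K : K →* K) t)⁻¹
      map_one' := by simp
      map_mul' := fun s t => by
        rw [map_mul, mul_inv]
        exact mul_mul_mul_comm _ _ _ _ }
  have hf : ∀ t : Kˣ, ((f t : Kˣ) : K) = t * (star (t : K))⁻¹ := by
    intro t
    show ((t * (Units.map (starRingEnd K : K →* K) t)⁻¹ : Kˣ) : K) = _
    rw [Units.val_mul, Units.val_inv_eq_inv_val]
    rfl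
  have h1 : Nat.card f.ker ≤ p ^ n - 1 := by
    have h2 : Nat.card f.ker ≤ Nat.card {x : Fx K // x ≠ 0} := by
      refine Nat.card_le_card_of_injective (fun t => ⟨⟨((t : Kˣ) : K), ?_⟩, ?_⟩) ?_
      · have h3 := congrArg Units.val (MonoidHom.mem_ker.1 t.2)
        rw [hf, Units.val_one] at h3
        have h4 : star ((t : Kˣ) : K) ≠ 0 := star_ne_zero.2 (Units.ne_zero _)
        have h5 := (mul_inv_eq_one₀ h4).1 h3
        exact h5.symm
      · intro h3
        exact Units.ne_zero (t : Kˣ) (congrArg Subtype.val h3)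
      · intro s t hst
        apply Subtype.ext
        apply Units.ext
        have h3 := congrArg (fun x : {x : Fx K // x ≠ 0} => ((x : Fx K) : K)) hst
        exact h3
    refine h2.trans ?_
    have : Fintype (Fx K) := Fintype.ofFinite _
    rw [Nat.card_eq_fintype_card, Fintype.card_subtype_compl, Fintype.card_subtype_eq, ← Nat.card_eq_fintype_card,
      card_Fx h]
  have h2 : Nat.card f.ker * Nat.card f.range = (p ^ n + 1) * (p ^ n - 1) := by
    rw [← Nat.card_congr (QuotientGroup.quotientKerEquivRange f).toEquiv, mul_comm,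
      ← Subgroup.card_eq_card_quotient_mul_card_subgroup, Nat.card_units, h.card, ← Nat.sq_sub_sq, one_pow]
  have h3 : p ^ n + 1 ≤ Nat.card f.range := by
    have h4 : (p ^ n - 1) * (p ^ n + 1) ≤ (p ^ n - 1) * Nat.card f.range := by
      rw [mul_comm (p ^ n - 1) (p ^ n + 1), ← h2]
      exact Nat.mul_le_mul_right _ h1
    exact Nat.le_of_mul_le_mul_left h4 (by omega)
  refine h3.trans (Nat.card_le_card_of_injective (fun x => ⟨((x : Kˣ) : K), ?_⟩) ?_)
  · obtain ⟨t, ht⟩ := x.2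
    exact ⟨t, t.ne_zero, by rw [← hf, ht]⟩
  · intro x y hxy
    exact Subtype.ext (Units.ext (Subtype.mk.inj hxy))

/-- an additive subgroup invariant under all `t / t*` is trivial -/
theorem inv_sub (J : AddSubgroup K) (hJ : ∀ t : K, t ≠ 0 → ∀ x ∈ J, t * (star t)⁻¹ * x ∈ J) : J = ⊥ ∨ J = ⊤ := by
  classical
  have := h.fin
  by_cases h0 : J = ⊥
  · exact Or.inl h0
  right
  obtain ⟨⟨j, hj⟩, hj'⟩ := AddSubgroup.ne_bot_iff_exists_ne_zero.1 h0
  have hj0 : j ≠ 0 := fun hj0 => hj' (Subtype.ext hj0)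
  -- the stabilizer
  let R : Subfield K :=
    { carrier := {x | ∀ y ∈ J, x * y ∈ J}
      mul_mem' := fun {a b} ha hb y hy => by rw [mul_assoc]; exact ha _ (hb _ hy)
      one_mem' := fun y hy => by rw [one_mul]; exact hy
      add_mem' := fun {a b} ha hb y hy => by rw [add_mul]; exact J.add_mem (ha _ hy) (hb _ hy)
      zero_mem' := fun y hy => by rw [zero_mul]; exact J.zero_mem
      neg_mem' := fun {a} ha y hy => by rw [neg_mul]; exact J.neg_mem (ha _ hy)
      inv_mem' := fun a ha y hy => by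
        by_cases ha0 : a = 0
        · rw [ha0, inv_zero, zero_mul]; exact J.zero_mem
        have hinj : Function.Injective (fun x : J => (⟨a * x, ha _ x.2⟩ : J)) := by
          intro x x' hx
          exact Subtype.ext (mul_left_cancel₀ ha0 (Subtype.mk.inj hx))
        obtain ⟨x, hx⟩ := (Finite.injective_iff_surjective.1 hinj) ⟨y, hy⟩
        have h1 : a * x = y := Subtype.mk.inj hx
        rw [← h1, inv_mul_cancel_left₀ ha0]
        exact x.2 }
  have hR : ∀ x : K, x ∈ R ↔ ∀ y ∈ J, x * y ∈ J := fun x => Iff.rfl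
  have hcard : p ^ n + 1 ≤ Nat.card R := by
    refine (card_quot_star h).trans (Nat.card_le_card_of_injective (fun x => ⟨x.1, ?_⟩) ?_)
    · obtain ⟨t, ht, hx⟩ := x.2
      rw [hR, hx]
      exact hJ t ht
    · intro x y hxy
      exact Subtype.ext (Subtype.mk.inj hxy)
  have h1 : Nat.card K = Nat.card R ^ Module.finrank R K := by
    have : Fintype K := Fintype.ofFinite K
    have : Fintype R := Fintype.ofFinite R
    rw [Nat.card_eq_fintype_card, Nat.card_eq_fintype_card]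
    exact Module.card_eq_pow_finrank
  rw [h.card] at h1
  have hq := one_lt_q h
  have hk : Module.finrank R K = 1 := by
    have hk0 : Module.finrank R K ≠ 0 := by
      intro hk
      rw [hk, pow_zero] at h1
      have : 1 < (p ^ n) ^ 2 := Nat.one_lt_pow (by norm_num) hq
      omega
    by_contra hk1
    have h2 : (p ^ n + 1) ^ 2 ≤ Nat.card R ^ Module.finrank R K := by
      calc (p ^ n + 1) ^ 2 ≤ Nat.card R ^ 2 := Nat.pow_le_pow_left hcard 2
        _ ≤ _ := Nat.pow_le_pow_right (by omega) (by omega)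
    rw [← h1] at h2
    have h3 : (p ^ n) ^ 2 < (p ^ n + 1) ^ 2 := Nat.pow_lt_pow_left (by omega) (by norm_num)
    omega
  rw [hk, pow_one, ← h.card] at h1
  have hall : ∀ x : K, x ∈ R := by
    intro x
    have : Function.Surjective (Subtype.val : R → K) := by
      have hb := (Nat.bijective_iff_injective_and_card (Subtype.val : R → K)).2 ⟨Subtype.val_injective, h1.symm⟩
      exact hb.2
    obtain ⟨y, hy⟩ := this x
    rw [← hy]
    exact y.2
  rw [AddSubgroup.eq_top_iff']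
  intro x
  have := (hR (x * j⁻¹)).1 (hall _) j hj
  rwa [inv_mul_cancel_right₀ hj0] at this

/-- **The fixed space of the opposite Sylow subgroup** -/
theorem uf_eq (h3q : 3 ≤ p ^ n) (Uf : Set (K × K × K)) (hadd : ∀ w ∈ Uf, ∀ w' ∈ Uf, w + w' ∈ Uf)
    (hneg : ∀ w ∈ Uf, -w ∈ Uf) (hcard : Nat.card Uf = Nat.card K)
    (hI : ∀ w ∈ Uf, w.1 = 0 → w.2.1 = 0) (hU0 : ¬ ∀ b : K, ((0, 0, b) : K × K × K) ∈ Uf)
    (hiso : ∀ w ∈ Uf, ∀ w' ∈ Uf, om w w' = 0)
    (hD : ∀ t : K, t ≠ 0 → ∀ w ∈ Uf, ((t * t * w.1, t * w.2.1, t * (star t)⁻¹ * w.2.2) : K × K × K) ∈ Uf)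
    (h3 : p ^ n = 3 → ∃ x1 x2 : K, x1 * star x1 = 1 ∧ x2 * star x2 = -1 ∧
      ∀ w ∈ Uf, ((x1 * x2⁻¹ * w.1, x1 * w.2.1, x1 * star x2 * w.2.2) : K × K × K) ∈ Uf) :
    ∀ w : K × K × K, w ∈ Uf ↔ w.2 = 0 := by
  classical
  have := h.fin
  have hKpos : 0 < Nat.card K := Nat.card_pos
  have hne : ∃ w, w ∈ Uf := by
    have : 0 < Nat.card Uf := by rw [hcard]; exact hKpos
    obtain ⟨w⟩ := (Nat.card_pos_iff.1 this).1
    exact ⟨w.1, w.2⟩
  obtain ⟨w0, hw0⟩ := hne
  have hzero : (0 : K × K × K) ∈ Uf := by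
    have := hadd w0 hw0 (-w0) (hneg w0 hw0)
    rwa [add_neg_cancel] at this
  have hsub : ∀ w ∈ Uf, ∀ w' ∈ Uf, w - w' ∈ Uf := fun w hw w' hw' => by
    rw [sub_eq_add_neg]
    exact hadd w hw _ (hneg w' hw')
  -- `J = 0`
  let J : AddSubgroup K :=
    { carrier := {b | ((0, 0, b) : K × K × K) ∈ Uf}
      zero_mem' := hzero
      add_mem' := fun {a b} ha hb => by
        have := hadd _ ha _ hb
        simpa using this
      neg_mem' := fun {a} ha => by
        have := hneg _ ha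
        simpa using this }
  have hJ : J = ⊥ := by
    rcases inv_sub h J (fun t ht x hx => by
      have := hD t ht _ hx
      show ((0, 0, t * (star t)⁻¹ * x) : K × K × K) ∈ Uf
      simpa using this) with h1 | h1
    · exact h1
    · exact absurd (fun b => (h1 ▸ AddSubgroup.mem_top b : b ∈ J)) hU0
  have hz : ∀ w ∈ Uf, w.1 = 0 → w = 0 := by
    intro w hw h1
    have h2 := hI w hw h1
    have h3 : w.2.2 ∈ J := by
      show ((0, 0, w.2.2) : K × K × K) ∈ Uf
      have e : ((0, 0, w.2.2) : K × K × K) = w := by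
        rw [← h1]
        refine Prod.ext rfl (Prod.ext ?_ rfl)
        rw [h1]
        exact h2.symm
      rw [e]
      exact hw
    rw [hJ, AddSubgroup.mem_bot] at h3
    exact Prod.ext h1 (Prod.ext h2 h3)
  have hinj : ∀ w ∈ Uf, ∀ w' ∈ Uf, w.1 = w'.1 → w = w' := by
    intro w hw w' hw' h1
    have := hz (w - w') (hsub w hw w' hw') (by rw [Prod.fst_sub, h1, sub_self])
    exact sub_eq_zero.1 this
  have hsurj : ∀ r : K, ∃ w ∈ Uf, w.1 = r := by
    have hi : Function.Injective (fun w : Uf => w.1.1) := fun w w' hww => Subtype.ext (hinj _ w.2 _ w'.2 hww)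
    have hfin : Finite Uf := Finite.of_injective _ hi
    obtain ⟨-, hs⟩ := (Nat.bijective_iff_injective_and_card _).2 ⟨hi, hcard⟩
    intro r
    obtain ⟨w, hw⟩ := hs r
    exact ⟨w.1, w.2, hw⟩
  choose f hf hf1 using hsurj
  have huniq : ∀ w ∈ Uf, w = f w.1 := fun w hw => hinj _ hw _ (hf _) (hf1 _).symm
  have hfadd : ∀ r r', f (r + r') = f r + f r' := fun r r' => by
    have := huniq (f r + f r') (hadd _ (hf _) _ (hf _))
    rw [Prod.fst_add, hf1, hf1] at this
    exact this.symm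
  have hfD : ∀ t : K, t ≠ 0 → ∀ r, f (t * t * r) = (t * t * r, t * (f r).2.1, t * (star t)⁻¹ * (f r).2.2) := by
    intro t ht r
    have := huniq _ (hD t ht (f r) (hf r))
    rw [hf1] at this
    exact this.symm
  have hf0 : f 0 = 0 := by
    have := huniq 0 hzero
    exact this.symm
  -- enough: both functions vanish
  suffices hs : ∀ r, (f r).2 = 0 by
    intro w
    constructor
    · intro hw
      rw [huniq w hw]
      exact hs _
    · intro hw
      have : w = f w.1 := Prod.ext (hf1 _).symm (by rw [hw, hs])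
      rw [this]
      exact hf _
  -- `q ≥ 4`
  by_cases h4 : p ^ n = 3
  · -- `q = 3`
    obtain ⟨x1, x2, hx1, hx2, hx⟩ := h3 h4
    have hp3 : p = 3 := by
      have h5 : p ∣ 3 := by rw [← h4]; exact dvd_pow_self p (by have := h.hn; omega)
      exact (Nat.prime_dvd_prime_iff_eq h.pp Nat.prime_three).1 h5
    have h30 : (3 : K) = 0 := by
      have := h.char
      have h5 := CharP.cast_eq_zero K p
      rw [hp3] at h5
      exact_mod_cast h5
    have h20 : (2 : K) ≠ 0 := by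
      intro h5
      have : (1 : K) = 0 := by linear_combination h30 - h5
      exact one_ne_zero this
    have hd0 : ∀ r, (f r).2.1 = 0 := by
      intro r
      have h5 := congrArg (fun w : K × K × K => w.2.1) (hfD (-1) (by simp) r)
      simp only [mul_neg, mul_one, neg_neg, neg_mul, one_mul] at h5
      have h6 : 2 * (f r).2.1 = 0 := by linear_combination h5
      exact (mul_eq_zero.1 h6).resolve_left h20
    have he0 : ∀ t, t ≠ 0 → (f (t * t)).2.2 = (f 1).2.2 * star (t * t) := by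
      intro t ht
      have h5 := congrArg (fun w : K × K × K => w.2.2) (hfD t ht 1)
      simp only [mul_one] at h5
      rw [h5, star_mul', h.star_eq, h4]
      have h8 : t ^ 8 = 1 := by
        have : Fintype K := Fintype.ofFinite K
        have h6 := FiniteField.pow_card_sub_one_eq_one t ht
        rw [← Nat.card_eq_fintype_card, h.card, h4] at h6
        exact h6
      field_simp
      linear_combination (-(f 1).2.2) * h8
    have he1 : ∀ r, (f r).2.2 = (f 1).2.2 * star r := by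
      -- additive group generated by the squares
      have hsq : ∀ t, (f (t * t)).2.2 = (f 1).2.2 * star (t * t) := by
        intro t
        by_cases ht : t = 0
        · rw [ht, mul_zero, hf0, star_zero, mul_zero]
          rfl
        · exact he0 t ht
      intro r
      have e1 : ((r + 1) / 2) * ((r + 1) / 2) = r + ((r - 1) / 2) * ((r - 1) / 2) := by
        field_simp
        ring
      have h5 := hsq ((r + 1) / 2)
      rw [e1, hfadd, Prod.snd_add, Prod.snd_add, hsq ((r - 1) / 2), star_add] at h5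
      linear_combination h5
    have hc0 : (f 1).2.2 = 0 := by
      by_contra hc
      have hx20 : x2 ≠ 0 := by
        intro h5
        rw [h5, zero_mul] at hx2
        have : (1 : K) = 0 := by linear_combination hx2
        exact one_ne_zero this
      have h5 := congrArg (fun w : K × K × K => w.2.2) (huniq _ (hx (f 1) (hf 1)))
      simp only [hf1, mul_one] at h5
      rw [he1 (x1 * x2⁻¹)] at h5
      have h6 : x1 * star x2 = star (x1 * x2⁻¹) := by
        apply mul_left_cancel₀ hc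
        rw [← h5, mul_comm]
      rw [star_mul', star_inv₀] at h6
      have hs2 : star x2 ≠ 0 := star_ne_zero.2 hx20
      have h7 : x1 * star x2 * star x2 = star x1 := by
        rw [h6, inv_mul_cancel_right₀ hs2]
      have h8 : (x1 * star x2) * (x1 * star x2) = 1 := by
        linear_combination x1 * h7 + hx1
      have h9 : (x1 * star x2 - 1) * (x1 * star x2 + 1) = 0 := by linear_combination h8
      have h10 : star (x1 * star x2) = x1 * star x2 := by
        rcases mul_eq_zero.1 h9 with h11 | h11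
        · have h12 : x1 * star x2 = 1 := by linear_combination h11
          rw [h12, star_one]
        · have h12 : x1 * star x2 = -1 := by linear_combination h11
          rw [h12, star_neg, star_one]
      rw [star_mul', star_star] at h10
      have h11 : (1 : K) = -1 := by
        linear_combination -h8 - x1 * star x2 * h10 + x2 * star x2 * hx1 + hx2
      have : (2 : K) = 0 := by linear_combination h11
      exact h20 this
    intro r
    refine Prod.ext (hd0 r) ?_
    rw [he1, hc0, zero_mul]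
    rfl
  · -- `q ≥ 4`
    obtain ⟨t, ht, ht0, ht1⟩ : ∃ t : K, star t = t ∧ t ≠ 0 ∧ t * t ≠ 1 := by
      by_contra hc
      push Not at hc
      have h5 : Nat.card (Fx K) ≤ 3 := by
        have h6 : Nat.card (Fx K) ≤ Nat.card (({0, 1, -1} : Finset K) : Set K) := by
          refine Nat.card_le_card_of_injective (fun x => ⟨x.1, ?_⟩) ?_
          · by_cases hx0 : (x : K) = 0
            · simp [hx0]
            · have h7 := hc x.1 x.2 hx0
              have h8 : ((x : K) - 1) * ((x : K) + 1) = 0 := by linear_combination h7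
              rcases mul_eq_zero.1 h8 with h9 | h9
              · have : (x : K) = 1 := by linear_combination h9
                simp [this]
              · have : (x : K) = -1 := by linear_combination h9
                simp [this]
          · intro x y hxy
            exact Subtype.ext (Subtype.mk.inj hxy)
        refine h6.trans ?_
        rw [Nat.card_coe_set_eq, Set.ncard_coe_finset]
        exact Finset.card_le_three
      rw [card_Fx h] at h5
      omega
    have he0 : ∀ r, (f r).2.2 = 0 := by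
      intro r
      have ht2 : t * t - 1 ≠ 0 := sub_ne_zero.2 ht1
      have h5 : ∀ s, (f (t * t * s)).2.2 = (f s).2.2 := by
        intro s
        have h6 := congrArg (fun w : K × K × K => w.2.2) (hfD t ht0 s)
        simp only [ht] at h6
        rw [h6, mul_inv_cancel₀ ht0, one_mul]
      have h6 := h5 ((t * t - 1)⁻¹ * r)
      have e1 : t * t * ((t * t - 1)⁻¹ * r) = (t * t - 1)⁻¹ * r + r := by
        linear_combination mul_inv_cancel_left₀ ht2 r
      rw [e1, hfadd, Prod.snd_add, Prod.snd_add] at h6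
      exact (left_eq_add.1 h6.symm)
    have hd0 : ∀ r, (f r).2.1 = 0 := by
      by_contra hc
      push Not at hc
      obtain ⟨r0, hr0⟩ := hc
      obtain ⟨x, hx⟩ := exists_not_fixed h
      -- all values are reached
      have hall : ∀ y : K, y ≠ 0 → ∃ r, (f r).2.1 = y := by
        intro y hy
        have h6 := congrArg (fun w : K × K × K => w.2.1) (hfD (y * (f r0).2.1⁻¹) (mul_ne_zero hy (inv_ne_zero hr0)) r0)
        simp only at h6
        rw [inv_mul_cancel_right₀ hr0] at h6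
        exact ⟨_, h6⟩
      obtain ⟨r1, h1⟩ := hall 1 one_ne_zero
      have hx0 : x ≠ 0 := by
        rintro rfl
        exact hx (star_zero K)
      obtain ⟨r2, h2⟩ := hall x hx0
      have h7 := hiso (f r2) (hf _) (f r1) (hf _)
      simp only [om, hh, he0, h1, h2, star_zero, star_one, mul_zero, zero_mul, mul_one, add_zero, zero_add] at h7
      exact hx (sub_eq_zero.1 h7)
    intro r
    exact Prod.ext (hd0 r) (he0 r)

end

end Cfsg.Agent.H440.PU
end

-- part: H440/PU/Norm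
section
prune_inst 0xc4206204016202000018001632002000680004020023000041600f020240c3232507070108c037029112aa7020090028111001494078000004008e004001010004a8520eb208a10427009e809884000000000000000000000000000000000000000000000
set_option linter.all false
open scoped Cfsg.Agent.FastGrp

/-!
# S5258 (PU-L1a): the kernel of the action on `W` and the normalizer of the Sylow subgroup (helper440)
-/

set_option autoImplicit false

namespace Cfsg.Agent.H440.PU

open Cfsg Cfsg.FusionSystem Cfsg.Agent.H756.PU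

universe u v

variable {K : Type u} [Field K] [StarRing K] {p n : ℕ}

theorem tor_mem {α : MulAut (UG K)} {x1 x2 : K} {τ : K ≃+* K} (hα : IsTor α x1 x2 τ) (e : UG K) :
    e ∈ Q1 K ↔ α e ∈ Q1 K := by
  show (e.u2 = 0 ∧ e.c = 0) ↔ ((α e).u2 = 0 ∧ (α e).c = 0)
  rw [hα.u2, hα.c]
  have h1 := hα.ne2
  have h2 : star x2 ≠ 0 := star_ne_zero.2 h1
  simp [h1, h2]

/-- restriction to `Q₁` -/
def res (α : MulAut (UG K)) (hα : ∀ e, e ∈ Q1 K ↔ α e ∈ Q1 K) : MulAut (Q1 K) where
  toFun e := ⟨α e, (hα e).1 e.2⟩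
  invFun e := ⟨α.symm e, (hα _).2 (by rw [α.apply_symm_apply]; exact e.2)⟩
  left_inv e := Subtype.ext (α.symm_apply_apply _)
  right_inv e := Subtype.ext (α.apply_symm_apply _)
  map_mul' e f := Subtype.ext (map_mul α _ _)

theorem res_isR (α : MulAut (UG K)) (hα : ∀ e, e ∈ Q1 K ↔ α e ∈ Q1 K) : IsR α (res α hα) := fun _ => rfl

theorem tor_ext {α β : MulAut (UG K)} {x1 x2 : K} {τ : K ≃+* K} (hα : IsTor α x1 x2 τ) (hβ : IsTor β x1 x2 τ) :
    α = β := by
  refine MulEquiv.ext fun g => UG.ext ?_ ?_ ?_ ?_ ?_ ?_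
  · rw [hα.r, hβ.r]
  · rw [hα.u1, hβ.u1]
  · rw [hα.u2, hβ.u2]
  · rw [hα.a, hβ.a]
  · rw [hα.b, hβ.b]
  · rw [hα.c, hβ.c]

section

variable (h : HypK K p n)

theorem rho_tor {α : MulAut (UG K)} {x1 x2 : K} {τ : K ≃+* K} (hα : IsTor α x1 x2 τ) {δ : MulAut (Q1 K)}
    (hδ : IsR α δ) (w : K × K × K) :
    rho h δ w = (x1 * x2⁻¹ * τ w.1, x1 * τ w.2.1, x1 * star x2 * τ w.2.2) := by
  obtain ⟨e, rfl⟩ := exists_lift h w
  rw [rho_pr]
  unfold pr
  rw [hδ e, hα.r, hα.u1, hα.b]

variable {Γ : Subgroup (MulAut (Q1 K))} {D : Subgroup (MulAut (UG K))} (hP : Par p (Q1 K) Γ D)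
include hP

/-- the kernel of `Γ` on `W` is contained in `Aut_S(Q₁)` -/
theorem ker_mem {γ : MulAut (Q1 K)} (hγ : γ ∈ Γ) (h1 : rho h γ = 1) : γ ∈ autInducedBy ⊤ (Q1 K) := by
  let R : Subgroup (MulAut (Q1 K)) := Γ ⊓ (rho h).ker
  have hR : IsPGroup p R := by
    rintro ⟨x, hx⟩
    exact ⟨1, Subtype.ext (by rw [pow_one]; exact pow_of_rho_eq_one h hx.2)⟩
  obtain ⟨g, hg, hgR⟩ := hP.syl R inf_le_left hR
  have h2 : g⁻¹ * γ * g ∈ R := by
    refine Subgroup.mem_inf.2 ⟨Γ.mul_mem (Γ.mul_mem (Γ.inv_mem hg) hγ) hg, ?_⟩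
    rw [MonoidHom.mem_ker, map_mul, map_mul, h1, mul_one, map_inv, inv_mul_cancel]
  have h3 := hgR _ h2
  have h4 : g * (g⁻¹ * γ * g) * g⁻¹ = γ := by group
  rwa [h4] at h3

theorem normAut_of {γ : MulAut (Q1 K)} (hγ : γ ∈ Γ) (h1 : ∀ x ∈ Pt h, rho h γ * x * (rho h γ)⁻¹ ∈ Pt h) :
    NormAut ⊤ γ := by
  intro x hx
  have h2 := h1 (rho h x) ⟨x, hx, rfl⟩
  obtain ⟨a, ha, hax⟩ := h2
  have h3 : rho h (a⁻¹ * (γ * x * γ⁻¹)) = 1 := by
    rw [map_mul, map_inv, hax, map_mul, map_mul, map_inv, inv_mul_cancel]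
  have h4 := ker_mem h hP (mul_mem (inv_mem (hP.indu ha)) (mul_mem (mul_mem hγ (hP.indu hx)) (inv_mem hγ))) h3
  have h5 := mul_mem ha h4
  rwa [mul_inv_cancel_left] at h5

theorem norm_form (hG : StGrp.{u}) {γ : MulAut (Q1 K)} (hγ : γ ∈ Γ)
    (h1 : ∀ x ∈ Pt h, rho h γ * x * (rho h γ)⁻¹ ∈ Pt h) :
    ∃ z : UG K, ∃ d ∈ D, ∃ δ : MulAut (Q1 K), IsR d δ ∧ γ = cj z * δ ∧ ∃ x1 x2 τ, IsTor d x1 x2 τ := by
  obtain ⟨z, d, hd, hz⟩ := hP.norm γ hγ (normAut_of h hP hγ h1)
  obtain ⟨x1, x2, τ, ht⟩ := (hG h).2.2.2.1 d (hP.D_le hd)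
  refine ⟨z, d, hd, res d (tor_mem ht), fun e => rfl, ?_, x1, x2, τ, ht⟩
  refine MulEquiv.ext fun e => Subtype.ext ?_
  rw [hz e]
  rfl

/-- elements of `G` preserving the line `U₀` normalize `P` -/
theorem conj_mem_of_U0 {g : Equiv.Perm (K × K × K)} (hg : g ∈ Gt h Γ) (hU0 : g '' U0s K = U0s K)
    {x : Equiv.Perm (K × K × K)} (hx : x ∈ Pt h) : g * x * g⁻¹ ∈ Pt h :=
  conj_mem_of_image h hP hg hU0 (image_U1_of h hg hU0) hx

theorem mem_norm_of_U0 {g : Gt h Γ} (hU0 : (g : Equiv.Perm (K × K × K)) '' U0s K = U0s K) :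
    g ∈ Subgroup.normalizer ((Sy h hP : Subgroup (Gt h Γ)) : Set (Gt h Γ)) := by
  have hinv : ((g⁻¹ : Gt h Γ) : Equiv.Perm (K × K × K)) '' U0s K = U0s K := by
    conv_lhs => rw [← hU0]
    rw [← Set.image_comp]
    convert Set.image_id _
    ext1 w
    exact (g : Equiv.Perm (K × K × K)).symm_apply_apply w
  rw [Subgroup.mem_normalizer_iff]
  intro x
  constructor
  · intro hx
    exact conj_mem_of_U0 h hP g.2 hU0 hx
  · intro hx
    have h1 := conj_mem_of_U0 h hP (g⁻¹).2 hinv hx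
    have h2 : x = g⁻¹ * (g * x * g⁻¹) * g⁻¹⁻¹ := by group
    rw [h2]
    exact h1

theorem U0_of_mem_norm {g : Gt h Γ} (hg : g ∈ Subgroup.normalizer ((Sy h hP : Subgroup (Gt h Γ)) : Set (Gt h Γ))) :
    (g : Equiv.Perm (K × K × K)) '' U0s K = U0s K := by
  rw [Subgroup.mem_normalizer_iff] at hg
  let z : PP K := pp 1 (exists_pp h 1).choose (exists_pp h 1).choose_spec
  have hz1 : phi h z ≠ 1 := by
    intro h0
    have h1 := phi_injective h (h0.trans (map_one _).symm)
    have h2 : (1 : K) = 0 := congrArg (fun y : PP K => (y : UG K).u2) h1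
    exact one_ne_zero h2
  have hz : phi h z ∈ Pt h := cj_mem_Pt h _
  have h3 := (hg ⟨phi h z, Pt_le h hP hz⟩).1 hz
  exact (ti h hP g.2 hz hz1 h3).1

end

end Cfsg.Agent.H440.PU
end

-- part: H440/PU/Opp
section
prune_inst 0x84206204410002000018001220000020680004020020000040200b000a0ad12225030101489029020002a8c04008002811100000420000002a00040000010100008b5204a208a10426009e800000000000000000000000000000000000041000000000000
set_option linter.all false
open scoped Cfsg.Agent.FastGrp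

/-!
# S5258 (PU-L1a): the application of (U3) and the invariant opposite Sylow subgroup (helper440)
-/

set_option autoImplicit false

namespace Cfsg.Agent.H440.PU

open Cfsg Cfsg.FusionSystem Cfsg.Agent.H756.PU
open scoped Pointwise

universe u v

variable {K : Type u} [Field K] [StarRing K] {p n : ℕ}

section

variable (h : HypK K p n) {Γ : Subgroup (MulAut (Q1 K))} {D : Subgroup (MulAut (UG K))}

theorem card_Gt_dvd : Nat.card (Gt h Γ) ∣ Nat.card (GL (Fin (6 * n)) (ZMod p)) := by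
  have hfin := h.fin
  have : Fact p.Prime := ⟨h.pp⟩
  have := h.char
  let _ := ZMod.algebra K p
  have hfr : Module.finrank (ZMod p) (K × K × K) = 6 * n := by
    have h1 := Module.natCard_eq_pow_finrank (K := ZMod p) (V := K × K × K)
    rw [Nat.card_prod, Nat.card_prod, h.card, Nat.card_zmod] at h1
    have h2 : (p ^ n) ^ 2 * ((p ^ n) ^ 2 * (p ^ n) ^ 2) = p ^ (6 * n) := by
      rw [← pow_add, ← pow_add, ← pow_mul]
      congr 1
      ring
    rw [h2] at h1
    exact (Nat.pow_right_injective h.pp.two_le h1).symm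
  let b := Module.finBasisOfFinrankEq (ZMod p) (K × K × K) hfr
  let f : Gt h Γ →* ((K × K × K) →ₗ[ZMod p] (K × K × K)) :=
    { toFun := fun g => AddMonoidHom.toZModLinearMap p (AddMonoidHom.mk' (g : Equiv.Perm (K × K × K)) (Gt_add h g.2))
      map_one' := by
        ext1 <;> rfl
      map_mul' := fun g g' => by
        refine LinearMap.ext fun w => ?_
        rfl }
  let F : Gt h Γ →* GL (Fin (6 * n)) (ZMod p) :=
    MonoidHom.toHomUnits ((LinearMap.toMatrixAlgEquiv b).toRingEquiv.toMulEquiv.toMonoidHom.comp f)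
  have hF : Function.Injective F := by
    intro g g' hgg
    have h1 : LinearMap.toMatrixAlgEquiv b (f g) = LinearMap.toMatrixAlgEquiv b (f g') := congrArg Units.val hgg
    have h2 := (LinearMap.toMatrixAlgEquiv b).injective h1
    refine Subtype.ext (Equiv.ext fun w => ?_)
    exact congrArg (fun l : (K × K × K) →ₗ[ZMod p] (K × K × K) => l w) h2
  exact Subgroup.card_dvd_of_injective F hF

theorem central_form {x : Equiv.Perm (K × K × K)} (hx : x ∈ Pt h) (hc : ∀ z ∈ Pt h, x * z = z * x) :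
    ∃ κ : K, κ + star κ = 0 ∧ ∀ w, x w = (w.1, w.2.1, w.2.2 + κ * w.1) := by
  obtain ⟨z, rfl⟩ := (mem_Pt_iff h x).1 hx
  have hz : z ∈ Subgroup.center (PP K) := by
    rw [Subgroup.mem_center_iff]
    intro z'
    apply phi_injective h
    rw [map_mul, map_mul]
    exact (hc _ (cj_mem_Pt h z')).symm
  rw [center_PP h, mem_ker_ppf] at hz
  refine ⟨star (z : UG K).c, ?_, fun w => ?_⟩
  · have := PP_c_mem hz
    rw [star_star, add_comm]
    exact this
  · rw [rho_cj, hz]
    simp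

/-- `P` preserves the form -/
theorem om_Pt {x : Equiv.Perm (K × K × K)} (hx : x ∈ Pt h) (w w' : K × K × K) : om (x w) (x w') = om w w' := by
  obtain ⟨z, rfl⟩ := (mem_Pt_iff h x).1 hx
  rw [rho_cj, rho_cj]
  have hc := (z : UG K).hc
  simp only [om, hh, star_add, star_sub, star_mul', star_star]
  linear_combination (star w.1 * w'.1 - w.1 * star w'.1) * hc

omit [Field K] [StarRing K] in
theorem image_eq_of_subset [Finite K] {f : Equiv.Perm (K × K × K)} {s : Set (K × K × K)} (hs : ∀ w ∈ s, f w ∈ s) :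
    f '' s = s := by
  refine Set.eq_of_subset_of_ncard_le (Set.image_subset_iff.2 hs) ?_ (Set.toFinite _)
  rw [Set.ncard_image_of_injective _ f.injective]

/-- the isomorphism of the group of pairs with the Sylow subgroup -/
noncomputable def eP (hP : Par p (Q1 K) Γ D) : PP K ≃* (Sy h hP : Subgroup (Gt h Γ)) :=
  ((MonoidHom.ofInjective (phi_injective h)).trans (MulEquiv.subgroupCongr (phi_range h))).trans
    (Subgroup.subgroupOfEquivOfLe (Pt_le h hP)).symm

include h in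
theorem DQ (hG : StGrp.{u}) (hP : Par p (Q1 K) Γ D) {d : MulAut (UG K)} (hd : d ∈ D) (e : UG K) :
    e ∈ Q1 K ↔ d e ∈ Q1 K := by
  obtain ⟨x1, x2, τ, ht⟩ := (hG h).2.2.2.1 d (hP.D_le hd)
  exact tor_mem ht e

/-- the action of `D` on `W` -/
noncomputable def thD (hG : StGrp.{u}) (hP : Par p (Q1 K) Γ D) : D →* Gt h Γ where
  toFun d := ⟨rho h (res d (DQ h hG hP d.2)), ⟨_, hP.D_res d d.2 _ (res_isR _ _), rfl⟩⟩
  map_one' := Subtype.ext (by
    show rho h _ = 1
    rw [← map_one (rho h)]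
    congr 1)
  map_mul' d d' := Subtype.ext (by
    show rho h _ = rho h _ * rho h _
    rw [← map_mul]
    congr 1)

theorem tor_U0 {α : MulAut (UG K)} {x1 x2 : K} {τ : K ≃+* K} (hα : IsTor α x1 x2 τ) {δ : MulAut (Q1 K)}
    (hδ : IsR α δ) : rho h δ '' U0s K = U0s K := by
  have hfin := h.fin
  apply image_eq_of_subset
  rintro w ⟨h1, h2⟩
  rw [rho_tor h hα hδ, h1, h2]
  refine ⟨?_, ?_⟩ <;> simp

/-- the facts about the opposite Sylow subgroup -/
theorem opp_facts (hU3 : StU3.{u}) (hG : StGrp.{u}) (h2 : p ^ n ≠ 2) (hP : Par p (Q1 K) Γ D) :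
    ∃ nu x y' : Equiv.Perm (K × K × K), nu ∈ Gt h Γ ∧ x ∈ Pt h ∧ (∀ z ∈ Pt h, x * z = z * x) ∧ y' ∈ Pt h ∧
      (∀ z ∈ Pt h, y' * z = z * y') ∧ nu = x * (nu * y' * nu⁻¹) * x ∧ nu '' U0s K ≠ U0s K ∧
      nu '' (nu '' U0s K) = U0s K ∧
      (∀ d ∈ D, ∀ δ : MulAut (Q1 K), IsR d δ → rho h δ '' (nu '' U0s K) = nu '' U0s K) ∧
      (∀ g ∈ Gt h Γ, g '' U0s K ≠ U0s K → ∃ x ∈ Pt h, ∃ m ∈ Gt h Γ, m '' U0s K = U0s K ∧ g = x * nu * m) ∧
      (p ^ n = 3 → ∃ g ∈ Gt h Γ, g '' U0s K = U0s K ∧ (∀ w w', om (g w) (g w') = om w w') ∧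
        ∀ k : ℕ, 0 < k → k < 8 → ∃ x ∈ Pt h, ∃ y ∈ Pt h,
          (g ^ k * x * (g ^ k)⁻¹ * x⁻¹) * y ≠ y * (g ^ k * x * (g ^ k)⁻¹ * x⁻¹)) := by
  have hfin := h.fin
  have hfact : Fact p.Prime := ⟨h.pp⟩
  have hq : 2 < p ^ n := by
    have := one_lt_q h
    omega
  obtain ⟨f1, f2, f3, f4⟩ := heis_facts h (eP h hP)
  have hsm : ∀ (g : Gt h Γ) (Q : Sylow p (Gt h Γ)),
      ((g • Q : Sylow p (Gt h Γ)) : Subgroup (Gt h Γ)) = (Q : Subgroup (Gt h Γ)).map (MulAut.conj g).toMonoidHom :=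
    fun g Q => rfl
  have hnn : ¬ (Sy h hP : Subgroup (Gt h Γ)).Normal := by
    intro hn
    apply hP.nn
    intro γ hγ
    apply normAut_of h hP hγ
    intro x hx
    exact hn.conj_mem ⟨x, Pt_le h hP hx⟩ hx ⟨rho h γ, γ, hγ, rfl⟩
  obtain ⟨a1, a2, a3⟩ := hU3 (G := Gt h Γ) (n := n) (Sy h hP) h.hn hq (by
    intro g hg x hx hgx
    by_contra hx1
    apply hg
    apply mem_norm_of_U0
    exact (ti h hP g.2 hx (fun h0 => hx1 (Subtype.ext h0)) hgx).1) hnn f1 f2 f3 f4 (card_Gt_dvd h)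
  -- a Sylow subgroup different from `P`
  obtain ⟨P0, hP0⟩ : ∃ P0 : Sylow p (Gt h Γ), P0 ≠ Sy h hP := by
    by_contra hall
    push Not at hall
    apply hnn
    rw [← Subgroup.normalizer_eq_top_iff, eq_top_iff]
    intro g _
    exact Sylow.smul_eq_iff_mem_normalizer.1 (hall (g • Sy h hP))
  have hnorm : ∀ g : Gt h Γ, g • Sy h hP = Sy h hP ↔ (g : Equiv.Perm (K × K × K)) '' U0s K = U0s K := by
    intro g
    rw [Sylow.smul_eq_iff_mem_normalizer]
    exact ⟨U0_of_mem_norm h hP, mem_norm_of_U0 h hP⟩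
  have hPn : ∀ g ∈ (Sy h hP : Subgroup (Gt h Γ)), g • Sy h hP = Sy h hP := by
    intro g hg
    rw [Sylow.smul_eq_iff_mem_normalizer]
    exact Subgroup.le_normalizer hg
  let A : Subgroup (Gt h Γ) := (thD h hG hP).range
  have hAn : ∀ a ∈ A, a • Sy h hP = Sy h hP := by
    rintro _ ⟨d, rfl⟩
    obtain ⟨x1, x2, τ, ht⟩ := (hG h).2.2.2.1 d (hP.D_le d.2)
    rw [hnorm]
    exact tor_U0 h ht (res_isR _ _)
  have hcop : (Nat.card A).Coprime (Nat.card (Sy h hP : Subgroup (Gt h Γ))) := by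
    rw [f1]
    refine Nat.Coprime.pow_right _ (Nat.Coprime.pow_right _ ?_)
    exact Nat.Coprime.coprime_dvd_left (Subgroup.card_range_dvd _) hP.D_cop
  have hsol : Group.IsSolvable (Sy h hP : Subgroup (Gt h Γ)) := by
    have := (Sy h hP).isPGroup'.isNilpotent
    infer_instance
  obtain ⟨x0, hx0, hA⟩ := H562.FpfWeights.glauberman (Sy h hP : Subgroup (Gt h Γ)) A (by
    intro a ha y hy
    have h3 := Sylow.smul_eq_iff_mem_normalizer.1 (hAn a ha)
    exact (Subgroup.mem_normalizer_iff.1 h3 y).1 hy) hcop hsol P0 (by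
    intro a ha
    have h3 : a • P0 ≠ Sy h hP := by
      intro h0
      apply hP0
      rw [← hAn a ha] at h0
      exact MulAction.injective a h0
    obtain ⟨x, hx, hx2⟩ := a1 P0 (a • P0) hP0 h3
    exact ⟨x, hx, Sylow.ext (by rw [hsm x P0, hx2])⟩)
  have hPm : x0 • P0 ≠ Sy h hP := by
    intro h0
    apply hP0
    rw [← hPn x0 hx0] at h0
    exact MulAction.injective x0 h0
  obtain ⟨Pm, hPmdef⟩ : ∃ Pm, Pm = x0 • P0 := ⟨_, rfl⟩
  rw [← hPmdef] at hPm
  obtain ⟨x, y, hx, hxc, hy, hyc, hn1, hn2⟩ := a2 Pm hPm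
  obtain ⟨nu, hnu⟩ : ∃ nu, nu = x * y * x := ⟨_, rfl⟩
  rw [← hnu] at hn1 hn2
  have hm1 : nu • Sy h hP = Pm := Sylow.ext (by rw [hsm, hn1])
  have hm2 : nu • Pm = Sy h hP := Sylow.ext (by rw [hsm, hn2])
  have hyP : nu⁻¹ * y * nu ∈ (Sy h hP : Subgroup (Gt h Γ)) := by
    rw [← hn1] at hy
    obtain ⟨y', hy', hyy⟩ := hy
    have h3 : nu * y' * nu⁻¹ = y := hyy
    rw [← h3]
    have h4 : nu⁻¹ * (nu * y' * nu⁻¹) * nu = y' := by group
    rw [h4]
    exact hy'
  refine ⟨nu, x, ((nu⁻¹ * y * nu : Gt h Γ) : Equiv.Perm (K × K × K)), nu.2, hx, ?_, hyP, ?_, ?_, ?_, ?_, ?_, ?_, ?_⟩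
  · intro z hz
    exact congrArg Subtype.val (hxc ⟨z, Pt_le h hP hz⟩ hz)
  · intro z hz
    let z1 : Gt h Γ := ⟨z, Pt_le h hP hz⟩
    have h3 : nu * z1 * nu⁻¹ ∈ (Pm : Subgroup (Gt h Γ)) := by
      rw [← hn1]
      exact ⟨z1, hz, rfl⟩
    have h4 := hyc _ h3
    have h5 : nu⁻¹ * y * nu * z1 = z1 * (nu⁻¹ * y * nu) := by
      have e1 : nu⁻¹ * y * nu * z1 = nu⁻¹ * (y * (nu * z1 * nu⁻¹)) * nu := by group
      have e2 : z1 * (nu⁻¹ * y * nu) = nu⁻¹ * ((nu * z1 * nu⁻¹) * y) * nu := by group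
      rw [e1, e2, h4]
    exact congrArg Subtype.val h5
  · have h3 : nu = x * (nu * (nu⁻¹ * y * nu) * nu⁻¹) * x := by
      have e1 : nu * (nu⁻¹ * y * nu) * nu⁻¹ = y := by group
      rw [e1, hnu]
    exact congrArg Subtype.val h3
  · intro h0
    apply hPm
    rw [← hm1, hnorm]
    exact h0
  · have h3 : (nu * nu) • Sy h hP = Sy h hP := by rw [mul_smul, hm1, hm2]
    rw [hnorm] at h3
    rw [← Set.image_comp]
    exact h3
  · intro d hd δ hδ
    let a : Gt h Γ := thD h hG hP ⟨d, hd⟩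
    have ha : a • Pm = Pm := by
      rw [hPmdef]
      exact hA a ⟨_, rfl⟩
    have h3 : (nu⁻¹ * a * nu) • Sy h hP = Sy h hP := by
      rw [mul_smul, mul_smul, hm1, ha, ← hm1, inv_smul_smul]
    rw [hnorm] at h3
    have h4 : (a : Equiv.Perm (K × K × K)) = rho h δ := by
      show rho h _ = rho h δ
      congr 1
      refine MulEquiv.ext fun e => Subtype.ext ?_
      rw [hδ e]
      rfl
    rw [← h4]
    have h5 : (nu : Equiv.Perm (K × K × K)) '' ((nu⁻¹ * a * nu : Gt h Γ) '' U0s K) = nu '' U0s K := by rw [h3]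
    rw [← Set.image_comp] at h5 ⊢
    rw [← h5]
    congr 1
    ext1 w
    exact ((nu : Equiv.Perm (K × K × K)).apply_symm_apply _).symm
  · intro g hg hgU
    let g1 : Gt h Γ := ⟨g, hg⟩
    have h3 : g1 • Sy h hP ≠ Sy h hP := fun h0 => hgU ((hnorm g1).1 h0)
    obtain ⟨x', hx', hx2⟩ := a1 Pm (g1 • Sy h hP) hPm h3
    have h4 : x' • Pm = g1 • Sy h hP := Sylow.ext (by rw [hsm x' Pm, hx2])
    let m : Gt h Γ := (x' * nu)⁻¹ * g1
    have h5 : m • Sy h hP = Sy h hP := by
      show ((x' * nu)⁻¹ * g1) • Sy h hP = Sy h hP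
      rw [mul_smul, ← h4, ← hm1, ← mul_smul x', inv_smul_smul]
    refine ⟨x', hx', m, m.2, (hnorm m).1 h5, ?_⟩
    have h6 : g1 = x' * nu * m := by
      show g1 = x' * nu * ((x' * nu)⁻¹ * g1)
      rw [mul_inv_cancel_left]
    exact congrArg Subtype.val h6
  · intro h3
    obtain ⟨g, hg, hgn, hk⟩ := a3 h3
    refine ⟨g, g.2, U0_of_mem_norm h hP hg, ?_, ?_⟩
    · let N : Subgroup (Gt h Γ) :=
        { carrier := {g | ∀ w w', om ((g : Equiv.Perm (K × K × K)) w) ((g : Equiv.Perm (K × K × K)) w') = om w w'}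
          one_mem' := fun w w' => rfl
          mul_mem' := by
            intro a b ha hb w w'
            show om ((a : Equiv.Perm (K × K × K)) ((b : Equiv.Perm (K × K × K)) w))
              ((a : Equiv.Perm (K × K × K)) ((b : Equiv.Perm (K × K × K)) w')) = om w w'
            rw [ha, hb]
          inv_mem' := by
            intro a ha w w'
            have key : ∀ w, (a : Equiv.Perm (K × K × K)) ((a⁻¹ : Gt h Γ).1 w) = w := fun w =>
              (a : Equiv.Perm (K × K × K)).apply_symm_apply w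
            have := ha ((a⁻¹ : Gt h Γ).1 w) ((a⁻¹ : Gt h Γ).1 w')
            rw [key, key] at this
            exact this.symm }
      have hN : N.Normal := by
        constructor
        intro f hf g w w'
        obtain ⟨γ, hγ, hγg⟩ := g.2
        have key : ∀ w, (g : Equiv.Perm (K × K × K)) ((g⁻¹ : Gt h Γ).1 w) = w := fun w =>
          (g : Equiv.Perm (K × K × K)).apply_symm_apply w
        have h4 := om_eq_of h γ (hf ((g⁻¹ : Gt h Γ).1 w) ((g⁻¹ : Gt h Γ).1 w'))
        rw [hγg, key, key] at h4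
        exact h4
      have hPN : ((Sy h hP : Subgroup (Gt h Γ)) : Set (Gt h Γ)) ⊆ N := fun x hx => om_Pt h hx
      exact Subgroup.normalClosure_le_normal hPN hgn
    · intro k hk0 hk8
      obtain ⟨x, hx, y, hy, hxy⟩ := hk k hk0 hk8
      refine ⟨x, hx, y, hy, fun h0 => hxy (Subtype.ext h0)⟩

end

end Cfsg.Agent.H440.PU

private theorem dce_695f9aadf69e : _root_.True := by
  try have : _root_.True := by simp only [_root_.Cfsg.Agent.H440.PU.Sy.congr_simp]
  exact _root_.True.intro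
end

-- part: H440/PU/Geo
section
prune_inst 0xc4202204116200000000001632002000680004020020000000200f020200c30005020100089015029082aa004009002811100140426000000e00000000000100002812048008a100220090000084000000000000000000000000000000000000000000000
set_option linter.all false
open scoped Cfsg.Agent.FastGrp

/-!
# S5258 (PU-L1a): the Weyl element (helper440)
-/

set_option autoImplicit false

namespace Cfsg.Agent.H440.PU

open Cfsg Cfsg.FusionSystem Cfsg.Agent.H756.PU

universe u v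

variable {K : Type u} [Field K] [StarRing K] {p n : ℕ}

/-- the automorphisms of the field with nine elements -/
theorem tau_cases (h : HypK K p n) (h3 : p ^ n = 3) :
    (∀ t : K, star t = t → t = 0 ∨ t = 1 ∨ t = -1) ∧
    ∀ τ : K ≃+* K, (∀ x, τ (star x) = star (τ x)) → (∀ x, τ x = x) ∨ (∀ x, τ x = star x) := by
  have hst : ∀ x : K, star x = x ^ 3 := fun x => by rw [h.star_eq, h3]
  have hch3 : (3 : K) = 0 := by
    have := h.char
    have hp3 : p = 3 := by
      have h1 : p ∣ 3 := h3 ▸ dvd_pow_self p (by have := h.hn; omega)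
      exact (Nat.prime_dvd_prime_iff_eq h.pp Nat.prime_three).1 h1
    have h1 := CharP.cast_eq_zero K p
    rw [hp3] at h1
    exact_mod_cast h1
  obtain ⟨i, hi0, hi⟩ := exists_T0 h
  have hsq : ∀ t : K, t ≠ 0 → t + star t = 0 → t ^ 2 = -1 := by
    intro t ht0 ht
    rw [hst] at ht
    have h1 : t * (t ^ 2 + 1) = 0 := by linear_combination ht
    have h2 := (mul_eq_zero.1 h1).resolve_left ht0
    linear_combination h2
  have hpm : ∀ t : K, t + star t = 0 → t = 0 ∨ t = i ∨ t = -i := by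
    intro t ht
    by_cases ht0 : t = 0
    · exact Or.inl ht0
    · right
      have h1 := hsq t ht0 ht
      have h2 := hsq i hi0 hi
      have h4 : (t - i) * (t + i) = 0 := by linear_combination h1 - h2
      rcases mul_eq_zero.1 h4 with h5 | h5
      · left; linear_combination h5
      · right; linear_combination h5
  have hfx : ∀ t : K, star t = t → t = 0 ∨ t = 1 ∨ t = -1 := by
    intro t ht
    rw [hst] at ht
    have h4 : t * ((t - 1) * (t + 1)) = 0 := by linear_combination ht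
    rcases mul_eq_zero.1 h4 with h5 | h5
    · exact Or.inl h5
    · rcases mul_eq_zero.1 h5 with h5 | h5
      · right; left; linear_combination h5
      · right; right; linear_combination h5
  refine ⟨hfx, ?_⟩
  intro τ hτ
  have hτfx : ∀ t, star t = t → τ t = t := by
    intro t ht
    rcases hfx t ht with h1 | h1 | h1 <;> simp [h1]
  have hdec : ∀ x : K, star (-(x + star x)) = -(x + star x) ∧ (-(x - star x)) + star (-(x - star x)) = 0 ∧
      x = -(x + star x) + -(x - star x) := by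
    intro x
    refine ⟨?_, ?_, ?_⟩
    · rw [star_neg, star_add, star_star]; ring
    · rw [star_neg, star_sub, star_star]; ring
    · linear_combination x * hch3
  have hτi : τ i + star (τ i) = 0 := by rw [← hτ, ← map_add, hi, map_zero]
  rcases hpm (τ i) hτi with h1 | h1 | h1
  · exact absurd h1 (by simpa using hi0)
  · left
    intro x
    obtain ⟨h4, h5, h6⟩ := hdec x
    have h7 : ∀ t, t + star t = 0 → τ t = t := by
      intro t ht
      rcases hpm t ht with h8 | h8 | h8 <;> simp [h8, h1]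
    calc τ x = τ (-(x + star x) + -(x - star x)) := by rw [← h6]
      _ = -(x + star x) + -(x - star x) := by rw [map_add, hτfx _ h4, h7 _ h5]
      _ = x := h6.symm
  · right
    intro x
    obtain ⟨h4, h5, h6⟩ := hdec x
    have h7 : ∀ t, t + star t = 0 → τ t = -t := by
      intro t ht
      rcases hpm t ht with h8 | h8 | h8 <;> simp [h8, h1]
    calc τ x = τ (-(x + star x) + -(x - star x)) := by rw [← h6]
      _ = -(x + star x) + -(-(x - star x)) := by rw [map_add, hτfx _ h4, h7 _ h5]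
      _ = star x := by linear_combination (-star x) * hch3

/-- conjugation of `S` by `D` -/
theorem conj_cj {d : MulAut (UG K)} {δ : MulAut (Q1 K)} (hδ : IsR d δ) (y : UG K) : δ * cj y = cj (d y) * δ := by
  refine MulEquiv.ext fun e => Subtype.ext ?_
  rw [MulAut.mul_apply, MulAut.mul_apply, hδ, cj_coe, cj_coe, hδ, map_mul, map_mul, map_inv]

section

variable (h : HypK K p n) {Γ : Subgroup (MulAut (Q1 K))} {D : Subgroup (MulAut (UG K))}

/-- the case `q = 3` -/
theorem q3_elt (hG : StGrp.{u}) (hP : Par p (Q1 K) Γ D) (h3 : p ^ n = 3) (Uf : Set (K × K × K))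
    (hUD : ∀ d ∈ D, ∀ δ : MulAut (Q1 K), IsR d δ → rho h δ '' Uf = Uf)
    (H : ∃ g ∈ Gt h Γ, g '' U0s K = U0s K ∧ (∀ w w', om (g w) (g w') = om w w') ∧
        ∀ k : ℕ, 0 < k → k < 8 → ∃ x ∈ Pt h, ∃ y ∈ Pt h,
          (g ^ k * x * (g ^ k)⁻¹ * x⁻¹) * y ≠ y * (g ^ k * x * (g ^ k)⁻¹ * x⁻¹)) :
    ∃ x1 x2 : K, x1 * star x1 = 1 ∧ x2 * star x2 = -1 ∧
      ∀ w ∈ Uf, ((x1 * x2⁻¹ * w.1, x1 * w.2.1, x1 * star x2 * w.2.2) : K × K × K) ∈ Uf := by
  obtain ⟨_, ⟨γ, hγ, rfl⟩, hgU, hgom, hk⟩ := H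
  obtain ⟨z, d, hd, δ, hδ, rfl, x1, x2, τ, ht⟩ := norm_form h hP hG hγ
    (fun x hx => conj_mem_of_U0 h hP ⟨_, hγ, rfl⟩ hgU hx)
  obtain ⟨hfx, htau⟩ := tau_cases h h3
  -- the action on `P / Z(P)`
  have hact : ∀ (k : ℕ) (y : UG K), ∃ y' : UG K,
      rho h (cj z * δ) ^ k * rho h (cj y) = rho h (cj y') * rho h (cj z * δ) ^ k ∧
        y'.u2 = (fun s => x2 * τ s)^[k] y.u2 := by
    intro k y
    induction k with
    | zero => exact ⟨y, by simp, rfl⟩
    | succ k ih =>
      obtain ⟨y', h4, h5⟩ := ih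
      refine ⟨z * d y' * z⁻¹, ?_, ?_⟩
      · rw [pow_succ', mul_assoc, h4, ← mul_assoc, ← map_mul, mul_assoc, conj_cj hδ]
        have e1 : cj z * (cj (d y') * δ) = cj (z * d y' * z⁻¹) * (cj z * δ) := by
          have e2 : cj z * (cj (d y') * δ) = cj (z * d y') * δ := by rw [cj_mul, mul_assoc]
          have e3 : cj (z * d y' * z⁻¹) * (cj z * δ) = cj (z * d y') * δ := by
            rw [← mul_assoc, ← cj_mul, inv_mul_cancel_right]
          rw [e2, e3]
        rw [e1, map_mul, mul_assoc]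
      · rw [Function.iterate_succ_apply', ← h5, UG.mul_u2, UG.mul_u2, UG.inv_u2, ht.u2]
        ring
  have h4ne : ¬ ∀ s : K, (fun s => x2 * τ s)^[4] s = s := by
    intro hall
    obtain ⟨x, hx, y, hy, hne⟩ := hk 4 (by norm_num) (by norm_num)
    apply hne
    obtain ⟨a, rfl⟩ := (mem_Pt_iff h x).1 hx
    obtain ⟨b, rfl⟩ := (mem_Pt_iff h y).1 hy
    obtain ⟨a', h5, h6⟩ := hact 4 (a : UG K)
    have h7 : rho h (cj z * δ) ^ 4 * rho h (cj (a : UG K)) * (rho h (cj z * δ) ^ 4)⁻¹ * (rho h (cj (a : UG K)))⁻¹ =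
        rho h (cj (a' * (a : UG K)⁻¹)) := by
      rw [h5, mul_inv_cancel_right, ← map_inv, ← map_mul]
      congr 1
      rw [cj_mul]
      congr 1
      rw [inv_eq_iff_mul_eq_one, ← cj_mul, mul_inv_cancel, cj_one]
    rw [h7]
    have h8 : (a' * (a : UG K)⁻¹).u2 = 0 := by
      rw [UG.mul_u2, UG.inv_u2, h6, hall]
      ring
    ext1 w
    rw [Equiv.Perm.mul_apply, Equiv.Perm.mul_apply, rho_cj, rho_cj, rho_cj, rho_cj, h8]
    refine Prod.ext rfl (Prod.ext ?_ ?_)
    · simp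
    · simp only [star_zero, zero_mul, sub_zero, add_zero]
      ring
  -- the norm of `x2`
  have hN : ∀ x : K, star (x * star x) = x * star x := fun x => by rw [star_mul', star_star, mul_comm]
  have hN2 : (x2 * star x2) = 1 ∨ x2 * star x2 = -1 := by
    rcases hfx _ (hN x2) with h5 | h5 | h5
    · exact absurd h5 (mul_ne_zero ht.ne2 (star_ne_zero.2 ht.ne2))
    · exact Or.inl h5
    · exact Or.inr h5
  rcases htau τ ht.tst with hτ | hτ
  · have h2 : x2 * star x2 = -1 := by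
      refine hN2.resolve_left fun h5 => h4ne fun s => ?_
      simp only [Function.iterate_succ_apply, Function.iterate_zero, id, hτ]
      rw [h.star_eq, h3] at h5
      linear_combination s * h5
    have h1 : x1 * star x1 = 1 := by
      obtain ⟨v, hv⟩ := exists_not_fixed h
      have h5 := hgom (0, 1, 0) (0, v, 0)
      rw [map_mul, Equiv.Perm.mul_apply, Equiv.Perm.mul_apply, om_Pt h (cj_mem_Pt h z), rho_tor h ht hδ,
        rho_tor h ht hδ] at h5
      simp only [om, hh, hτ, star_zero, mul_zero, add_zero, zero_add, mul_one, one_mul, star_mul', star_star] at h5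
      have h6 : (x1 * star x1 - 1) * (star v - v) = 0 := by linear_combination -h5
      have h7 := (mul_eq_zero.1 h6).resolve_right (sub_ne_zero.2 hv)
      linear_combination h7
    refine ⟨x1, x2, h1, h2, fun w hw => ?_⟩
    have h5 : rho h δ w ∈ Uf := by
      rw [← hUD d hd δ hδ]
      exact ⟨w, hw, rfl⟩
    rw [rho_tor h ht hδ, hτ, hτ, hτ] at h5
    exact h5
  · exfalso
    apply h4ne
    intro s
    simp only [Function.iterate_succ_apply, Function.iterate_zero, id, hτ, star_mul', star_star]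
    rcases hN2 with h5 | h5
    · linear_combination (x2 * star x2 + 1) * s * h5
    · linear_combination (x2 * star x2 - 1) * s * h5

/-- **the Weyl element** -/
theorem nu_facts (hU3 : StU3.{u}) (hG : StGrp.{u}) (h2 : p ^ n ≠ 2) (hP : Par p (Q1 K) Γ D)
    (hT : HasTor D (fun t => t) (fun t => t⁻¹)) :
    ∃ nu : Equiv.Perm (K × K × K), nu ∈ Gt h Γ ∧
      (∃ κ : K, κ ≠ 0 ∧ κ + star κ = 0 ∧ ∀ w, nu w = (-κ⁻¹ * w.2.2, w.2.1, κ * w.1)) ∧
      (∀ g ∈ Gt h Γ, g '' U0s K ≠ U0s K → ∃ x ∈ Pt h, ∃ m ∈ Gt h Γ, m '' U0s K = U0s K ∧ g = x * nu * m) := by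
  have hfin := h.fin
  obtain ⟨nu, x, y', hnu, hx, hxc, hy', hyc, hnueq, hnU, hnnU, hUD, hP1, hP3⟩ := opp_facts h hU3 hG h2 hP
  refine ⟨nu, hnu, ?_, hP1⟩
  obtain ⟨κ, hκ, hxw⟩ := central_form h hx hxc
  obtain ⟨κ', hκ', hyw⟩ := central_form h hy' hyc
  have hsym : ∀ v, nu (nu.symm v) = v := fun v => nu.apply_symm_apply v
  have hsym' : ∀ v, nu.symm (nu v) = v := fun v => nu.symm_apply_apply v
  obtain ⟨y, hy⟩ : ∃ y : Equiv.Perm (K × K × K), y = nu * y' * nu⁻¹ := ⟨_, rfl⟩
  rw [← hy] at hnueq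
  have hyG : y ∈ Gt h Γ := by
    rw [hy]
    exact mul_mem (mul_mem hnu (Pt_le h hP hy')) (inv_mem hnu)
  have hyap : ∀ v, y v = nu (y' (nu.symm v)) := fun v => by rw [hy]; rfl
  have hnuap : ∀ w, nu w = x (y (x w)) := fun w => by
    conv_lhs => rw [hnueq]
    rfl
  have yfix : ∀ v ∈ nu '' U1s K, y v = v := by
    rintro _ ⟨v, hv, rfl⟩
    have h0 : v.1 = 0 := hv
    rw [hyap, hsym', hyw, h0, mul_zero, add_zero]
    congr 1
    exact Prod.ext h0.symm rfl
  have ysub : ∀ v, y v - v ∈ nu '' U0s K := by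
    intro v
    refine ⟨y' (nu.symm v) - nu.symm v, ⟨?_, ?_⟩, ?_⟩
    · rw [hyw, Prod.fst_sub, sub_self]
    · rw [hyw, Prod.snd_sub, Prod.fst_sub, sub_self]
    · rw [Gt_sub h hnu, hsym, hyap]
  have hUU : nu '' U0s K ⊆ nu '' U1s K := Set.image_mono fun w hw => hw.1
  have hUf : ∀ w : K × K × K, w ∈ nu '' U0s K ↔ w.2 = 0 := by
    apply uf_eq h
    · have := one_lt_q h
      omega
    · rintro _ ⟨w, hw, rfl⟩ _ ⟨w', hw', rfl⟩
      refine ⟨w + w', ⟨?_, ?_⟩, Gt_add h hnu _ _⟩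
      · rw [Prod.fst_add, hw.1, hw'.1, add_zero]
      · rw [Prod.snd_add, Prod.fst_add, hw.2, hw'.2, add_zero]
    · rintro _ ⟨w, hw, rfl⟩
      refine ⟨-w, ⟨?_, ?_⟩, Gt_neg h hnu _⟩
      · rw [Prod.fst_neg, hw.1, neg_zero]
      · rw [Prod.snd_neg, Prod.fst_neg, hw.2, neg_zero]
    · rw [Nat.card_coe_set_eq, Set.ncard_image_of_injective _ nu.injective, ncard_U0s h]
    · intro w hw hw1
      have h3 : nu w = w := by
        have e1 : x w = w := by
          rw [hxw, hw1, mul_zero, add_zero]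
          exact Prod.ext hw1.symm rfl
        rw [hnuap, e1, yfix w (hUU hw), e1]
      have h4 : nu w ∈ U0s K := by
        rw [← hnnU]
        exact ⟨w, hw, rfl⟩
      rw [h3] at h4
      exact h4.2
    · intro hall
      apply hnU
      symm
      refine Set.eq_of_subset_of_ncard_le ?_ ?_ (Set.toFinite _)
      · rintro ⟨w1, w2, w3⟩ ⟨h3, h4⟩
        have h3' : w1 = 0 := h3
        have h4' : w2 = 0 := h4
        rw [h3', h4']
        exact hall w3
      · rw [Set.ncard_image_of_injective _ nu.injective]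
    · rintro _ ⟨w, hw, rfl⟩ _ ⟨w', hw', rfl⟩
      rw [Gt_perp h hnu]
      exact (mem_U0s_iff h w).1 hw w' hw'.1
    · intro t ht w hw
      obtain ⟨α, hα⟩ := (hG h).2.2.1 t t⁻¹ (RingEquiv.refl K) ht (inv_ne_zero ht)
      have hαD : α ∈ D := hT t ht α hα
      have h3 : rho h (res α (tor_mem hα)) w ∈ nu '' U0s K := by
        rw [← hUD α hαD _ (res_isR α (tor_mem hα))]
        exact ⟨w, hw, rfl⟩
      rw [rho_tor h hα (res_isR _ _)] at h3
      simp only [RingEquiv.refl_apply, inv_inv, star_inv₀] at h3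
      exact h3
    · intro h3
      exact q3_elt h hG hP h3 _ hUD (hP3 h3)
  have hU1f : ∀ w : K × K × K, w.2.2 = 0 → w ∈ nu '' U1s K := by
    intro w hw
    refine ⟨nu.symm w, ?_, hsym w⟩
    rw [mem_U1s_iff h]
    intro v hv
    rw [← Gt_perp h hnu, hsym]
    have h3 := (hUf (nu v)).1 ⟨v, hv, rfl⟩
    have h4 : (nu v).2.1 = 0 := congrArg Prod.fst h3
    have h5 : (nu v).2.2 = 0 := congrArg Prod.snd h3
    simp only [om, hh, h4, h5, hw, star_zero, mul_zero, zero_mul, add_zero, sub_zero]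
  have hphi : ∀ b : K, b + κ * (y (0, 0, b)).1 = 0 ∧ y (0, 0, b) = ((y (0, 0, b)).1, 0, b) := by
    intro b
    have h3 := (hUf _).1 (ysub (0, 0, b))
    have h4 : (y (0, 0, b)).2 = (0, b) := by
      rw [Prod.snd_sub] at h3
      exact sub_eq_zero.1 h3
    have h5 : y (0, 0, b) = ((y (0, 0, b)).1, 0, b) := Prod.ext rfl h4
    have h6 : nu (0, 0, b) ∈ nu '' U0s K := ⟨_, ⟨rfl, rfl⟩, rfl⟩
    rw [hUf, hnuap] at h6
    have h7 : x (0, 0, b) = (0, 0, b) := by
      rw [hxw]
      simp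
    rw [h7, hxw, h4] at h6
    exact ⟨congrArg Prod.snd h6, h5⟩
  have hκ0 : κ ≠ 0 := by
    intro h0
    have h3 := (hphi 1).1
    rw [h0, zero_mul, add_zero] at h3
    exact one_ne_zero h3
  have hyfull : ∀ w : K × K × K, y w = (w.1 - κ⁻¹ * w.2.2, w.2.1, w.2.2) := by
    intro w
    have h3 : w = (w.1, w.2.1, 0) + (0, 0, w.2.2) := by
      refine Prod.ext ?_ (Prod.ext ?_ ?_) <;> simp
    obtain ⟨h4, h5⟩ := hphi w.2.2
    have h6 : (y (0, 0, w.2.2)).1 = -κ⁻¹ * w.2.2 := by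
      field_simp
      linear_combination h4
    rw [h6] at h5
    conv_lhs => rw [h3]
    rw [Gt_add h hyG, yfix _ (hU1f _ rfl), h5]
    refine Prod.ext ?_ (Prod.ext ?_ ?_)
    · simp [sub_eq_add_neg]
    · simp
    · simp
  refine ⟨κ, hκ0, hκ, fun w => ?_⟩
  rw [hnuap, hxw, hyfull, hxw]
  refine Prod.ext ?_ (Prod.ext rfl ?_)
  · field_simp
    ring
  · field_simp
    ring

end

end Cfsg.Agent.H440.PU
end

-- part: H440/PU/Main
section
prune_inst 0xc4206204516200000818001630002000680004020020000050200f02024ad3022507010108903d021082aa5060090008111000400268000004000c000002010000a91204a008a000220096002084000000000000000000000000000000041000000000000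
set_option linter.all false
open scoped Cfsg.Agent.FastGrp

/-!
# S5258: (L1a) for `q > 2` (helper440)
-/

set_option autoImplicit false

namespace Cfsg.Agent.H440.PU

open Cfsg Cfsg.FusionSystem Cfsg.Agent.H756.PU

universe u v

variable {K : Type u} [Field K] [StarRing K] {p n : ℕ}

section

variable (h : HypK K p n)

theorem rho_W1 {κ : K} {γ : MulAut (Q1 K)} (hγ : IsW1 κ γ) (w : K × K × K) :
    rho h γ w = (-κ⁻¹ * w.2.2, w.2.1, κ * w.1) := by
  obtain ⟨e, rfl⟩ := exists_lift h w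
  rw [rho_pr]
  unfold pr
  rw [hγ.r, hγ.u1, hγ.b]

theorem exists_mm (s c : K) (hc : c + star c + s * star s = 0) :
    ∃ f ∈ Pt h, ∀ w : K × K × K, f w = (w.1, w.2.1 - s * w.1, w.2.2 + star s * w.2.1 + c * w.1) := by
  refine ⟨rho h (cj (pp s (star c) (by rw [star_star]; linear_combination hc) : PP K)), cj_mem_Pt h _, fun w => ?_⟩
  rw [rho_cj]
  show (w.1, w.2.1 - s * w.1, w.2.2 + star s * w.2.1 + star (star c) * w.1) = _
  rw [star_star]

variable {Γ : Subgroup (MulAut (Q1 K))} {D : Subgroup (MulAut (UG K))}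

theorem W1_mem (hP : Par p (Q1 K) Γ D) {nu : Equiv.Perm (K × K × K)} (hnu : nu ∈ Gt h Γ) {κ : K} (hκ0 : κ ≠ 0)
    (hκ : κ + star κ = 0) (hw : ∀ w, nu w = (-κ⁻¹ * w.2.2, w.2.1, κ * w.1)) {κ' : K} {γ : MulAut (Q1 K)}
    (hγ : IsW1 κ' γ) : rho h γ ∈ Gt h Γ := by
  have hκ'0 := hγ.ne
  have hκ' := hγ.tr
  have hsκ : star κ = -κ := by linear_combination hκ
  have hsκ' : star κ' = -κ' := by linear_combination hκ'
  obtain ⟨f, hf, hfw⟩ := exists_mm h 0 κ' (by rw [hκ', zero_mul, zero_add])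
  obtain ⟨g, hg, hgw⟩ := exists_mm h 0 (κ * κ * κ'⁻¹) (by
    rw [star_mul', star_mul', star_inv₀, hsκ, hsκ', inv_neg]
    ring)
  have hinv : ∀ w, nu⁻¹ w = (κ⁻¹ * w.2.2, w.2.1, -κ * w.1) := by
    intro w
    show nu.symm w = _
    rw [Equiv.symm_apply_eq, hw]
    refine Prod.ext ?_ (Prod.ext rfl ?_)
    · field_simp
    · field_simp
  have key : rho h γ = f * (nu * g * nu⁻¹) * f := by
    ext1 w
    rw [rho_W1 h hγ, Equiv.Perm.mul_apply, Equiv.Perm.mul_apply, Equiv.Perm.mul_apply, Equiv.Perm.mul_apply, hfw, hinv,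
      hgw, hw, hfw]
    simp only [star_zero, zero_mul, add_zero, sub_zero]
    refine Prod.ext ?_ (Prod.ext rfl ?_)
    · field_simp
      ring
    · field_simp
      ring
  rw [key]
  have hfG := Pt_le h hP hf
  exact mul_mem (mul_mem hfG (mul_mem (mul_mem hnu (Pt_le h hP hg)) (inv_mem hnu))) hfG

/-- the torus of `SU₃` -/
theorem ht_mem (hP : Par p (Q1 K) Γ D) {nu : Equiv.Perm (K × K × K)} (hnu : nu ∈ Gt h Γ) {κ : K} (hκ0 : κ ≠ 0)
    (hκ : κ + star κ = 0) (hw : ∀ w, nu w = (-κ⁻¹ * w.2.2, w.2.1, κ * w.1)) {t : K} (ht : t ≠ 0) :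
    ∃ f ∈ Gt h Γ, ∀ w, f w = (t⁻¹ * w.1, t * (star t)⁻¹ * w.2.1, star t * w.2.2) := by
  have hsκ : star κ = -κ := by linear_combination hκ
  have hst : star t ≠ 0 := star_ne_zero.2 ht
  obtain ⟨s, hs⟩ := exists_norm h (a := κ * (star t)⁻¹ - κ * t⁻¹) (by
    rw [star_sub, star_mul', star_mul', star_inv₀, star_inv₀, star_star, hsκ]
    ring)
  have hs' : s * star s * (t * star t) = κ * t - κ * star t := by
    rw [hs]
    field_simp
  obtain ⟨f1, hf1, hw1⟩ := exists_mm h (s * t) (κ * star t) (by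
    rw [star_mul', star_star, hsκ, star_mul']
    linear_combination hs')
  obtain ⟨f2, hf2, hw2⟩ := exists_mm h s (κ * t⁻¹) (by
    rw [star_mul', star_inv₀, hsκ, hs]
    ring)
  obtain ⟨f3, hf3, hw3⟩ := exists_mm h (-(s * star t)) (κ * star t) (by
    rw [star_mul', star_star, hsκ, star_neg, star_mul', star_star]
    linear_combination hs')
  have hinv : ∀ w, nu⁻¹ w = (κ⁻¹ * w.2.2, w.2.1, -κ * w.1) := by
    intro w
    show nu.symm w = _
    rw [Equiv.symm_apply_eq, hw]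
    refine Prod.ext ?_ (Prod.ext rfl ?_)
    · field_simp
    · field_simp
  refine ⟨f1 * nu * f2 * nu⁻¹ * f3 * nu⁻¹, ?_, fun w => ?_⟩
  · have g1 := Pt_le h hP hf1
    have g2 := Pt_le h hP hf2
    have g3 := Pt_le h hP hf3
    exact mul_mem (mul_mem (mul_mem (mul_mem (mul_mem g1 hnu) g2) (inv_mem hnu)) g3) (inv_mem hnu)
  · simp only [Equiv.Perm.mul_apply, hw1, hw2, hw3, hinv, hw, star_neg, star_mul', star_star]
    refine Prod.ext ?_ (Prod.ext ?_ ?_)
    · field_simp
      linear_combination (-w.2.2) * hs'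
    · field_simp
      linear_combination (star t * s * w.2.2 + κ * w.2.1) * hs'
    · field_simp
      linear_combination (-(-(κ * w.1) - star s * t * w.2.1 + star t * w.2.2)) * hs'

/-- elements of `G` normalizing `P` -/
theorem normal_form (hG : StGrp.{u}) (hP : Par p (Q1 K) Γ D) {g : Equiv.Perm (K × K × K)} (hg : g ∈ Gt h Γ)
    (hU : g '' U0s K = U0s K) :
    ∃ z : UG K, ∃ d ∈ D, ∃ δ : MulAut (Q1 K), IsR d δ ∧ g = rho h (cj z * δ) ∧ ∃ x1 x2 τ, IsTor d x1 x2 τ := by
  obtain ⟨γ, hγ, rfl⟩ := hg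
  obtain ⟨z, d, hd, δ, hδ, h1, h2⟩ := norm_form h hP hG hγ (fun x hx => conj_mem_of_U0 h hP ⟨_, hγ, rfl⟩ hU hx)
  exact ⟨z, d, hd, δ, hδ, by rw [h1], h2⟩

include h in
/-- **(L1a) for `q > 2`** -/
theorem l1a_main (hU3 : StU3.{u}) (hG : StGrp.{u}) (h2 : p ^ n ≠ 2) (hP : Par p (Q1 K) Γ D)
    (hT : HasTor D (fun t => t) (fun t => t⁻¹)) :
    HasTor D (fun t => t * (star t)⁻¹) (fun t => t ^ 2 * (star t)⁻¹) ∧
    (∀ l ∈ Lam1 K, ∃ γ ∈ Γ, ∀ e : Q1 K, ((γ e : Q1 K) : UG K).r = ((l e : Q1 K) : UG K).r ∧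
      ((γ e : Q1 K) : UG K).u1 = ((l e : Q1 K) : UG K).u1 ∧ ((γ e : Q1 K) : UG K).b = ((l e : Q1 K) : UG K).b) ∧
    (∀ γ ∈ Γ, ∃ l ∈ Lam1 K, ∃ d ∈ D, ∃ δ : MulAut (Q1 K), IsR d δ ∧
      ∀ e : Q1 K, ((γ e : Q1 K) : UG K).r = (((l * δ) e : Q1 K) : UG K).r ∧
      ((γ e : Q1 K) : UG K).u1 = (((l * δ) e : Q1 K) : UG K).u1 ∧
      ((γ e : Q1 K) : UG K).b = (((l * δ) e : Q1 K) : UG K).b) := by
  have hfin := h.fin
  obtain ⟨nu, hnu, ⟨κ, hκ0, hκ, hw⟩, hP1⟩ := nu_facts h hU3 hG h2 hP hT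
  have hcoord : ∀ {γ γ' : MulAut (Q1 K)}, rho h γ = rho h γ' → ∀ e : Q1 K,
      ((γ e : Q1 K) : UG K).r = ((γ' e : Q1 K) : UG K).r ∧ ((γ e : Q1 K) : UG K).u1 = ((γ' e : Q1 K) : UG K).u1 ∧
      ((γ e : Q1 K) : UG K).b = ((γ' e : Q1 K) : UG K).b := by
    intro γ γ' h1 e
    have h3 := pr_of_rho h h1 e
    exact ⟨congrArg (fun w : K × K × K => w.1) h3, congrArg (fun w : K × K × K => w.2.1) h3,
      congrArg (fun w : K × K × K => w.2.2) h3⟩
  refine ⟨?_, ?_, ?_⟩
  · intro t ht α hα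
    obtain ⟨f, hf, hfw⟩ := ht_mem h hP hnu hκ0 hκ hw ht
    have hfU : f '' U0s K = U0s K := by
      apply image_eq_of_subset
      rintro w ⟨h3, h4⟩
      rw [hfw, h3, h4]
      exact ⟨mul_zero _, mul_zero _⟩
    obtain ⟨z, d, hd, δ, hδ, hfz, x1, x2, τ, hτ⟩ := normal_form h hG hP hf hfU
    have hst : star t ≠ 0 := star_ne_zero.2 ht
    have key : ∀ w : K × K × K, (t⁻¹ * w.1, t * (star t)⁻¹ * w.2.1, star t * w.2.2) =
        rho h (cj z) (rho h δ w) := by
      intro w
      rw [← hfw, hfz, map_mul]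
      rfl
    have hst2 : star x2 ≠ 0 := star_ne_zero.2 hτ.ne2
    have e3 : x1 * star x2 = star t := by
      have h3 := congrArg (fun w : K × K × K => w.2.2) (key (0, 0, 1))
      rw [rho_cj, rho_tor h hτ hδ] at h3
      simp only [map_zero, mul_zero, add_zero, map_one, mul_one] at h3
      exact h3.symm
    have eτ : ∀ b, τ b = b := by
      intro b
      have h3 := congrArg (fun w : K × K × K => w.2.2) (key (0, 0, b))
      rw [rho_cj, rho_tor h hτ hδ] at h3
      simp only [map_zero, mul_zero, add_zero] at h3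
      rw [e3] at h3
      exact (mul_left_cancel₀ hst h3).symm
    have e1 : x1 = t * (star t)⁻¹ := by
      have h3 := congrArg (fun w : K × K × K => w.2.1) (key (0, 1, 0))
      rw [rho_cj, rho_tor h hτ hδ] at h3
      simp only [map_zero, mul_zero, sub_zero, map_one, mul_one] at h3
      exact h3.symm
    have e2 : x2 = t ^ 2 * (star t)⁻¹ := by
      have h3 := congrArg (fun w : K × K × K => w.1) (key (1, 0, 0))
      rw [rho_cj, rho_tor h hτ hδ] at h3
      simp only [map_one, mul_one] at h3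
      have hx2 := hτ.ne2
      have h4 : x2 = t * x1 := by
        field_simp at h3
        linear_combination h3
      rw [h4, e1]
      ring
    have hτ1 : τ = RingEquiv.refl K := RingEquiv.ext eτ
    rw [hτ1, e1, e2] at hτ
    rw [tor_ext hα hτ]
    exact hd
  · intro l hl
    have h3 : Lam1 K ≤ (Gt h Γ).comap (rho h) := by
      refine sup_le (fun x hx => Pt_le h hP ⟨x, hx, rfl⟩) ?_
      rw [Subgroup.closure_le]
      rintro γ ⟨κ', hγ⟩
      exact W1_mem h hP hnu hκ0 hκ hw hγ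
    obtain ⟨γ, hγ, h4⟩ := h3 hl
    exact ⟨γ, hγ, hcoord h4⟩
  · intro γ hγ
    have hcjL : ∀ z : UG K, cj z ∈ Lam1 K := fun z => Subgroup.mem_sup_left (cj_mem z)
    by_cases hU : rho h γ '' U0s K = U0s K
    · obtain ⟨z, d, hd, δ, hδ, h3, -⟩ := normal_form h hG hP ⟨γ, hγ, rfl⟩ hU
      exact ⟨cj z, hcjL z, d, hd, δ, hδ, hcoord h3⟩
    · obtain ⟨x, hx, m, hm, hmU, h3⟩ := hP1 _ ⟨γ, hγ, rfl⟩ hU
      obtain ⟨z, d, hd, δ, hδ, h4, -⟩ := normal_form h hG hP hm hmU
      obtain ⟨y, hy⟩ := (mem_Pt_iff h x).1 hx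
      obtain ⟨ω, hω⟩ := (hG h).2.2.2.2.2 κ hκ0 hκ
      have h5 : nu = rho h ω := by
        ext1 w
        rw [hw, rho_W1 h hω]
      refine ⟨cj y * ω * cj z, ?_, d, hd, δ, hδ, hcoord ?_⟩
      · exact mul_mem (mul_mem (hcjL _) (Subgroup.mem_sup_right (Subgroup.subset_closure ⟨κ, hω⟩))) (hcjL _)
      · rw [h3, h4, hy, h5]
        simp only [map_mul, mul_assoc]

end

/-- **PU-L1a**: (L1a) for `q > 2` from (U3) and (GRP) -/
theorem l1a_of (hU3 : StU3.{u}) (hG : StGrp.{u}) :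
    ∀ {K : Type u} [Field K] [StarRing K] {p n : ℕ}, HypK K p n → p ^ n ≠ 2 →
      ∀ (Γ : Subgroup (MulAut (Q1 K))) (D : Subgroup (MulAut (UG K))), Par p (Q1 K) Γ D →
      HasTor D (fun t => t) (fun t => t⁻¹) →
      HasTor D (fun t => t * (star t)⁻¹) (fun t => t ^ 2 * (star t)⁻¹) ∧
      (∀ l ∈ Lam1 K, ∃ γ ∈ Γ, ∀ e : Q1 K, ((γ e : Q1 K) : UG K).r = ((l e : Q1 K) : UG K).r ∧
        ((γ e : Q1 K) : UG K).u1 = ((l e : Q1 K) : UG K).u1 ∧ ((γ e : Q1 K) : UG K).b = ((l e : Q1 K) : UG K).b) ∧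
      (∀ γ ∈ Γ, ∃ l ∈ Lam1 K, ∃ d ∈ D, ∃ δ : MulAut (Q1 K), IsR d δ ∧
        ∀ e : Q1 K, ((γ e : Q1 K) : UG K).r = (((l * δ) e : Q1 K) : UG K).r ∧
        ((γ e : Q1 K) : UG K).u1 = (((l * δ) e : Q1 K) : UG K).u1 ∧
        ((γ e : Q1 K) : UG K).b = (((l * δ) e : Q1 K) : UG K).b) :=
  fun h h2 _ _ hP hT => l1a_main h hU3 hG h2 hP hT

end Cfsg.Agent.H440.PU
end

-- part: H567/PU/Suj
section
prune_inst 0xc4006204716202000818001632002020680004020020400070200f020b4fd322a54721014a903d029896bed06809002811100140426800000e000c0000010120808a4200a308010426009f800084000000000000000000000000000000041000000000000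
set_option linter.all false
open scoped Cfsg.Agent.FastGrp

/-!
# S5258 [PU-REAL-a]: the group `SUJ K` (helper567)

`SUJ K` is the special unitary group of the form with the antidiagonal Gram matrix `J` on `K⁵`, basis
`e₁, e₂, d, f₂, f₁`; `emb : UG K →* SUJ K` is the group of the upper unitriangular matrices in it.
-/

set_option autoImplicit false

namespace Cfsg.Agent.H567.PU

open Matrix Cfsg.Agent.H756.PU

universe u

/-- equality of two literals -/
theorem eq5 {R : Type*} {a00 a01 a02 a03 a04 a10 a11 a12 a13 a14 a20 a21 a22 a23 a24 a30 a31 a32 a33 a34 a40 a41 a42 a43 a44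
    b00 b01 b02 b03 b04 b10 b11 b12 b13 b14 b20 b21 b22 b23 b24 b30 b31 b32 b33 b34 b40 b41 b42 b43 b44 : R}
    (h00 : a00 = b00) (h01 : a01 = b01) (h02 : a02 = b02) (h03 : a03 = b03) (h04 : a04 = b04)
    (h10 : a10 = b10) (h11 : a11 = b11) (h12 : a12 = b12) (h13 : a13 = b13) (h14 : a14 = b14)
    (h20 : a20 = b20) (h21 : a21 = b21) (h22 : a22 = b22) (h23 : a23 = b23) (h24 : a24 = b24)
    (h30 : a30 = b30) (h31 : a31 = b31) (h32 : a32 = b32) (h33 : a33 = b33) (h34 : a34 = b34)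
    (h40 : a40 = b40) (h41 : a41 = b41) (h42 : a42 = b42) (h43 : a43 = b43) (h44 : a44 = b44) :
    (!![a00, a01, a02, a03, a04; a10, a11, a12, a13, a14; a20, a21, a22, a23, a24; a30, a31, a32, a33, a34; a40, a41, a42, a43, a44] : Matrix (Fin 5) (Fin 5) R) =
      !![b00, b01, b02, b03, b04; b10, b11, b12, b13, b14; b20, b21, b22, b23, b24; b30, b31, b32, b33, b34; b40, b41, b42, b43, b44] := by
  subst h00 h01 h02 h03 h04 h10 h11 h12 h13 h14 h20 h21 h22 h23 h24 h30 h31 h32 h33 h34 h40 h41 h42 h43 h44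
  rfl

/-- a matrix is the literal of its entries -/
theorem eta5 {R : Type*} (M : Matrix (Fin 5) (Fin 5) R) :
    M = !![M 0 0, M 0 1, M 0 2, M 0 3, M 0 4; M 1 0, M 1 1, M 1 2, M 1 3, M 1 4; M 2 0, M 2 1, M 2 2, M 2 3, M 2 4; M 3 0, M 3 1, M 3 2, M 3 3, M 3 4; M 4 0, M 4 1, M 4 2, M 4 3, M 4 4] := by
  ext i j
  fin_cases i <;> fin_cases j <;> rfl

/-- the product of two literals -/
theorem mul5 {R : Type*} [NonUnitalNonAssocSemiring R] (a00 a01 a02 a03 a04 a10 a11 a12 a13 a14 a20 a21 a22 a23 a24 a30 a31 a32 a33 a34 a40 a41 a42 a43 a44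
    b00 b01 b02 b03 b04 b10 b11 b12 b13 b14 b20 b21 b22 b23 b24 b30 b31 b32 b33 b34 b40 b41 b42 b43 b44 : R) :
    (!![a00, a01, a02, a03, a04; a10, a11, a12, a13, a14; a20, a21, a22, a23, a24; a30, a31, a32, a33, a34; a40, a41, a42, a43, a44] : Matrix (Fin 5) (Fin 5) R) *
      (!![b00, b01, b02, b03, b04; b10, b11, b12, b13, b14; b20, b21, b22, b23, b24; b30, b31, b32, b33, b34; b40, b41, b42, b43, b44] : Matrix (Fin 5) (Fin 5) R) =
      !![a00 * b00 + a01 * b10 + a02 * b20 + a03 * b30 + a04 * b40,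
        a00 * b01 + a01 * b11 + a02 * b21 + a03 * b31 + a04 * b41,
        a00 * b02 + a01 * b12 + a02 * b22 + a03 * b32 + a04 * b42,
        a00 * b03 + a01 * b13 + a02 * b23 + a03 * b33 + a04 * b43,
        a00 * b04 + a01 * b14 + a02 * b24 + a03 * b34 + a04 * b44;
        a10 * b00 + a11 * b10 + a12 * b20 + a13 * b30 + a14 * b40,
        a10 * b01 + a11 * b11 + a12 * b21 + a13 * b31 + a14 * b41,
        a10 * b02 + a11 * b12 + a12 * b22 + a13 * b32 + a14 * b42,
        a10 * b03 + a11 * b13 + a12 * b23 + a13 * b33 + a14 * b43,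
        a10 * b04 + a11 * b14 + a12 * b24 + a13 * b34 + a14 * b44;
        a20 * b00 + a21 * b10 + a22 * b20 + a23 * b30 + a24 * b40,
        a20 * b01 + a21 * b11 + a22 * b21 + a23 * b31 + a24 * b41,
        a20 * b02 + a21 * b12 + a22 * b22 + a23 * b32 + a24 * b42,
        a20 * b03 + a21 * b13 + a22 * b23 + a23 * b33 + a24 * b43,
        a20 * b04 + a21 * b14 + a22 * b24 + a23 * b34 + a24 * b44;
        a30 * b00 + a31 * b10 + a32 * b20 + a33 * b30 + a34 * b40,
        a30 * b01 + a31 * b11 + a32 * b21 + a33 * b31 + a34 * b41,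
        a30 * b02 + a31 * b12 + a32 * b22 + a33 * b32 + a34 * b42,
        a30 * b03 + a31 * b13 + a32 * b23 + a33 * b33 + a34 * b43,
        a30 * b04 + a31 * b14 + a32 * b24 + a33 * b34 + a34 * b44;
        a40 * b00 + a41 * b10 + a42 * b20 + a43 * b30 + a44 * b40,
        a40 * b01 + a41 * b11 + a42 * b21 + a43 * b31 + a44 * b41,
        a40 * b02 + a41 * b12 + a42 * b22 + a43 * b32 + a44 * b42,
        a40 * b03 + a41 * b13 + a42 * b23 + a43 * b33 + a44 * b43,
        a40 * b04 + a41 * b14 + a42 * b24 + a43 * b34 + a44 * b44] :=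
  (eta5 _).trans (eq5
    (Matrix.mul_apply.trans (Fin.sum_univ_five _)) (Matrix.mul_apply.trans (Fin.sum_univ_five _))
    (Matrix.mul_apply.trans (Fin.sum_univ_five _)) (Matrix.mul_apply.trans (Fin.sum_univ_five _))
    (Matrix.mul_apply.trans (Fin.sum_univ_five _)) (Matrix.mul_apply.trans (Fin.sum_univ_five _))
    (Matrix.mul_apply.trans (Fin.sum_univ_five _)) (Matrix.mul_apply.trans (Fin.sum_univ_five _))
    (Matrix.mul_apply.trans (Fin.sum_univ_five _)) (Matrix.mul_apply.trans (Fin.sum_univ_five _))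
    (Matrix.mul_apply.trans (Fin.sum_univ_five _)) (Matrix.mul_apply.trans (Fin.sum_univ_five _))
    (Matrix.mul_apply.trans (Fin.sum_univ_five _)) (Matrix.mul_apply.trans (Fin.sum_univ_five _))
    (Matrix.mul_apply.trans (Fin.sum_univ_five _)) (Matrix.mul_apply.trans (Fin.sum_univ_five _))
    (Matrix.mul_apply.trans (Fin.sum_univ_five _)) (Matrix.mul_apply.trans (Fin.sum_univ_five _))
    (Matrix.mul_apply.trans (Fin.sum_univ_five _)) (Matrix.mul_apply.trans (Fin.sum_univ_five _))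
    (Matrix.mul_apply.trans (Fin.sum_univ_five _)) (Matrix.mul_apply.trans (Fin.sum_univ_five _))
    (Matrix.mul_apply.trans (Fin.sum_univ_five _)) (Matrix.mul_apply.trans (Fin.sum_univ_five _))
    (Matrix.mul_apply.trans (Fin.sum_univ_five _)))

/-- the conjugate transpose of a literal -/
theorem ct5 {R : Type*} [Star R] (a00 a01 a02 a03 a04 a10 a11 a12 a13 a14 a20 a21 a22 a23 a24 a30 a31 a32 a33 a34 a40 a41 a42 a43 a44 : R) :
    (!![a00, a01, a02, a03, a04; a10, a11, a12, a13, a14; a20, a21, a22, a23, a24; a30, a31, a32, a33, a34; a40, a41, a42, a43, a44] : Matrix (Fin 5) (Fin 5) R)ᴴ =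
      !![star a00, star a10, star a20, star a30, star a40; star a01, star a11, star a21, star a31, star a41; star a02, star a12, star a22, star a32, star a42; star a03, star a13, star a23, star a33, star a43; star a04, star a14, star a24, star a34, star a44] :=
  eta5 _

/-- the unit matrix -/
theorem one5 {R : Type*} [Zero R] [One R] :
    (1 : Matrix (Fin 5) (Fin 5) R) = !![1, 0, 0, 0, 0; 0, 1, 0, 0, 0; 0, 0, 1, 0, 0; 0, 0, 0, 1, 0; 0, 0, 0, 0, 1] :=
  eta5 _


variable (K : Type u) [Field K] [StarRing K]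

/-- the Gram matrix -/
def J : Matrix (Fin 5) (Fin 5) K :=
  !![0, 0, 0, 0, 1; 0, 0, 0, 1, 0; 0, 0, 1, 0, 0; 0, 1, 0, 0, 0; 1, 0, 0, 0, 0]

theorem J_mul_J : J K * J K = 1 := by
  simp only [J]
  rw [mul5, one5]
  simp only [mul_zero, mul_one, add_zero, zero_add]

variable {K}

/-- the condition -/
def FJ (M : Matrix (Fin 5) (Fin 5) K) : Prop := M * J K * Mᴴ = J K

theorem FJ.mul {M N : Matrix (Fin 5) (Fin 5) K} (hM : FJ M) (hN : FJ N) : FJ (M * N) := by
  unfold FJ at *
  rw [Matrix.conjTranspose_mul]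
  calc M * N * J K * (Nᴴ * Mᴴ) = M * (N * J K * Nᴴ) * Mᴴ := by simp only [Matrix.mul_assoc]
    _ = J K := by rw [hN, hM]

theorem FJ.one : FJ (1 : Matrix (Fin 5) (Fin 5) K) := by
  unfold FJ
  rw [Matrix.conjTranspose_one, Matrix.one_mul, Matrix.mul_one]

/-- the inverse -/
theorem FJ.inv_left {M : Matrix (Fin 5) (Fin 5) K} (hM : FJ M) : J K * Mᴴ * J K * M = 1 := by
  have h1 : M * (J K * Mᴴ * J K) = 1 := by
    calc M * (J K * Mᴴ * J K) = M * J K * Mᴴ * J K := by simp only [Matrix.mul_assoc]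
      _ = 1 := by rw [hM, J_mul_J]
  exact mul_eq_one_comm.1 h1

theorem FJ.col {M : Matrix (Fin 5) (Fin 5) K} (hM : FJ M) : Mᴴ * J K * M = J K := by
  have h1 := hM.inv_left
  have h2 : J K * (J K * Mᴴ * J K * M) = J K := by rw [h1, Matrix.mul_one]
  calc Mᴴ * J K * M = (J K * J K) * Mᴴ * J K * M := by rw [J_mul_J, Matrix.one_mul]
    _ = J K * (J K * Mᴴ * J K * M) := by simp only [Matrix.mul_assoc]
    _ = J K := h2

private theorem mul_J_apply (M : Matrix (Fin 5) (Fin 5) K) (i j : Fin 5) : (M * J K) i j = M i (Fin.rev j) := by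
  rw [Matrix.mul_apply, Fin.sum_univ_five]
  fin_cases j
  · show M i 0 * 0 + M i 1 * 0 + M i 2 * 0 + M i 3 * 0 + M i 4 * 1 = M i 4
    ring
  · show M i 0 * 0 + M i 1 * 0 + M i 2 * 0 + M i 3 * 1 + M i 4 * 0 = M i 3
    ring
  · show M i 0 * 0 + M i 1 * 0 + M i 2 * 1 + M i 3 * 0 + M i 4 * 0 = M i 2
    ring
  · show M i 0 * 0 + M i 1 * 1 + M i 2 * 0 + M i 3 * 0 + M i 4 * 0 = M i 1
    ring
  · show M i 0 * 1 + M i 1 * 0 + M i 2 * 0 + M i 3 * 0 + M i 4 * 0 = M i 0
    ring

/-- the form on the rows -/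
theorem FJ.row_rel {M : Matrix (Fin 5) (Fin 5) K} (hM : FJ M) (i j : Fin 5) :
    M i 0 * star (M j 4) + M i 1 * star (M j 3) + M i 2 * star (M j 2) + M i 3 * star (M j 1) + M i 4 * star (M j 0) =
      J K i j := by
  have h1 := congrFun (congrFun hM i) j
  rw [Matrix.mul_apply, Fin.sum_univ_five, mul_J_apply, mul_J_apply, mul_J_apply, mul_J_apply, mul_J_apply] at h1
  rw [← h1]
  show _ = M i 4 * star (M j 0) + M i 3 * star (M j 1) + M i 2 * star (M j 2) + M i 1 * star (M j 3) + M i 0 * star (M j 4)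
  ring

/-- the form on the columns -/
theorem FJ.col_rel {M : Matrix (Fin 5) (Fin 5) K} (hM : FJ M) (i j : Fin 5) :
    star (M 0 i) * M 4 j + star (M 1 i) * M 3 j + star (M 2 i) * M 2 j + star (M 3 i) * M 1 j + star (M 4 i) * M 0 j =
      J K i j := by
  have h1 := congrFun (congrFun hM.col i) j
  rw [Matrix.mul_apply, Fin.sum_univ_five, mul_J_apply, mul_J_apply, mul_J_apply, mul_J_apply, mul_J_apply] at h1
  rw [← h1]
  show _ = star (M 4 i) * M 0 j + star (M 3 i) * M 1 j + star (M 2 i) * M 2 j + star (M 1 i) * M 3 j + star (M 0 i) * M 4 j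
  ring

variable (K) in
/-- the special unitary group -/
def SUJ : Subgroup (Matrix.SpecialLinearGroup (Fin 5) K) where
  carrier := {g | FJ (g : Matrix (Fin 5) (Fin 5) K)}
  mul_mem' := by
    intro a b ha hb
    show FJ ((a * b : Matrix.SpecialLinearGroup (Fin 5) K) : Matrix (Fin 5) (Fin 5) K)
    rw [Matrix.SpecialLinearGroup.coe_mul]
    exact FJ.mul ha hb
  one_mem' := by
    show FJ ((1 : Matrix.SpecialLinearGroup (Fin 5) K) : Matrix (Fin 5) (Fin 5) K)
    rw [Matrix.SpecialLinearGroup.coe_one]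
    exact FJ.one
  inv_mem' := by
    intro g hg
    have hg' : FJ (g : Matrix (Fin 5) (Fin 5) K) := hg
    have h1 : ((g⁻¹ : Matrix.SpecialLinearGroup (Fin 5) K) : Matrix (Fin 5) (Fin 5) K) * g = 1 := by
      rw [← Matrix.SpecialLinearGroup.coe_mul, inv_mul_cancel, Matrix.SpecialLinearGroup.coe_one]
    show FJ ((g⁻¹ : Matrix.SpecialLinearGroup (Fin 5) K) : Matrix (Fin 5) (Fin 5) K)
    generalize ((g⁻¹ : Matrix.SpecialLinearGroup (Fin 5) K) : Matrix (Fin 5) (Fin 5) K) = N at h1 ⊢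
    generalize (g : Matrix (Fin 5) (Fin 5) K) = M at h1 hg'
    have h2 : Mᴴ * Nᴴ = 1 := by rw [← Matrix.conjTranspose_mul, h1, Matrix.conjTranspose_one]
    unfold FJ at *
    calc N * J K * Nᴴ = N * (M * J K * Mᴴ) * Nᴴ := by rw [hg']
      _ = (N * M) * J K * (Mᴴ * Nᴴ) := by simp only [Matrix.mul_assoc]
      _ = J K := by rw [h1, h2, Matrix.one_mul, Matrix.mul_one]

/-- the matrix of an element of `UG K` -/
def mt (x : UG K) : Matrix (Fin 5) (Fin 5) K :=
  !![1, x.r, x.u1, x.b, x.a - x.b * star x.r;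
     0, 1, x.u2, x.c, x.d - x.c * star x.r;
     0, 0, 1, - star x.u2, - (star x.u1 - star x.u2 * star x.r);
     0, 0, 0, 1, - star x.r;
     0, 0, 0, 0, 1]

theorem mt_mul (x y : UG K) : mt (x * y) = mt x * mt y := by
  have h1 := y.hc
  simp only [mt]
  rw [mul5]
  simp only [mul_zero, zero_mul, mul_one, one_mul, add_zero, zero_add, UG.mul_r, UG.mul_u1, UG.mul_u2, UG.mul_a,
    UG.mul_b, UG.mul_c, UG.d, star_add, star_sub, star_neg, star_mul', star_star]
  refine eq5 rfl ?_ ?_ ?_ ?_ rfl rfl ?_ ?_ ?_ rfl rfl rfl ?_ ?_ rfl rfl rfl rfl ?_ rfl rfl rfl rfl rfl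
  all_goals try ring1
  linear_combination (- star x.r) * h1

theorem mt_form (x : UG K) : FJ (mt x) := by
  have h1 := x.ha
  have h2 := x.hc
  unfold FJ
  simp only [mt, J]
  rw [ct5, mul5, mul5]
  simp only [mul_zero, zero_mul, mul_one, one_mul, add_zero, zero_add, UG.d, star_add, star_sub, star_neg, star_mul',
    star_star, star_zero, star_one]
  apply eq5
  all_goals first | rfl | ring1 | linear_combination h1 | linear_combination h2

end Cfsg.Agent.H567.PU

private theorem dce_b4e7a1e5f483 : _root_.True := by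
  try have : _root_.True := by simp only [_root_.Cfsg.Agent.H567.PU.mt.eq_1]
  try have : _root_.True := by simp only [_root_.Cfsg.Agent.H567.PU.J.eq_1]
  exact _root_.True.intro
end

-- part: H567/PU/SujB
section
prune_inst 0xc4002204716200000818001432002020680004020020000020200f020b498302a00701010a90350290d6ae506009002811100140426000000e000c000002010000880204a008a000200096000084000000000000000000000000000000000000000000000
set_option linter.all false
open scoped Cfsg.Agent.FastGrp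

/-!
# S5258 [PU-REAL-a]: `emb : UG K →* SUJ K` (helper567)
-/

set_option autoImplicit false

namespace Cfsg.Agent.H567.PU

open Matrix Cfsg.Agent.H756.PU

universe u

variable {K : Type u} [Field K] [StarRing K]

theorem mt_tri (x : UG K) : (mt x).BlockTriangular id := by
  intro i j h
  fin_cases i <;> fin_cases j <;> first | rfl | (exact absurd h (by decide))

theorem mt_det (x : UG K) : (mt x).det = 1 := by
  rw [Matrix.det_of_upperTriangular (mt_tri x), Fin.prod_univ_five]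
  show (1 : K) * 1 * 1 * 1 * 1 = 1
  simp only [mul_one]

theorem mt_one : mt (1 : UG K) = 1 := by
  rw [one5]
  simp only [mt, UG.d, UG.one_r, UG.one_u1, UG.one_u2, UG.one_a, UG.one_b, UG.one_c, star_zero, mul_zero, sub_zero,
    neg_zero]

/-- the embedding of `UG K` -/
def emb : UG K →* SUJ K where
  toFun x := ⟨⟨mt x, mt_det x⟩, mt_form x⟩
  map_one' := Subtype.ext (Subtype.ext mt_one)
  map_mul' x y := Subtype.ext (Subtype.ext (mt_mul x y))

/-- the matrix of an element of `SUJ K` -/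
def mx (g : SUJ K) : Matrix (Fin 5) (Fin 5) K := ((g : Matrix.SpecialLinearGroup (Fin 5) K) : Matrix (Fin 5) (Fin 5) K)

theorem mx_emb (x : UG K) : mx (emb x) = mt x := rfl
theorem mx_mul (g h : SUJ K) : mx (g * h) = mx g * mx h := rfl
theorem mx_one : mx (1 : SUJ K) = 1 := rfl
theorem mx_injective : Function.Injective (mx : SUJ K → _) := fun _ _ h => Subtype.ext (Subtype.ext h)
theorem mx_form (g : SUJ K) : FJ (mx g) := g.2
theorem mx_det (g : SUJ K) : (mx g).det = 1 := g.1.2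

theorem mt_injective : Function.Injective (mt : UG K → _) := by
  intro x y h
  have e : ∀ i j, mt x i j = mt y i j := fun i j => by rw [h]
  have h1 : x.r = y.r := e 0 1
  have h2 : x.u1 = y.u1 := e 0 2
  have h3 : x.u2 = y.u2 := e 1 2
  have h4 : x.b = y.b := e 0 3
  have h5 : x.c = y.c := e 1 3
  have h6 : x.a - x.b * star x.r = y.a - y.b * star y.r := e 0 4
  rw [h4, h1] at h6
  ext
  · exact h1
  · exact h2
  · exact h3
  · exact sub_left_injective h6
  · exact h4
  · exact h5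

theorem emb_injective : Function.Injective (emb : UG K →* SUJ K) := fun x y h =>
  mt_injective (congrArg mx h)

/-- the upper unitriangular matrices of the unitary group are the matrices of `UG K` -/
theorem exists_mt {M : Matrix (Fin 5) (Fin 5) K} (hM : FJ M) (h0 : ∀ i j, j < i → M i j = 0) (h1 : ∀ i, M i i = 1) :
    ∃ x : UG K, mt x = M := by
  have z10 : M 1 0 = 0 := h0 _ _ (by decide)
  have z20 : M 2 0 = 0 := h0 _ _ (by decide)
  have z21 : M 2 1 = 0 := h0 _ _ (by decide)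
  have z30 : M 3 0 = 0 := h0 _ _ (by decide)
  have z31 : M 3 1 = 0 := h0 _ _ (by decide)
  have z32 : M 3 2 = 0 := h0 _ _ (by decide)
  have z40 : M 4 0 = 0 := h0 _ _ (by decide)
  have z41 : M 4 1 = 0 := h0 _ _ (by decide)
  have z42 : M 4 2 = 0 := h0 _ _ (by decide)
  have z43 : M 4 3 = 0 := h0 _ _ (by decide)
  have r03 := hM.row_rel 0 3
  have r12 := hM.row_rel 1 2
  have r02 := hM.row_rel 0 2
  have r11 := hM.row_rel 1 1
  have r01 := hM.row_rel 0 1
  have r00 := hM.row_rel 0 0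
  have j03 : J K 0 3 = 0 := rfl
  have j12 : J K 1 2 = 0 := rfl
  have j02 : J K 0 2 = 0 := rfl
  have j11 : J K 1 1 = 0 := rfl
  have j01 : J K 0 1 = 0 := rfl
  have j00 : J K 0 0 = 0 := rfl
  rw [j03, z30, z31, z32, h1 0, h1 3, star_zero, star_one] at r03
  rw [j12, z10, z20, z21, h1 1, h1 2, star_zero, star_one] at r12
  rw [j02, z20, z21, h1 0, h1 2, star_zero, star_one] at r02
  rw [j11, z10, h1 1, star_zero, star_one] at r11
  rw [j01, z10, h1 0, h1 1, star_zero, star_one] at r01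
  rw [j00, h1 0, star_one] at r00
  have m34 : M 3 4 = - star (M 0 1) := by
    have h := congrArg star r03
    simp only [star_add, star_mul', star_star, star_zero, star_one] at h
    linear_combination h
  have m23 : M 2 3 = - star (M 1 2) := by
    have h := congrArg star r12
    simp only [star_add, star_mul', star_star, star_zero, star_one] at h
    linear_combination h
  have m24 : M 2 4 = - (star (M 0 2) - star (M 1 2) * star (M 0 1)) := by
    have h := congrArg star r02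
    simp only [star_add, star_mul', star_star, star_zero, star_one] at h
    rw [m23] at h
    linear_combination h
  have m14 : M 1 4 = (- star (M 0 3) - M 1 2 * star (M 0 2)) - M 1 3 * star (M 0 1) := by
    have h := congrArg star r01
    simp only [star_add, star_mul', star_star, star_zero, star_one] at h
    linear_combination h
  refine ⟨⟨M 0 1, M 0 2, M 1 2, M 0 4 + M 0 3 * star (M 0 1), M 0 3, M 1 3, ?_, ?_⟩, ?_⟩
  · simp only [star_add, star_mul', star_star]
    linear_combination r00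
  · linear_combination r11
  · ext i j
    fin_cases i <;> fin_cases j
    · exact (h1 0).symm
    · rfl
    · rfl
    · rfl
    · show M 0 4 + M 0 3 * star (M 0 1) - M 0 3 * star (M 0 1) = M 0 4
      ring
    · exact z10.symm
    · exact (h1 1).symm
    · rfl
    · rfl
    · exact m14.symm
    · exact z20.symm
    · exact z21.symm
    · exact (h1 2).symm
    · exact m23.symm
    · exact m24.symm
    · exact z30.symm
    · exact z31.symm
    · exact z32.symm
    · exact (h1 3).symm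
    · exact m34.symm
    · exact z40.symm
    · exact z41.symm
    · exact z42.symm
    · exact z43.symm
    · exact (h1 4).symm

theorem mem_range_emb {g : SUJ K} (h0 : ∀ i j, j < i → mx g i j = 0) (h1 : ∀ i, mx g i i = 1) :
    ∃ x : UG K, emb x = g := by
  obtain ⟨x, hx⟩ := exists_mt (mx_form g) h0 h1
  exact ⟨x, mx_injective (by rw [mx_emb, hx])⟩

/-! ### the torus and the field automorphisms -/

/-- conjugation with the diagonal matrix `v` after the field automorphism `τ` -/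
def cjm (v : Fin 5 → K) (τ : K ≃+* K) (M : Matrix (Fin 5) (Fin 5) K) : Matrix (Fin 5) (Fin 5) K :=
  fun i j => v i * τ (M i j) * (v j)⁻¹

/-- `v` is a diagonal matrix in the general unitary group -/
def TV (v : Fin 5 → K) : Prop := v 0 * star (v 4) = 1 ∧ v 1 * star (v 3) = 1 ∧ v 2 * star (v 2) = 1

theorem TV.rev {v : Fin 5 → K} (h : TV v) (i : Fin 5) : v i * star (v (Fin.rev i)) = 1 := by
  obtain ⟨h1, h2, h3⟩ := h
  fin_cases i
  · exact h1
  · exact h2
  · exact h3
  · have h := congrArg star h2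
    rw [star_mul', star_star, star_one, mul_comm] at h
    exact h
  · have h := congrArg star h1
    rw [star_mul', star_star, star_one, mul_comm] at h
    exact h

theorem TV.ne {v : Fin 5 → K} (h : TV v) (i : Fin 5) : v i ≠ 0 := by
  intro h0
  have h1 := h.rev i
  rw [h0, zero_mul] at h1
  exact zero_ne_one h1

theorem cjm_eq (v : Fin 5 → K) (τ : K ≃+* K) (M : Matrix (Fin 5) (Fin 5) K) :
    cjm v τ M = Matrix.diagonal v * M.map τ * Matrix.diagonal (fun i => (v i)⁻¹) := by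
  ext i j
  rw [Matrix.mul_diagonal, Matrix.diagonal_mul]
  rfl

theorem cjm_mul {v : Fin 5 → K} (hv : ∀ i, v i ≠ 0) (τ : K ≃+* K) (M N : Matrix (Fin 5) (Fin 5) K) :
    cjm v τ (M * N) = cjm v τ M * cjm v τ N := by
  ext i j
  simp only [cjm, Matrix.mul_apply, map_sum, map_mul, Finset.mul_sum, Finset.sum_mul]
  refine Finset.sum_congr rfl fun k _ => ?_
  have := hv k
  field_simp

theorem cjm_one {v : Fin 5 → K} (hv : ∀ i, v i ≠ 0) (τ : K ≃+* K) : cjm v τ 1 = 1 := by
  ext i j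
  unfold cjm
  by_cases h : i = j
  · subst h
    rw [Matrix.one_apply_eq, map_one, mul_one, mul_inv_cancel₀ (hv i)]
  · rw [Matrix.one_apply_ne h, map_zero, mul_zero, zero_mul]

theorem cjm_det {v : Fin 5 → K} (hv : ∀ i, v i ≠ 0) (τ : K ≃+* K) {M : Matrix (Fin 5) (Fin 5) K} (hM : M.det = 1) :
    (cjm v τ M).det = 1 := by
  have h1 : (M.map τ).det = 1 := by
    have h2 := (RingHom.map_det (τ : K →+* K) M).symm
    rw [hM, map_one] at h2
    exact h2
  rw [cjm_eq, Matrix.det_mul, Matrix.det_mul, Matrix.det_diagonal, Matrix.det_diagonal, h1, mul_one,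
    ← Finset.prod_mul_distrib]
  exact Finset.prod_eq_one fun i _ => mul_inv_cancel₀ (hv i)

theorem cjm_form {v : Fin 5 → K} (hv : TV v) {τ : K ≃+* K} (hτ : ∀ x, τ (star x) = star (τ x))
    {M : Matrix (Fin 5) (Fin 5) K} (hM : FJ M) : FJ (cjm v τ M) := by
  have h1 : (M.map τ) * J K * (M.map τ)ᴴ = J K := by
    have h2 : (M * J K * Mᴴ).map τ = (J K).map τ := by rw [hM]
    have h3 : (J K).map τ = J K := by
      refine (eta5 _).trans (eq5 ?_ ?_ ?_ ?_ ?_ ?_ ?_ ?_ ?_ ?_ ?_ ?_ ?_ ?_ ?_ ?_ ?_ ?_ ?_ ?_ ?_ ?_ ?_ ?_ ?_)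
      all_goals first | exact map_zero τ | exact map_one τ
    have h4 : (Mᴴ).map τ = (M.map τ)ᴴ := by
      ext i j
      exact hτ _
    rw [Matrix.map_mul, Matrix.map_mul, h3, h4] at h2
    exact h2
  have h5 : Matrix.diagonal v * J K * (Matrix.diagonal v)ᴴ = J K := by
    have e := hv.rev
    ext i j
    rw [Matrix.diagonal_conjTranspose, Matrix.mul_diagonal, Matrix.diagonal_mul]
    by_cases h : j = Fin.rev i
    · subst h
      have h6 := e i
      calc v i * J K i (Fin.rev i) * star (v (Fin.rev i)) = (v i * star (v (Fin.rev i))) * J K i (Fin.rev i) := by ring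
        _ = J K i (Fin.rev i) := by rw [h6, one_mul]
    · have h6 : J K i j = 0 := by
        revert h
        fin_cases i <;> fin_cases j <;> intro h <;> first | rfl | exact absurd rfl h
      rw [h6, mul_zero, zero_mul]
  have h6 : Matrix.diagonal (fun i => (v i)⁻¹) * J K * (Matrix.diagonal (fun i => (v i)⁻¹))ᴴ = J K := by
    have e := hv.rev
    ext i j
    rw [Matrix.diagonal_conjTranspose, Matrix.mul_diagonal, Matrix.diagonal_mul]
    by_cases h : j = Fin.rev i
    · subst h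
      have h6 := e i
      show (v i)⁻¹ * J K i (Fin.rev i) * star (v (Fin.rev i))⁻¹ = J K i (Fin.rev i)
      calc (v i)⁻¹ * J K i (Fin.rev i) * star (v (Fin.rev i))⁻¹
          = (v i)⁻¹ * star (v (Fin.rev i))⁻¹ * J K i (Fin.rev i) := by ring
        _ = (v i * star (v (Fin.rev i)))⁻¹ * J K i (Fin.rev i) := by rw [star_inv₀, mul_inv]
        _ = J K i (Fin.rev i) := by rw [h6, inv_one, one_mul]
    · have h6 : J K i j = 0 := by
        revert h
        fin_cases i <;> fin_cases j <;> intro h <;> first | rfl | exact absurd rfl h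
      rw [h6, mul_zero, zero_mul]
  rw [cjm_eq]
  exact FJ.mul (FJ.mul h5 h1) h6

theorem cjm_cjm {v w : Fin 5 → K} (τ σ : K ≃+* K) (M : Matrix (Fin 5) (Fin 5) K) :
    cjm v τ (cjm w σ M) = cjm (fun i => v i * τ (w i)) (σ.trans τ) M := by
  ext i j
  show v i * τ (w i * σ (M i j) * (w j)⁻¹) * (v j)⁻¹ = v i * τ (w i) * τ (σ (M i j)) * (v j * τ (w j))⁻¹
  rw [map_mul, map_mul, map_inv₀, mul_inv]
  ring

/-- the automorphism of `SUJ K` -/
def autJ (v : Fin 5 → K) (hv : TV v) (τ : K ≃+* K) (hτ : ∀ x, τ (star x) = star (τ x)) : SUJ K →* SUJ K where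
  toFun g := ⟨⟨cjm v τ (mx g), cjm_det hv.ne τ (mx_det g)⟩, cjm_form hv hτ (mx_form g)⟩
  map_one' := Subtype.ext (Subtype.ext (by
    show cjm v τ (mx 1) = 1
    rw [mx_one, cjm_one hv.ne]))
  map_mul' g h := Subtype.ext (Subtype.ext (by
    show cjm v τ (mx (g * h)) = cjm v τ (mx g) * cjm v τ (mx h)
    rw [mx_mul, cjm_mul hv.ne]))

/-- the action on `UG K` -/
theorem cjm_mt {v : Fin 5 → K} (hv : TV v) {τ : K ≃+* K} (hτ : ∀ x, τ (star x) = star (τ x)) {α : MulAut (UG K)}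
    (hα : IsTor α (v 0 / v 2) (v 1 / v 2) τ) (x : UG K) : cjm v τ (mt x) = mt (α x) := by
  have n0 := hv.ne 0
  have n1 := hv.ne 1
  have n2 := hv.ne 2
  have n3 := hv.ne 3
  have n4 := hv.ne 4
  have s0 : star (v 0) ≠ 0 := star_ne_zero.2 n0
  have s1 : star (v 1) ≠ 0 := star_ne_zero.2 n1
  have s2 : star (v 2) ≠ 0 := star_ne_zero.2 n2
  have e3 : (v 3)⁻¹ = star (v 1) := by
    have h := hv.rev 3
    exact inv_eq_of_mul_eq_one_right h
  have e4 : (v 4)⁻¹ = star (v 0) := by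
    have h := hv.rev 4
    exact inv_eq_of_mul_eq_one_right h
  have e3' : v 3 = (star (v 1))⁻¹ := by rw [← e3, inv_inv]
  have e4' : v 4 = (star (v 0))⁻¹ := by rw [← e4, inv_inv]
  have e2 : star (v 2) = (v 2)⁻¹ := by
    have h := hv.rev 2
    exact eq_inv_of_mul_eq_one_right h
  have e2' : star (v 2) * v 2 = 1 := by
    rw [mul_comm]
    exact hv.2.2
  have i0 := hα.r x
  have i1 := hα.u1 x
  have i2 := hα.u2 x
  have i3 := hα.a x
  have i4 := hα.b x
  have i5 := hα.c x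
  have hl : cjm v τ (mt x) =
      !![v 0 * τ 1 * (v 0)⁻¹, v 0 * τ x.r * (v 1)⁻¹, v 0 * τ x.u1 * (v 2)⁻¹, v 0 * τ x.b * (v 3)⁻¹, v 0 * τ (x.a - x.b * star x.r) * (v 4)⁻¹;
      v 1 * τ 0 * (v 0)⁻¹, v 1 * τ 1 * (v 1)⁻¹, v 1 * τ x.u2 * (v 2)⁻¹, v 1 * τ x.c * (v 3)⁻¹, v 1 * τ (x.d - x.c * star x.r) * (v 4)⁻¹;
      v 2 * τ 0 * (v 0)⁻¹, v 2 * τ 0 * (v 1)⁻¹, v 2 * τ 1 * (v 2)⁻¹, v 2 * τ (- star x.u2) * (v 3)⁻¹, v 2 * τ (- (star x.u1 - star x.u2 * star x.r)) * (v 4)⁻¹;
      v 3 * τ 0 * (v 0)⁻¹, v 3 * τ 0 * (v 1)⁻¹, v 3 * τ 0 * (v 2)⁻¹, v 3 * τ 1 * (v 3)⁻¹, v 3 * τ (- star x.r) * (v 4)⁻¹;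
      v 4 * τ 0 * (v 0)⁻¹, v 4 * τ 0 * (v 1)⁻¹, v 4 * τ 0 * (v 2)⁻¹, v 4 * τ 0 * (v 3)⁻¹, v 4 * τ 1 * (v 4)⁻¹] := eta5 _
  rw [hl]
  simp only [mt, UG.d, i0, i1, i2, i3, i4, i5, map_zero, map_one, mul_zero, zero_mul, mul_one, map_sub, map_neg, map_mul,
    hτ, mul_inv_cancel₀ n0, mul_inv_cancel₀ n1, mul_inv_cancel₀ n2, mul_inv_cancel₀ n3, mul_inv_cancel₀ n4,
    star_mul', star_div₀, star_inv₀, star_star]
  simp only [e3, e4]
  simp only [e3', e4', e2]
  refine eq5 rfl ?_ ?_ ?_ ?_ rfl rfl ?_ ?_ ?_ rfl rfl rfl ?_ ?_ rfl rfl rfl rfl ?_ rfl rfl rfl rfl rfl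
  all_goals field_simp
  all_goals try ring1

end Cfsg.Agent.H567.PU

private theorem dce_9de95295d78c : _root_.True := by
  try have : _root_.True := by simp only [_root_.Cfsg.Agent.H567.PU.cjm.eq_1]
  exact _root_.True.intro
end

-- part: H567/PU/SujC
section
prune_inst 0xc0006204616200000818000632002020680004020020000060000e0003498320a50721010290310298968e506009002000100040406000000e000c000000010000880204a108a000000096008084000000000000000000000000000000000000000000000
set_option linter.all false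
open scoped Cfsg.Agent.FastGrp

/-!
# S5258 [PU-REAL-a]: torus, Weyl elements, the normalizer of `UG K` in `SUJ K` (helper567)
-/

set_option autoImplicit false

namespace Cfsg.Agent.H567.PU

open Matrix Cfsg.Agent.H756.PU

universe u

variable {K : Type u} [Field K] [StarRing K]

/-! ### the torus -/

/-- the diagonal -/
def tv (s t : Kˣ) : Fin 5 → K :=
  ![s, (s : K)⁻¹ * t, star (t : K) / t, star (s : K) / star (t : K), (star (s : K))⁻¹]

theorem tv_TV (s t : Kˣ) : TV (tv s t) := by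
  have h1 : (s : K) ≠ 0 := s.ne_zero
  have h2 : (t : K) ≠ 0 := t.ne_zero
  have h3 : star (s : K) ≠ 0 := star_ne_zero.2 h1
  have h4 : star (t : K) ≠ 0 := star_ne_zero.2 h2
  refine ⟨?_, ?_, ?_⟩
  · show (s : K) * star ((star (s : K))⁻¹) = 1
    rw [star_inv₀, star_star, mul_inv_cancel₀ h1]
  · show (s : K)⁻¹ * t * star (star (s : K) / star (t : K)) = 1
    rw [star_div₀, star_star, star_star]
    field_simp
  · show star (t : K) / t * star (star (t : K) / t) = 1
    rw [star_div₀, star_star]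
    field_simp

theorem FJ_diagonal {v : Fin 5 → K} (hv : TV v) : FJ (Matrix.diagonal v) := by
  unfold FJ
  have e := hv.rev
  ext i j
  rw [Matrix.diagonal_conjTranspose, Matrix.mul_diagonal, Matrix.diagonal_mul]
  by_cases h : j = Fin.rev i
  · subst h
    have h6 := e i
    calc v i * J K i (Fin.rev i) * star (v (Fin.rev i)) = (v i * star (v (Fin.rev i))) * J K i (Fin.rev i) := by ring
      _ = J K i (Fin.rev i) := by rw [h6, one_mul]
  · have h6 : J K i j = 0 := by
      revert h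
      fin_cases i <;> fin_cases j <;> intro h <;> first | rfl | exact absurd rfl h
    rw [h6, mul_zero, zero_mul]

theorem tv_det (s t : Kˣ) : (Matrix.diagonal (tv s t)).det = 1 := by
  have h1 : (s : K) ≠ 0 := s.ne_zero
  have h2 : (t : K) ≠ 0 := t.ne_zero
  have h3 : star (s : K) ≠ 0 := star_ne_zero.2 h1
  have h4 : star (t : K) ≠ 0 := star_ne_zero.2 h2
  rw [Matrix.det_diagonal, Fin.prod_univ_five]
  show (s : K) * ((s : K)⁻¹ * t) * (star (t : K) / t) * (star (s : K) / star (t : K)) * (star (s : K))⁻¹ = 1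
  field_simp

/-- the torus -/
def tor (s t : Kˣ) : SUJ K := ⟨⟨Matrix.diagonal (tv s t), tv_det s t⟩, FJ_diagonal (tv_TV s t)⟩

theorem mx_tor (s t : Kˣ) : mx (tor s t) = Matrix.diagonal (tv s t) := rfl

theorem tor_mul (s t s' t' : Kˣ) : tor s t * tor s' t' = tor (s * s') (t * t') := by
  apply mx_injective
  rw [mx_mul, mx_tor, mx_tor, mx_tor, Matrix.diagonal_mul_diagonal]
  congr 1
  funext i
  have h1 : (s : K) ≠ 0 := s.ne_zero
  have h2 : (t : K) ≠ 0 := t.ne_zero
  have h1' : (s' : K) ≠ 0 := s'.ne_zero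
  have h2' : (t' : K) ≠ 0 := t'.ne_zero
  fin_cases i
  · rfl
  · show (s : K)⁻¹ * t * ((s' : K)⁻¹ * t') = ((s * s' : Kˣ) : K)⁻¹ * ((t * t' : Kˣ) : K)
    rw [Units.val_mul, Units.val_mul, mul_inv]
    ring
  · show star (t : K) / t * (star (t' : K) / t') = star ((t * t' : Kˣ) : K) / ((t * t' : Kˣ) : K)
    rw [Units.val_mul, star_mul', mul_div_mul_comm]
  · show star (s : K) / star (t : K) * (star (s' : K) / star (t' : K)) =
      star ((s * s' : Kˣ) : K) / star ((t * t' : Kˣ) : K)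
    rw [Units.val_mul, Units.val_mul, star_mul', star_mul', mul_div_mul_comm]
  · show (star (s : K))⁻¹ * (star (s' : K))⁻¹ = (star ((s * s' : Kˣ) : K))⁻¹
    rw [Units.val_mul, star_mul', mul_inv]

theorem tor_one : tor (1 : Kˣ) 1 = 1 := by
  apply mx_injective
  rw [mx_tor, mx_one, ← Matrix.diagonal_one]
  congr 1
  funext i
  (revert i; simp only [tv, _root_.Fin.forall_fin_succ, _root_.Units.val_one, _root_.inv_one, _root_.mul_one, _root_.star_one, _root_.ne_eq, _root_.one_ne_zero, _root_.not_false_eq_true, _root_.div_self, Fin.isValue, _root_.Matrix.cons_val_zero, _root_.Matrix.cons_val_succ, _root_.Matrix.cons_val_fin_one, _root_.implies_true, _root_.and_self])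

theorem tor_inv (s t : Kˣ) : (tor s t)⁻¹ = tor s⁻¹ t⁻¹ := by
  rw [inv_eq_iff_mul_eq_one, tor_mul, mul_inv_cancel, mul_inv_cancel, tor_one]

theorem tor_pow (s t : Kˣ) (k : ℕ) : tor s t ^ k = tor (s ^ k) (t ^ k) := by
  induction k with
  | zero => rw [pow_zero, pow_zero, pow_zero, tor_one]
  | succ k ih => rw [pow_succ, ih, tor_mul, pow_succ, pow_succ]

theorem tor_split (s t : Kˣ) : tor s t = tor s 1 * tor 1 t := by rw [tor_mul, mul_one, one_mul]

theorem tv_inv (s t : Kˣ) (i : Fin 5) : tv s⁻¹ t⁻¹ i = (tv s t i)⁻¹ := by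
  have h := congrArg mx (tor_inv s t)
  have h1 : mx (tor s t) * mx (tor s⁻¹ t⁻¹) = 1 := by rw [← mx_mul, ← tor_inv, mul_inv_cancel, mx_one]
  rw [mx_tor, mx_tor, Matrix.diagonal_mul_diagonal, ← Matrix.diagonal_one] at h1
  have h2 := congrFun (Matrix.diagonal_injective h1) i
  exact eq_inv_of_mul_eq_one_right h2

/-- conjugation with the torus -/
theorem mx_tor_conj (s t : Kˣ) (g : SUJ K) :
    mx (tor s t * g * (tor s t)⁻¹) = cjm (tv s t) (RingEquiv.refl K) (mx g) := by
  rw [tor_inv, mx_mul, mx_mul, mx_tor, mx_tor, cjm_eq]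
  have h1 : (fun i => (tv s t i)⁻¹) = tv s⁻¹ t⁻¹ := funext fun i => (tv_inv s t i).symm
  rw [h1]
  rfl

theorem tor_conj {s t : Kˣ} {x1 x2 : K} (h1 : x1 = s * t / star (t : K)) (h2 : x2 = (s : K)⁻¹ * t ^ 2 / star (t : K))
    {α : MulAut (UG K)} (hα : IsTor α x1 x2 (RingEquiv.refl K)) (x : UG K) :
    tor s t * emb x * (tor s t)⁻¹ = emb (α x) := by
  apply mx_injective
  rw [mx_tor_conj, mx_emb, mx_emb]
  have ht : (t : K) ≠ 0 := t.ne_zero
  have ht' : star (t : K) ≠ 0 := star_ne_zero.2 ht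
  have e1 : x1 = tv s t 0 / tv s t 2 := by
    rw [h1]
    show (s : K) * t / star (t : K) = (s : K) / (star (t : K) / t)
    field_simp
  have e2 : x2 = tv s t 1 / tv s t 2 := by
    rw [h2]
    show (s : K)⁻¹ * t ^ 2 / star (t : K) = (s : K)⁻¹ * t / (star (t : K) / t)
    field_simp
  rw [e1, e2] at hα
  exact cjm_mt (tv_TV s t) (fun _ => rfl) hα x

theorem tor_conj_one {s : Kˣ} {α : MulAut (UG K)} (hα : IsTor α (s : K) (s : K)⁻¹ (RingEquiv.refl K)) (x : UG K) :
    tor s 1 * emb x * (tor s 1)⁻¹ = emb (α x) :=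
  tor_conj (by simp) (by simp) hα x

theorem tor_conj_two {t : Kˣ} {α : MulAut (UG K)}
    (hα : IsTor α ((t : K) * (star (t : K))⁻¹) ((t : K) ^ 2 * (star (t : K))⁻¹) (RingEquiv.refl K)) (x : UG K) :
    tor 1 t * emb x * (tor 1 t)⁻¹ = emb (α x) :=
  tor_conj (by simp only [div_eq_mul_inv, _root_.Units.val_one, _root_.one_mul]) (by simp only [div_eq_mul_inv, _root_.Units.val_one, _root_.inv_one, _root_.one_mul]) hα x

/-- the torus normalizes `emb.range` -/
theorem tor_norm (s t : Kˣ) (x : UG K) : ∃ y : UG K, tor s t * emb x * (tor s t)⁻¹ = emb y := by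
  have h := mem_range_emb (g := tor s t * emb x * (tor s t)⁻¹) ?_ ?_
  · obtain ⟨y, hy⟩ := h
    exact ⟨y, hy.symm⟩
  · intro i j hij
    rw [mx_tor_conj, mx_emb]
    show tv s t i * mt x i j * (tv s t j)⁻¹ = 0
    have : mt x i j = 0 := mt_tri x hij
    rw [this, mul_zero, zero_mul]
  · intro i
    rw [mx_tor_conj, mx_emb]
    show tv s t i * mt x i i * (tv s t i)⁻¹ = 1
    have h1 : mt x i i = 1 := by fin_cases i <;> rfl
    rw [h1, mul_one, mul_inv_cancel₀ ((tv_TV s t).ne i)]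

/-- the upper triangular elements -/
theorem exists_of_tri {g : SUJ K} (h0 : ∀ i j, j < i → mx g i j = 0) :
    ∃ (x : UG K) (s t : Kˣ), g = emb x * tor s t := by
  have hM := mx_form g
  have z10 : mx g 1 0 = 0 := h0 _ _ (by decide)
  have z20 : mx g 2 0 = 0 := h0 _ _ (by decide)
  have z21 : mx g 2 1 = 0 := h0 _ _ (by decide)
  have z30 : mx g 3 0 = 0 := h0 _ _ (by decide)
  have z31 : mx g 3 1 = 0 := h0 _ _ (by decide)
  have z32 : mx g 3 2 = 0 := h0 _ _ (by decide)
  have z40 : mx g 4 0 = 0 := h0 _ _ (by decide)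
  have z41 : mx g 4 1 = 0 := h0 _ _ (by decide)
  have z42 : mx g 4 2 = 0 := h0 _ _ (by decide)
  have z43 : mx g 4 3 = 0 := h0 _ _ (by decide)
  have r04 := hM.row_rel 0 4
  have r13 := hM.row_rel 1 3
  have j04 : J K 0 4 = 1 := rfl
  have j13 : J K 1 3 = 1 := rfl
  rw [j04, z40, z41, z42, z43, star_zero, mul_zero, mul_zero, mul_zero, mul_zero, add_zero, add_zero, add_zero,
    add_zero] at r04
  rw [j13, z10, z30, z31, z32, star_zero, mul_zero, mul_zero, mul_zero, zero_mul, zero_add, add_zero, add_zero,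
    add_zero] at r13
  have hdet : mx g 0 0 * mx g 1 1 * mx g 2 2 * mx g 3 3 * mx g 4 4 = 1 := by
    have h1 := mx_det g
    rw [Matrix.det_of_upperTriangular (fun i j h => h0 i j h), Fin.prod_univ_five] at h1
    exact h1
  have n0 : mx g 0 0 ≠ 0 := fun h => by rw [h, zero_mul] at r04; exact zero_ne_one r04
  have n1 : mx g 1 1 ≠ 0 := fun h => by rw [h, zero_mul] at r13; exact zero_ne_one r13
  have e4 : mx g 4 4 = (star (mx g 0 0))⁻¹ := by
    have h := eq_inv_of_mul_eq_one_right r04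
    have h2 := congrArg star h
    rwa [star_star, star_inv₀] at h2
  have e3 : mx g 3 3 = (star (mx g 1 1))⁻¹ := by
    have h := eq_inv_of_mul_eq_one_right r13
    have h2 := congrArg star h
    rwa [star_star, star_inv₀] at h2
  have s0 : star (mx g 0 0) ≠ 0 := star_ne_zero.2 n0
  have s1 : star (mx g 1 1) ≠ 0 := star_ne_zero.2 n1
  have e2 : mx g 2 2 = star (mx g 0 0 * mx g 1 1) / (mx g 0 0 * mx g 1 1) := by
    rw [e3, e4] at hdet
    rw [star_mul']
    field_simp
    field_simp at hdet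
    linear_combination hdet
  let s : Kˣ := Units.mk0 (mx g 0 0) n0
  let t : Kˣ := Units.mk0 (mx g 0 0 * mx g 1 1) (mul_ne_zero n0 n1)
  have hd : ∀ i, mx g i i = tv s t i := by
    intro i
    fin_cases i
    · rfl
    · show mx g 1 1 = (mx g 0 0)⁻¹ * (mx g 0 0 * mx g 1 1)
      rw [inv_mul_cancel_left₀ n0]
    · exact e2
    · show mx g 3 3 = star (mx g 0 0) / star (mx g 0 0 * mx g 1 1)
      rw [e3, star_mul']
      field_simp
    · exact e4
  have key := mem_range_emb (g := g * (tor s t)⁻¹) ?_ ?_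
  · obtain ⟨x, hx⟩ := key
    exact ⟨x, s, t, by rw [hx, inv_mul_cancel_right]⟩
  · intro i j hij
    rw [tor_inv, mx_mul, mx_tor, Matrix.mul_diagonal, h0 i j hij, zero_mul]
  · intro i
    rw [tor_inv, mx_mul, mx_tor, Matrix.mul_diagonal, tv_inv, hd i, mul_inv_cancel₀ ((tv_TV s t).ne i)]

/-! ### the Weyl elements -/

/-- the matrix of the Weyl element of `SL₂` -/
def w2m : Matrix (Fin 5) (Fin 5) K :=
  !![0, 1, 0, 0, 0; -1, 0, 0, 0, 0; 0, 0, 1, 0, 0; 0, 0, 0, 0, -1; 0, 0, 0, 1, 0]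

theorem w2m_form : FJ (w2m : Matrix (Fin 5) (Fin 5) K) := by
  unfold FJ
  simp only [w2m, J]
  rw [ct5, mul5, mul5]
  simp only [mul_zero, zero_mul, mul_one, one_mul, add_zero, zero_add, neg_zero, neg_neg, mul_neg, neg_mul, star_zero,
    star_one, star_neg]

private theorem detU (a b c : K) :
    (!![1, a, 0, 0, 0; 0, 1, 0, b, 0; 0, 0, 1, 0, 0; 0, 0, 0, 1, c; 0, 0, 0, 0, 1] : Matrix (Fin 5) (Fin 5) K).det = 1 := by
  rw [Matrix.det_of_upperTriangular, Fin.prod_univ_five]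
  · show (1 : K) * 1 * 1 * 1 * 1 = 1
    simp only [mul_one]
  · intro i j h
    fin_cases i <;> fin_cases j <;> first | rfl | (exact absurd h (by decide))

private theorem detL (a b c : K) :
    (!![1, 0, 0, 0, 0; a, 1, 0, 0, 0; 0, 0, 1, 0, 0; 0, b, 0, 1, 0; 0, 0, 0, c, 1] : Matrix (Fin 5) (Fin 5) K).det = 1 := by
  rw [← Matrix.det_transpose]
  exact (congrArg Matrix.det (eta5 _)).trans (detU a b c)

theorem w2m_det : (w2m : Matrix (Fin 5) (Fin 5) K).det = 1 := by
  have h : (w2m : Matrix (Fin 5) (Fin 5) K) =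
      !![1, 1, 0, 0, 0; 0, 1, 0, 0, 0; 0, 0, 1, 0, 0; 0, 0, 0, 1, -1; 0, 0, 0, 0, 1] *
      !![1, 0, 0, 0, 0; -1, 1, 0, 0, 0; 0, 0, 1, 0, 0; 0, 0, 0, 1, 0; 0, 0, 0, 1, 1] *
      !![1, 1, 0, 0, 0; 0, 1, 0, 0, 0; 0, 0, 1, 0, 0; 0, 0, 0, 1, -1; 0, 0, 0, 0, 1] := by
    rw [mul5, mul5]
    simp only [w2m, mul_zero, zero_mul, mul_one, one_mul, add_zero, zero_add, neg_zero, neg_neg, mul_neg, neg_mul,
      add_neg_cancel, neg_add_cancel]
  rw [h, Matrix.det_mul, Matrix.det_mul, detU, detL, mul_one, mul_one]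

/-- the Weyl element of `SL₂` -/
def w2 : SUJ K := ⟨⟨w2m, w2m_det⟩, w2m_form⟩

theorem w2_conj {γ : MulAut (Q2 K)} (hγ : IsW2 γ) (e : Q2 K) :
    w2 * emb (e : UG K) * w2⁻¹ = emb ((γ e : Q2 K) : UG K) := by
  rw [mul_inv_eq_iff_eq_mul]
  apply mx_injective
  show (w2m : Matrix (Fin 5) (Fin 5) K) * mt (e : UG K) = mt ((γ e : Q2 K) : UG K) * w2m
  have h0 : (e : UG K).r = 0 := e.2
  have h0' : ((γ e : Q2 K) : UG K).r = 0 := (γ e).2
  have h1 := hγ.u1 e
  have h2 := hγ.u2 e
  have h3 := hγ.a e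
  have h4 := hγ.b e
  have h5 := hγ.c e
  simp only [w2m, mt]
  rw [mul5, mul5]
  simp only [mul_zero, zero_mul, mul_one, one_mul, add_zero, zero_add, neg_zero, neg_neg, mul_neg, neg_mul, star_zero,
    star_neg, star_sub, star_mul', star_star, sub_zero, UG.d, h0, h0', h1, h2, h3, h4, h5]
  apply eq5
  all_goals first | rfl | ring1

/-- the matrix of the Weyl element of `SU₃` -/
def w1m (κ : K) : Matrix (Fin 5) (Fin 5) K :=
  !![1, 0, 0, 0, 0; 0, 0, 0, -κ, 0; 0, 0, 1, 0, 0; 0, κ⁻¹, 0, 0, 0; 0, 0, 0, 0, 1]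

theorem w1m_form {κ : K} (h0 : κ ≠ 0) (h : κ + star κ = 0) : FJ (w1m κ) := by
  have h1 : star κ = -κ := by linear_combination h
  unfold FJ
  simp only [w1m, J]
  rw [ct5, mul5, mul5]
  simp only [mul_zero, zero_mul, mul_one, one_mul, add_zero, zero_add, neg_zero, neg_neg, mul_neg, neg_mul, star_zero,
    star_one, star_neg, star_inv₀, h1, inv_neg, mul_inv_cancel₀ h0, inv_mul_cancel₀ h0]

theorem w1m_det {κ : K} (h0 : κ ≠ 0) : (w1m κ).det = 1 := by
  have h : w1m κ =
      !![1, 0, 0, 0, 0; 0, 1, 0, -κ, 0; 0, 0, 1, 0, 0; 0, 0, 0, 1, 0; 0, 0, 0, 0, 1] *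
      !![1, 0, 0, 0, 0; 0, 1, 0, 0, 0; 0, 0, 1, 0, 0; 0, κ⁻¹, 0, 1, 0; 0, 0, 0, 0, 1] *
      !![1, 0, 0, 0, 0; 0, 1, 0, -κ, 0; 0, 0, 1, 0, 0; 0, 0, 0, 1, 0; 0, 0, 0, 0, 1] := by
    rw [mul5, mul5]
    simp only [w1m, mul_zero, zero_mul, mul_one, one_mul, add_zero, zero_add, neg_zero, neg_neg, mul_neg, neg_mul,
      add_neg_cancel, neg_add_cancel, mul_inv_cancel₀ h0, inv_mul_cancel₀ h0]
  rw [h, Matrix.det_mul, Matrix.det_mul, detU, detL, mul_one, mul_one]

/-- the Weyl element of `SU₃` -/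
def w1 (κ : K) (h0 : κ ≠ 0) (h : κ + star κ = 0) : SUJ K := ⟨⟨w1m κ, w1m_det h0⟩, w1m_form h0 h⟩

theorem w1_conj {κ : K} {γ : MulAut (Q1 K)} (hγ : IsW1 κ γ) (e : Q1 K) :
    w1 κ hγ.ne hγ.tr * emb (e : UG K) * (w1 κ hγ.ne hγ.tr)⁻¹ = emb ((γ e : Q1 K) : UG K) := by
  rw [mul_inv_eq_iff_eq_mul]
  apply mx_injective
  show w1m κ * mt (e : UG K) = mt ((γ e : Q1 K) : UG K) * w1m κ
  have h0 : (e : UG K).u2 = 0 := e.2.1
  have h0' : ((γ e : Q1 K) : UG K).u2 = 0 := (γ e).2.1
  have h0c : (e : UG K).c = 0 := e.2.2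
  have h0c' : ((γ e : Q1 K) : UG K).c = 0 := (γ e).2.2
  have hne := hγ.ne
  have htr : star κ = -κ := by linear_combination hγ.tr
  have h1 := hγ.r e
  have h2 := hγ.u1 e
  have h3 := hγ.a e
  have h4 := hγ.b e
  simp only [w1m, mt]
  rw [mul5, mul5]
  simp only [mul_zero, zero_mul, mul_one, one_mul, add_zero, zero_add, neg_zero, neg_neg, mul_neg, neg_mul, star_zero,
    star_neg, star_sub, star_mul', star_star, sub_zero, UG.d, h0, h0', h0c, h0c', h1, h2, h3, h4, htr, star_inv₀, inv_neg]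
  apply eq5
  all_goals first | rfl | fail | (field_simp; done) | (field_simp; ring1)

end Cfsg.Agent.H567.PU

private theorem dce_84bf3e347aae : _root_.True := by
  try have : _root_.True := by simp only [_root_.Cfsg.Agent.H567.PU.tv.eq_1]
  try have : _root_.True := by simp only [_root_.Cfsg.Agent.H567.PU.w1m.eq_1]
  try have : _root_.True := by simp only [_root_.Cfsg.Agent.H567.PU.w2m.eq_1]
  exact _root_.True.intro
end

-- part: H910/PU/Psu
section
prune_inst 0xc40062042162020000000014120000202000040000030000116003020207d222050206004a102a02980080004009002811000000424000000e000400000001000080020eb008a10006009e003880000000000000000000000000000000041000000000000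
set_option linter.all false
open scoped Cfsg.Agent.FastGrp

-- part: H910/PU/Fac
section
/-!
# Rank one facts: Sylow subgroups as points (helper910, for S5258, `StU3`)

* `cj g P` : the conjugate `g P g⁻¹`;
* `Opp P P'` : there are `x ∈ Z(P)`, `y ∈ Z(P')` such that `x y x` interchanges `P` and `P'`;
* `Fac P` : `P` is transitive on its other conjugates, which are all opposite to `P`;
* `Fac.of_split` : split BN pairs of rank one;
* `Fac.map` : overgroups, isomorphisms; `Fac.lift` : preimages;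
* `Fac.sylow` : the statement for Sylow subgroups.
-/

set_option autoImplicit false

namespace Cfsg.Agent.H910.PU

open Subgroup

/-- `g P g⁻¹` -/
def cj {G : Type*} [Group G] (g : G) (P : Subgroup G) : Subgroup G := P.map (MulAut.conj g).toMonoidHom

section

variable {G : Type*} [Group G]

theorem mem_cj {g x : G} {P : Subgroup G} : x ∈ cj g P ↔ g⁻¹ * x * g ∈ P := by
  constructor
  · rintro ⟨y, hy, rfl⟩
    have e : g⁻¹ * (MulAut.conj g).toMonoidHom y * g = y := by
      show g⁻¹ * (g * y * g⁻¹) * g = y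
      group
    rwa [e]
  · intro h
    exact ⟨_, h, by show g * (g⁻¹ * x * g) * g⁻¹ = x; group⟩

theorem mem_cj_of {g x : G} {P : Subgroup G} (h : x ∈ P) : g * x * g⁻¹ ∈ cj g P := ⟨x, h, rfl⟩

theorem cj_cj (g h : G) (P : Subgroup G) : cj g (cj h P) = cj (g * h) P := by
  ext x
  simp only [mem_cj]
  have e : h⁻¹ * (g⁻¹ * x * g) * h = (g * h)⁻¹ * x * (g * h) := by group
  rw [e]

theorem cj_one (P : Subgroup G) : cj 1 P = P := by
  ext x
  simp [mem_cj]

theorem cj_inj {g : G} {P Q : Subgroup G} (h : cj g P = cj g Q) : P = Q := by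
  have h1 := congrArg (cj g⁻¹) h
  rwa [cj_cj, cj_cj, inv_mul_cancel, cj_one, cj_one] at h1

theorem cj_eq_iff {g h : G} {P : Subgroup G} : cj g P = cj h P ↔ cj (h⁻¹ * g) P = P := by
  constructor
  · intro e
    rw [← cj_cj, e, cj_cj, inv_mul_cancel, cj_one]
  · intro e
    conv_rhs => rw [← e]
    rw [cj_cj, mul_inv_cancel_left]

theorem cj_of_mem {g : G} {P : Subgroup G} (h : g ∈ P) : cj g P = P := by
  ext x
  rw [mem_cj]
  constructor
  · intro hx
    have h1 := P.mul_mem (P.mul_mem h hx) (P.inv_mem h)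
    have e : g * (g⁻¹ * x * g) * g⁻¹ = x := by group
    rwa [e] at h1
  · intro hx
    exact P.mul_mem (P.mul_mem (P.inv_mem h) hx) h

theorem cj_map {H : Type*} [Group H] (f : G →* H) (g : G) (P : Subgroup G) :
    (cj g P).map f = cj (f g) (P.map f) := by
  ext x
  constructor
  · rintro ⟨_, ⟨y, hy, rfl⟩, rfl⟩
    exact ⟨f y, ⟨y, hy, rfl⟩, by simp only [_root_.MulEquiv.toMonoidHom_eq_coe, _root_.MonoidHom.coe_coe, _root_.MulAut.conj_apply, _root_.map_mul, _root_.map_inv]⟩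
  · rintro ⟨_, ⟨y, hy, rfl⟩, rfl⟩
    exact ⟨g * y * g⁻¹, mem_cj_of hy, by simp only [_root_.map_mul, _root_.map_inv, _root_.MulEquiv.toMonoidHom_eq_coe, _root_.MonoidHom.coe_coe, _root_.MulAut.conj_apply]⟩

/-- `P` and `P'` are opposite. -/
def Opp (P P' : Subgroup G) : Prop :=
  ∃ x ∈ P, ∃ y ∈ P', (∀ z ∈ P, x * z = z * x) ∧ (∀ z ∈ P', y * z = z * y) ∧
    cj (x * y * x) P = P' ∧ cj (x * y * x) P' = P

/-- The rank one facts. -/
def Fac (P : Subgroup G) : Prop :=
  ∀ g : G, cj g P ≠ P → (∀ h : G, cj h P ≠ P → ∃ x ∈ P, cj x (cj g P) = cj h P) ∧ Opp P (cj g P)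

theorem Opp.conj {P P' : Subgroup G} (h : Opp P P') (g : G) : Opp (cj g P) (PU.cj g P') := by
  obtain ⟨x, hx, y, hy, h1, h2, h3, h4⟩ := h
  refine ⟨g * x * g⁻¹, mem_cj_of hx, g * y * g⁻¹, mem_cj_of hy, ?_, ?_, ?_, ?_⟩
  · rintro _ ⟨z, hz, rfl⟩
    show g * x * g⁻¹ * (g * z * g⁻¹) = g * z * g⁻¹ * (g * x * g⁻¹)
    have e1 : g * x * g⁻¹ * (g * z * g⁻¹) = g * (x * z) * g⁻¹ := by group
    rw [e1, h1 z hz]
    group
  · rintro _ ⟨z, hz, rfl⟩
    show g * y * g⁻¹ * (g * z * g⁻¹) = g * z * g⁻¹ * (g * y * g⁻¹)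
    have e1 : g * y * g⁻¹ * (g * z * g⁻¹) = g * (y * z) * g⁻¹ := by group
    rw [e1, h2 z hz]
    group
  · have e : g * x * g⁻¹ * (g * y * g⁻¹) * (g * x * g⁻¹) = g * (x * y * x) * g⁻¹ := by group
    rw [e, cj_cj, inv_mul_cancel_right, ← cj_cj, h3]
  · have e : g * x * g⁻¹ * (g * y * g⁻¹) * (g * x * g⁻¹) = g * (x * y * x) * g⁻¹ := by group
    rw [e, cj_cj, inv_mul_cancel_right, ← cj_cj, h4]

/-- The facts for one conjugate give them for all. -/
theorem Fac.conj {P : Subgroup G} (h : Fac P) (k : G) : Fac (cj k P) := by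
  intro g hg
  have e : ∀ g : G, PU.cj g (PU.cj k P) = PU.cj k (PU.cj (k⁻¹ * g * k) P) := by
    intro g
    rw [cj_cj, cj_cj]
    congr 1
    group
  have hg' : PU.cj (k⁻¹ * g * k) P ≠ P := by
    intro h1
    apply hg
    rw [e, h1]
  obtain ⟨h1, h2⟩ := h _ hg'
  refine ⟨fun h' hh' => ?_, ?_⟩
  · have hh : PU.cj (k⁻¹ * h' * k) P ≠ P := by
      intro h3
      apply hh'
      rw [e, h3]
    obtain ⟨x, hx, h3⟩ := h1 _ hh
    refine ⟨k * x * k⁻¹, mem_cj_of hx, ?_⟩
    rw [e g, e h', ← h3, cj_cj, inv_mul_cancel_right, ← cj_cj]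
  · rw [e]
    exact h2.conj k

/-- Split BN pairs of rank one. -/
theorem Fac.of_split {G : Type*} [Group G] (D : Cfsg.Agent.H664.R1.Split G) {x y : G} (hx : x ∈ D.U)
    (hxc : ∀ z ∈ D.U, x * z = z * x) (hy : y ∈ D.U) (hyc : ∀ z ∈ D.U, y * z = z * y) (hw : D.w * D.w ∈ D.B)
    (h : D.w⁻¹ * (x * (D.w * y * D.w⁻¹) * x) ∈ D.T) : Fac D.U := by
  have hB : ∀ b ∈ D.B, PU.cj b D.U = D.U := by
    intro b hb
    ext z
    rw [mem_cj]
    constructor
    · intro hz
      have h1 := D.nU b hb _ hz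
      have e : b * (b⁻¹ * z * b) * b⁻¹ = z := by group
      rwa [e] at h1
    · intro hz
      exact D.nU' hb hz
  have hdec : ∀ g : G, PU.cj g D.U ≠ D.U → ∃ u ∈ D.U, PU.cj g D.U = PU.cj u (PU.cj D.w D.U) := by
    intro g hg
    have hgB : g ∉ D.B := fun hgB => hg (hB g hgB)
    obtain ⟨b, hb, c, hc, rfl⟩ := D.big g hgB
    obtain ⟨u, hu, t, ht, rfl⟩ := D.dec b hb
    refine ⟨u, hu, ?_⟩
    have e : u * t * D.w * c = u * D.w * (D.w⁻¹ * t * D.w * c) := by group
    rw [e, ← cj_cj (u * D.w), hB _ (D.B.mul_mem (D.TB (D.wT t ht)) hc), cj_cj]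
  have hopp : Opp D.U (PU.cj D.w D.U) := by
    refine ⟨x, hx, D.w * y * D.w⁻¹, mem_cj_of hy, hxc, ?_, ?_, ?_⟩
    · rintro _ ⟨z, hz, rfl⟩
      show D.w * y * D.w⁻¹ * (D.w * z * D.w⁻¹) = D.w * z * D.w⁻¹ * (D.w * y * D.w⁻¹)
      have e1 : D.w * y * D.w⁻¹ * (D.w * z * D.w⁻¹) = D.w * (y * z) * D.w⁻¹ := by group
      rw [e1, hyc z hz]
      group
    · have e : x * (D.w * y * D.w⁻¹) * x = D.w * (D.w⁻¹ * (x * (D.w * y * D.w⁻¹) * x)) := by group
      rw [e, ← cj_cj, hB _ (D.TB h)]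
    · have e : x * (D.w * y * D.w⁻¹) * x = D.w * (D.w⁻¹ * (x * (D.w * y * D.w⁻¹) * x)) := by group
      set t := D.w⁻¹ * (x * (D.w * y * D.w⁻¹) * x) with ht
      have e2 : D.w * t * D.w = D.w * t * D.w⁻¹ * (D.w * D.w) := by group
      rw [e, cj_cj, e2]
      exact hB _ (D.B.mul_mem (D.TB (D.wT' t h)) hw)
  intro g hg
  obtain ⟨u, hu, h1⟩ := hdec g hg
  refine ⟨fun k hk => ?_, ?_⟩
  · obtain ⟨v, hv, h2⟩ := hdec k hk
    refine ⟨v * u⁻¹, D.U.mul_mem hv (D.U.inv_mem hu), ?_⟩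
    rw [h1, h2, cj_cj, inv_mul_cancel_right]
  · rw [h1]
    have h2 := hopp.conj u
    rwa [cj_of_mem hu] at h2

end

/-- Overgroups and isomorphisms. -/
theorem Fac.map {L G : Type*} [Group L] [Group G] (f : L →* G) {P : Subgroup L} (h : Fac P)
    (hf : ∀ g : G, ∃ l : L, cj g (P.map f) = cj (f l) (P.map f)) : Fac (P.map f) := by
  intro g hg
  obtain ⟨l, hl⟩ := hf g
  have hl' : PU.cj l P ≠ P := by
    intro h1
    apply hg
    rw [hl, ← cj_map, h1]
  obtain ⟨h1, x, hx, y, hy, hxc, hyc, h2, h3⟩ := h l hl'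
  refine ⟨fun k hk => ?_, ?_⟩
  · obtain ⟨m, hm⟩ := hf k
    have hm' : PU.cj m P ≠ P := by
      intro h1
      apply hk
      rw [hm, ← cj_map, h1]
    obtain ⟨z, hz, h4⟩ := h1 m hm'
    refine ⟨f z, ⟨z, hz, rfl⟩, ?_⟩
    rw [hl, hm, ← cj_map, ← cj_map, ← cj_map, h4]
  · rw [hl, ← cj_map]
    refine ⟨f x, ⟨x, hx, rfl⟩, f y, ⟨y, hy, rfl⟩, ?_, ?_, ?_, ?_⟩
    · rintro _ ⟨z, hz, rfl⟩
      rw [← map_mul, ← map_mul, hxc z hz]
    · rintro _ ⟨z, hz, rfl⟩
      rw [← map_mul, ← map_mul, hyc z hz]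
    · rw [← map_mul, ← map_mul, ← cj_map, h2]
    · rw [← map_mul, ← map_mul, ← cj_map, h3]

/-- Preimages. -/
theorem Fac.lift {G G' : Type*} [Group G] [Group G'] (π : G →* G') {P : Subgroup G}
    (h : Fac (P.map π)) (hd : ∀ x ∈ P, π x = 1 → x = 1)
    (hn : ∀ g : G, cj (π g) (P.map π) = P.map π → cj g P = P) : Fac P := by
  intro g hg
  have hg' : PU.cj (π g) (P.map π) ≠ P.map π := fun h1 => hg (hn g h1)
  obtain ⟨h1, h2⟩ := h _ hg'
  refine ⟨fun k hk => ?_, ?_⟩
  · obtain ⟨_, ⟨x, hx, rfl⟩, h3⟩ := h1 (π k) fun h1 => hk (hn k h1)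
    refine ⟨x, hx, ?_⟩
    rw [cj_cj, cj_eq_iff]
    apply hn
    rw [cj_cj, ← map_mul, cj_eq_iff, ← map_inv, ← map_mul] at h3
    exact h3
  · obtain ⟨_, ⟨x, hx, rfl⟩, y', hy', hxc, hyc, h3, h4⟩ := h2
    rw [← cj_map] at hy' hyc
    obtain ⟨y, hy, rfl⟩ := hy'
    refine ⟨x, hx, y, hy, ?_, ?_, ?_, ?_⟩
    · intro z hz
      have h5 := hxc _ ⟨z, hz, rfl⟩
      have h6 := hd (x * z * (z * x)⁻¹) (P.mul_mem (P.mul_mem hx hz) (P.inv_mem (P.mul_mem hz hx)))
        (by rw [map_mul, map_inv, map_mul, map_mul, h5, mul_inv_cancel])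
      exact mul_inv_eq_one.1 h6
    · intro z hz
      have h5 := hyc _ ⟨z, hz, rfl⟩
      have h7 : y * z * (z * y)⁻¹ ∈ PU.cj g P :=
        (PU.cj g P).mul_mem ((PU.cj g P).mul_mem hy hz) ((PU.cj g P).inv_mem ((PU.cj g P).mul_mem hz hy))
      have h6 := hd _ (mem_cj.1 h7) (by
        rw [map_mul, map_mul, map_mul, map_inv π (z * y), map_mul, map_mul π z, h5, mul_inv_cancel, mul_one, ← map_mul,
          inv_mul_cancel, map_one])
      have h8 : y * z * (z * y)⁻¹ = 1 := by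
        have h9 := congrArg (fun t => g * t * g⁻¹) h6
        simpa only [mul_assoc, _root_.mul_inv_rev, _root_.mul_inv_cancel_left, _root_.mul_inv_cancel, _root_.mul_one] using h9
      exact mul_inv_eq_one.1 h8
    · rw [cj_eq_iff]
      apply hn
      rw [map_mul, map_inv, ← cj_eq_iff, map_mul, map_mul]
      exact h3
    · rw [cj_cj]
      apply hn
      rw [map_mul, ← cj_cj, map_mul, map_mul]
      exact h4

/-- The statement for Sylow subgroups. -/
theorem Fac.sylow {G : Type*} [Group G] [Finite G] {p : ℕ} [Fact p.Prime] (P : Sylow p G)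
    (h : Fac (P : Subgroup G)) :
    (∀ P' P'' : Sylow p G, P' ≠ P → P'' ≠ P → ∃ x ∈ (P : Subgroup G),
      (P' : Subgroup G).map (MulAut.conj x).toMonoidHom = P'') ∧
    (∀ P' : Sylow p G, P' ≠ P → ∃ x y : G, x ∈ (P : Subgroup G) ∧ (∀ z ∈ (P : Subgroup G), x * z = z * x) ∧
      y ∈ (P' : Subgroup G) ∧ (∀ z ∈ (P' : Subgroup G), y * z = z * y) ∧
      (P : Subgroup G).map (MulAut.conj (x * y * x)).toMonoidHom = P' ∧
      (P' : Subgroup G).map (MulAut.conj (x * y * x)).toMonoidHom = P) := by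
  have key : ∀ P' : Sylow p G, ∃ g : G, (P' : Subgroup G) = cj g (P : Subgroup G) := by
    intro P'
    obtain ⟨g, hg⟩ := MulAction.exists_smul_eq G P P'
    refine ⟨g, ?_⟩
    rw [← hg]
    rfl
  have key2 : ∀ P' : Sylow p G, P' ≠ P → (P' : Subgroup G) ≠ P := fun P' h1 h2 => h1 (Sylow.ext h2)
  constructor
  · intro P' P'' h1 h2
    obtain ⟨g, hg⟩ := key P'
    obtain ⟨k, hk⟩ := key P''
    have hg' := key2 P' h1
    have hk' := key2 P'' h2
    rw [hg] at hg'
    rw [hk] at hk'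
    rw [hg, hk]
    exact (h g hg').1 k hk'
  · intro P' h1
    obtain ⟨g, hg⟩ := key P'
    have hg' := key2 P' h1
    rw [hg] at hg'
    obtain ⟨x, hx, y, hy, h2, h3, h4, h5⟩ := (h g hg').2
    rw [hg]
    exact ⟨x, y, hx, h2, hy, h3, h4, h5⟩

end Cfsg.Agent.H910.PU
end

-- part: H910/PU/Psu
section
/-!
# The rank one facts for `PSU(3,q)` (helper910, for S5258)
-/

set_option autoImplicit false

namespace Cfsg.Agent.H910.PU

open Subgroup Matrix Cfsg Cfsg.Agent.H664.R1 Cfsg.Agent.H664.R1.U3 Cfsg.Agent.LieRecognition.PSUThreeSylow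

section

variable {F : Type*} [Field F] {σ : F →+* F} [hσ : Fact (∀ x, σ (σ x) = x)]

theorem un_comm (b a' b' : F) (h : b + σ b + 0 * σ 0 = 0) (h' : b' + σ b' + a' * σ a' = 0) :
    un 0 b h * un a' b' h' = un a' b' h' * un 0 b h := by
  apply mat_inj
  rw [mat_mul, mat_mul, mat_un, mat_un]
  ext i j
  fin_cases i <;> fin_cases j <;> simp [Matrix.mul_apply, Fin.sum_univ_three, add_comm]

theorem wel'_mul_self : wel' σ * wel' σ = 1 := by
  apply mat_inj
  rw [mat_mul, mat_wel', mat_one]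
  ext i j
  (revert i j; simp only [Matrix.mul_apply, Fin.sum_univ_three, _root_.Fin.forall_fin_succ, _root_.Matrix.of_apply, _root_.Matrix.cons_val', _root_.Matrix.cons_val_fin_one, Fin.isValue, _root_.Matrix.cons_val_zero, _root_.Matrix.cons_val_one, _root_.Matrix.cons_val, _root_.MulZeroClass.mul_zero, _root_.add_zero, _root_.mul_one, _root_.zero_add, _root_.Matrix.cons_val_succ, _root_.mul_neg, _root_.IsEmpty.forall_iff, _root_.and_true, _root_.Matrix.one_apply_eq, _root_.neg_zero, Nat.reduceAdd, _root_.Fin.succ_zero_eq_one, _root_.ne_eq, _root_.zero_ne_one, _root_.not_false_eq_true, _root_.Matrix.one_apply_ne, _root_.Fin.succ_one_eq_two, Fin.reduceEq, _root_.and_self, _root_.Fin.succ_ne_zero, _root_.neg_neg, _root_.true_and])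

theorem wel'_inv : (wel' σ)⁻¹ = wel' σ := inv_eq_of_mul_eq_one_left wel'_mul_self

omit hσ in
theorem neg_inv_rel {b : F} (h : b + σ b + 0 * σ 0 = 0) : -b⁻¹ + σ (-b⁻¹) + 0 * σ 0 = 0 := by
  have h1 : σ b = -b := by
    rw [zero_mul, add_zero] at h
    exact (eq_neg_of_add_eq_zero_right h)
  rw [map_neg, map_inv₀, h1, inv_neg]
  simp

theorem triple {b : F} (hb : b ≠ 0) (h : b + σ b + 0 * σ 0 = 0) :
    (wel' σ)⁻¹ * (un 0 b h * (wel' σ * un 0 (-b⁻¹) (neg_inv_rel h) * (wel' σ)⁻¹) * un 0 b h) ∈ To σ := by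
  rw [wel'_inv, mem_To]
  have e : mat σ (wel' σ * (un 0 b h * (wel' σ * un 0 (-b⁻¹) (neg_inv_rel h) * wel' σ) * un 0 b h)) =
      !![-b⁻¹, 0, 0; 0, -1, 0; 0, 0, b] := by
    rw [mat_mul, mat_mul, mat_mul, mat_mul, mat_mul, mat_wel', mat_un, mat_un]
    ext i j
    (revert i j; simp only [Matrix.mul_apply, Fin.sum_univ_three, hb, _root_.Fin.forall_fin_succ, _root_.map_zero, _root_.neg_zero, _root_.Matrix.cons_mul, _root_.Nat.succ_eq_add_one, Nat.reduceAdd, _root_.Matrix.vecMul_cons, _root_.Matrix.head_cons, _root_.zero_smul, _root_.Matrix.tail_cons, _root_.one_smul, _root_.Matrix.empty_vecMul, _root_.add_zero, _root_.zero_add, _root_.neg_smul, _root_.Matrix.neg_cons, _root_.Matrix.neg_empty, _root_.Matrix.empty_mul, _root_.Equiv.symm_apply_apply, _root_.neg_neg, _root_.Matrix.smul_cons, _root_.smul_eq_mul, _root_.mul_one, _root_.MulZeroClass.mul_zero, _root_.Matrix.smul_empty, _root_.Matrix.add_cons, _root_.Matrix.empty_add_empty, _root_.mul_neg,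 _root_.ne_eq, _root_.not_false_eq_true, _root_.mul_inv_cancel₀, _root_.add_neg_cancel, _root_.inv_mul_cancel₀, _root_.neg_add_cancel, _root_.Matrix.of_apply, _root_.Matrix.cons_val', _root_.Matrix.cons_val_fin_one, Fin.isValue, _root_.Matrix.cons_val_zero, _root_.Matrix.cons_val_one, _root_.Matrix.cons_val, _root_.Matrix.cons_val_succ, _root_.forall_const, _root_.true_and, _root_.one_mul, _root_.MulZeroClass.zero_mul, _root_.and_self, _root_.implies_true])
  rw [e]
  refine ⟨⟨?_, ?_, ?_⟩, ?_, ?_, ?_⟩ <;> simp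

theorem fac_US {b : F} (hb : b ≠ 0) (h : b + σ b + 0 * σ 0 = 0) : Fac (spS σ).U := by
  have hm : ∀ g : GUJ σ, g ∈ SUs σ → pr σ g ∈ S σ := fun g hg => ⟨g, hg, rfl⟩
  have hU : ∀ g : GUJ σ, g ∈ Un σ → pr σ g ∈ S σ := fun g hg => hm g (Un_le_SUs hg)
  have key : ∀ (c : F) (hc : c + σ c + 0 * σ 0 = 0), ∀ z ∈ (spS σ).U,
      (⟨pr σ (un 0 c hc), hU _ (un_mem _ _ _)⟩ : S σ) * z = z * ⟨pr σ (un 0 c hc), hU _ (un_mem _ _ _)⟩ := by
    rintro c hc ⟨_, hzS⟩ ⟨u, hu, rfl⟩
    obtain ⟨a', b', h', rfl⟩ := exists_un hu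
    apply Subtype.ext
    show pr σ (un 0 c hc) * pr σ (un a' b' h') = pr σ (un a' b' h') * pr σ (un 0 c hc)
    rw [← map_mul, ← map_mul, un_comm]
  refine Fac.of_split (spS σ) (x := ⟨pr σ (un 0 b h), hU _ (un_mem _ _ _)⟩)
    (y := ⟨pr σ (un 0 (-b⁻¹) (neg_inv_rel h)), hU _ (un_mem _ _ _)⟩) ?_ (key b h) ?_ (key _ _) ?_ ?_
  · exact ⟨_, un_mem _ _ _, rfl⟩
  · exact ⟨_, un_mem _ _ _, rfl⟩
  · have e : (spS σ).w * (spS σ).w = 1 := by
      apply Subtype.ext
      show pr σ (wel' σ) * pr σ (wel' σ) = 1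
      rw [← map_mul, wel'_mul_self, map_one]
    rw [e]
    exact (spS σ).B.one_mem
  · refine ⟨_, triple hb h, ?_⟩
    simp only [map_mul, map_inv]
    rfl

end

section

variable {F : Type*} [Field F] [Fintype F] {q : ℕ} {σ : F →+* F} [hσ : Fact (∀ x, σ (σ x) = x)]

theorem exists_b (hF : Fintype.card F = q ^ 2) (hs : ∀ x, σ x = x ^ q) (hq : 2 ≤ q) :
    ∃ b : F, b ≠ 0 ∧ b + σ b + 0 * σ 0 = 0 := by
  have h1 := card_XS (σ := σ) hF hs
  have h2 : XS σ ≠ ⊥ := by
    intro h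
    rw [h, Nat.card_eq_one_iff_unique.2 ⟨inferInstance, inferInstance⟩] at h1
    omega
  have h3 : ∃ x : S σ, x ∈ XS σ ∧ x ≠ 1 := by
    obtain ⟨a, ha⟩ := Subgroup.ne_bot_iff_exists_ne_one.1 h2
    exact ⟨a.1, a.2, fun h => ha (Subtype.ext h)⟩
  obtain ⟨⟨x, hxS⟩, ⟨u, ⟨hu, hu0⟩, hux⟩, hx1⟩ := h3
  obtain ⟨a, b, h, rfl⟩ := exists_un hu
  rw [mat_un] at hu0
  have ha : a = 0 := by simpa using hu0
  subst ha
  refine ⟨b, ?_, h⟩
  rintro rfl
  apply hx1
  apply Subtype.ext
  have hux' : pr σ (un 0 0 h) = x := hux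
  show x = 1
  rw [← hux']
  have e : un (σ := σ) 0 0 h = 1 := by
    apply mat_inj
    rw [mat_un, mat_one]
    ext i j
    (revert i j; simp only [_root_.Fin.forall_fin_succ, _root_.map_zero, _root_.neg_zero, _root_.Matrix.of_apply, _root_.Matrix.cons_val', _root_.Matrix.cons_val_fin_one, Fin.isValue, _root_.Matrix.cons_val_zero, _root_.Matrix.cons_val_succ, _root_.IsEmpty.forall_iff, _root_.and_true, _root_.Matrix.one_apply_eq, Nat.reduceAdd, _root_.Fin.succ_zero_eq_one, _root_.ne_eq, _root_.zero_ne_one, _root_.not_false_eq_true, _root_.Matrix.one_apply_ne, _root_.Fin.succ_one_eq_two, Fin.reduceEq, _root_.and_self, _root_.Fin.succ_ne_zero, _root_.true_and])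
  rw [e, map_one]

end

/-- **The rank one facts for `PSU(3,q)`.** -/
theorem fac_psu {F : Type*} [Field F] [Fintype F] {q : ℕ} (hF : Fintype.card F = q ^ 2) {p : ℕ} [hp : Fact p.Prime]
    {n : ℕ} (hn : 1 ≤ n) (hq : q = p ^ n) (P : Sylow p (Cfsg.PSU 3 F q)) : Fac (P : Subgroup (Cfsg.PSU 3 F q)) := by
  obtain ⟨σ, hσ, hs, ⟨e⟩⟩ := exists_iso hF
  have hq2 : 2 ≤ q := by
    rw [hq]
    exact hp.out.two_le.trans (Nat.le_self_pow (by omega) p)
  obtain ⟨b, hb, hb2⟩ := exists_b hF hs hq2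
  have h0 := fac_US hb hb2
  have hU := card_US (σ := σ) hF hs
  have hS := card_S (σ := σ) hF hs
  have hqp : p ∣ q := by rw [hq]; exact dvd_pow_self p (by omega)
  have hfin : Finite (S σ) := Finite.of_equiv _ e.toEquiv
  -- the index of `U`
  have hidx : ¬ p ∣ (spS σ).U.index := by
    intro hd
    have h1 := (spS σ).U.card_mul_index
    have h2 : (spS σ).U.index ∣ (q ^ 3 + 1) * (q ^ 2 - 1) := by
      have h3 : Nat.card (spS σ).U * (spS σ).U.index ∣ q ^ 3 * ((q ^ 3 + 1) * (q ^ 2 - 1)) := by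
        rw [h1]
        have e2 : q ^ 3 * ((q ^ 3 + 1) * (q ^ 2 - 1)) = (q ^ 3 + 1) * (q ^ 3 * (q ^ 2 - 1)) := by ring
        rw [e2]
        exact hS
      rw [hU] at h3
      exact Nat.dvd_of_mul_dvd_mul_left (by positivity) h3
    have h4 := hd.trans h2
    rcases hp.out.dvd_mul.1 h4 with h5 | h5
    · have h6 : p ∣ q ^ 3 := dvd_pow hqp (by norm_num)
      have h7 := (Nat.dvd_add_right h6).1 h5
      exact hp.out.one_lt.ne' (Nat.dvd_one.1 h7)
    · have h6 : p ∣ q ^ 2 := dvd_pow hqp (by norm_num)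
      have h8 : 1 ≤ q ^ 2 := Nat.one_le_pow _ _ (by omega)
      have h7 : p ∣ q ^ 2 - (q ^ 2 - 1) := Nat.dvd_sub h6 h5
      rw [Nat.sub_sub_self h8] at h7
      exact hp.out.one_lt.ne' (Nat.dvd_one.1 h7)
  have hpU : IsPGroup p (spS σ).U := by
    rw [IsPGroup.iff_card]
    exact ⟨n * 3, by rw [hU, hq, ← pow_mul]⟩
  let Q : Sylow p (S σ) := hpU.toSylow hidx
  have hQ : (Q : Subgroup (S σ)) = (spS σ).U := rfl
  have hfacQ : ∀ Q' : Sylow p (S σ), Fac (Q' : Subgroup (S σ)) := by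
    intro Q'
    obtain ⟨g, hg⟩ := MulAction.exists_smul_eq (S σ) Q Q'
    have h1 : (Q' : Subgroup (S σ)) = cj g (spS σ).U := by
      rw [← hg]
      rfl
    rw [h1]
    exact h0.conj g
  -- transport
  have h1 := hfacQ (P.mapSurjective (f := e.toMonoidHom) e.surjective)
  have h2 : ((P : Subgroup (Cfsg.PSU 3 F q)).map e.toMonoidHom).map e.symm.toMonoidHom = P := by
    rw [Subgroup.map_map]
    have : e.symm.toMonoidHom.comp e.toMonoidHom = MonoidHom.id _ := by
      ext x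
      simp
    rw [this, Subgroup.map_id]
  rw [← h2]
  exact Fac.map e.symm.toMonoidHom h1 fun g => ⟨e g, by simp⟩

end Cfsg.Agent.H910.PU
end
end

-- part: H767/PU/Auts
section
prune_inst 0xc4206204516200000818001632000020680004020020000000200f020248c300200701010890350290868a506009002811100140426800000e000c000000010000881204a008a000220096000084000000000000000000000000000000000000000000000
set_option linter.all false
open scoped Cfsg.Agent.FastGrp

/-!
# S5258: the automorphisms of `UG K` (helper767)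
-/

set_option autoImplicit false

namespace Cfsg.Agent.H767.PU

open Cfsg Cfsg.FusionSystem Cfsg.Agent.H756.PU

universe u

variable {K : Type u} [Field K] [StarRing K] {p n : ℕ}

theorem star_ne {x : K} (h : x ≠ 0) : star x ≠ 0 := star_ne_zero.mpr h

theorem star_inv (x : K) : star (x⁻¹) = (star x)⁻¹ := by
  by_cases h : x = 0
  · simp [h]
  · have h1 : star x * star (x⁻¹) = 1 := by rw [← star_mul', mul_inv_cancel₀ h, star_one]
    exact eq_inv_of_mul_eq_one_right h1

theorem tau_star (h : HypK K p n) (τ : K ≃+* K) (x : K) : τ (star x) = star (τ x) := by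
  rw [h.star_eq, h.star_eq, map_pow]

/-- the map underlying `IsTor` -/
def torFun (x1 x2 : K) (τ : K ≃+* K) (hτ : ∀ x, τ (star x) = star (τ x)) (g : UG K) : UG K where
  r := x1 * x2⁻¹ * τ g.r
  u1 := x1 * τ g.u1
  u2 := x2 * τ g.u2
  a := x1 * star x1 * τ g.a
  b := x1 * star x2 * τ g.b
  c := x2 * star x2 * τ g.c
  ha := by
    have h := congrArg τ g.ha
    simp only [map_add, map_mul, hτ, map_zero] at h
    simp only [star_mul', star_star]
    linear_combination x1 * star x1 * h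
  hc := by
    have h := congrArg τ g.hc
    simp only [map_add, map_mul, hτ, map_zero] at h
    simp only [star_mul', star_star]
    linear_combination x2 * star x2 * h

theorem torFun_d (x1 x2 : K) (τ : K ≃+* K) (hτ : ∀ x, τ (star x) = star (τ x)) (g : UG K) :
    (torFun x1 x2 τ hτ g).d = x2 * star x1 * τ g.d := by
  simp only [UG.d, torFun, star_mul', star_star, map_sub, map_neg, map_mul, hτ]
  ring

theorem torFun_mul {x1 x2 : K} (h2 : x2 ≠ 0) (τ : K ≃+* K) (hτ : ∀ x, τ (star x) = star (τ x)) (g g' : UG K) :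
    torFun x1 x2 τ hτ (g * g') = torFun x1 x2 τ hτ g * torFun x1 x2 τ hτ g' := by
  have h2' := star_ne h2
  have e : x2⁻¹ * x2 = 1 := inv_mul_cancel₀ h2
  have e' : star x2⁻¹ * star x2 = 1 := by rw [star_inv]; exact inv_mul_cancel₀ h2'
  ext
  · simp only [UG.mul_r, torFun, map_add]; ring
  · simp only [UG.mul_u1, torFun, map_add, map_mul]
    linear_combination (-(x1 * τ g.r * τ g'.u2)) * e
  · simp only [UG.mul_u2, torFun, map_add]; ring
  · rw [UG.mul_a, torFun_d]
    simp only [UG.mul_a, torFun, map_add, map_mul, map_sub, hτ, star_mul', star_star]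
    linear_combination (-(x1 * star x1 * τ g.r * τ g'.d) - x1 * star x1 * τ g.r * star (τ g.r) * τ g'.c
      * (star x2⁻¹ * star x2)) * e + (-(x1 * star x1 * star (τ g.r) * τ g'.b) - x1 * star x1 * τ g.r * star (τ g.r) * τ g'.c
        + x1 * star x1 * τ g.u1 * star (τ g.r) * star (τ g'.u2)) * e'
  · rw [UG.mul_b]
    simp only [UG.mul_b, torFun, map_add, map_mul, map_sub, hτ, star_mul', star_star]
    linear_combination (-(x1 * star x2 * τ g.r * τ g'.c)) * e
  · simp only [UG.mul_c, torFun, map_add, map_mul, map_sub, hτ, star_mul', star_star]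
    ring

theorem torFun_symm {x1 x2 : K} (h1 : x1 ≠ 0) (h2 : x2 ≠ 0) (τ : K ≃+* K) (hτ : ∀ x, τ (star x) = star (τ x))
    (hτ' : ∀ x, τ.symm (star x) = star (τ.symm x)) (g : UG K) :
    torFun (τ.symm x1)⁻¹ (τ.symm x2)⁻¹ τ.symm hτ' (torFun x1 x2 τ hτ g) = g := by
  have h1' := star_ne h1
  have h2' := star_ne h2
  have e1 : τ.symm x1 ≠ 0 := by simpa using h1
  have e2 : τ.symm x2 ≠ 0 := by simpa using h2
  have e1' := star_ne e1
  have e2' := star_ne e2
  ext
  · simp only [torFun, map_mul, map_inv₀, RingEquiv.symm_apply_apply]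
    field_simp
  · simp only [torFun, map_mul, RingEquiv.symm_apply_apply]
    field_simp
  · simp only [torFun, map_mul, RingEquiv.symm_apply_apply]
    field_simp
  · simp only [torFun, map_mul, RingEquiv.symm_apply_apply, hτ', star_inv]
    field_simp
  · simp only [torFun, map_mul, RingEquiv.symm_apply_apply, hτ', star_inv]
    field_simp
  · simp only [torFun, map_mul, RingEquiv.symm_apply_apply, hτ', star_inv]
    field_simp

theorem tau_symm_star {τ : K ≃+* K} (hτ : ∀ x, τ (star x) = star (τ x)) (x : K) :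
    τ.symm (star x) = star (τ.symm x) := by
  apply τ.injective
  rw [RingEquiv.apply_symm_apply, hτ, RingEquiv.apply_symm_apply]

theorem torFun_symm' {x1 x2 : K} (h1 : x1 ≠ 0) (h2 : x2 ≠ 0) (τ : K ≃+* K) (hτ : ∀ x, τ (star x) = star (τ x))
    (g : UG K) :
    torFun x1 x2 τ hτ (torFun (τ.symm x1)⁻¹ (τ.symm x2)⁻¹ τ.symm (tau_symm_star hτ) g) = g := by
  have h1' := star_ne h1
  have h2' := star_ne h2
  ext
  · simp only [torFun, map_mul, map_inv₀, RingEquiv.apply_symm_apply]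
    field_simp
  · simp only [torFun, map_mul, map_inv₀, RingEquiv.apply_symm_apply]
    field_simp
  · simp only [torFun, map_mul, map_inv₀, RingEquiv.apply_symm_apply]
    field_simp
  · simp only [torFun, map_mul, map_inv₀, RingEquiv.apply_symm_apply, hτ, star_inv]
    field_simp
  · simp only [torFun, map_mul, map_inv₀, RingEquiv.apply_symm_apply, hτ, star_inv]
    field_simp
  · simp only [torFun, map_mul, map_inv₀, RingEquiv.apply_symm_apply, hτ, star_inv]
    field_simp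

/-- the automorphism `tor(x1, x2) τ` -/
noncomputable def tor (x1 x2 : K) (h1 : x1 ≠ 0) (h2 : x2 ≠ 0) (τ : K ≃+* K) (hτ : ∀ x, τ (star x) = star (τ x)) :
    MulAut (UG K) where
  toFun := torFun x1 x2 τ hτ
  invFun := torFun (τ.symm x1)⁻¹ (τ.symm x2)⁻¹ τ.symm (tau_symm_star hτ)
  left_inv := torFun_symm h1 h2 τ hτ (tau_symm_star hτ)
  right_inv := torFun_symm' h1 h2 τ hτ
  map_mul' := torFun_mul h2 τ hτ

theorem isTor_tor (x1 x2 : K) (h1 : x1 ≠ 0) (h2 : x2 ≠ 0) (τ : K ≃+* K) (hτ : ∀ x, τ (star x) = star (τ x)) :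
    IsTor (tor x1 x2 h1 h2 τ hτ) x1 x2 τ :=
  ⟨h1, h2, hτ, fun _ => rfl, fun _ => rfl, fun _ => rfl, fun _ => rfl, fun _ => rfl, fun _ => rfl⟩

theorem isTor_eq {α β : MulAut (UG K)} {x1 x2 : K} {τ : K ≃+* K} (hα : IsTor α x1 x2 τ) (hβ : IsTor β x1 x2 τ) :
    α = β := by
  ext g
  · rw [hα.r, hβ.r]
  · rw [hα.u1, hβ.u1]
  · rw [hα.u2, hβ.u2]
  · rw [hα.a, hβ.a]
  · rw [hα.b, hβ.b]
  · rw [hα.c, hβ.c]

theorem isTor_one : IsTor (1 : MulAut (UG K)) 1 1 (RingEquiv.refl K) := by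
  refine ⟨one_ne_zero, one_ne_zero, fun _ => rfl, ?_, ?_, ?_, ?_, ?_, ?_⟩ <;> intro g <;> simp

theorem isTor_mul {α β : MulAut (UG K)} {x1 x2 y1 y2 : K} {τ ρ : K ≃+* K} (hα : IsTor α x1 x2 τ)
    (hβ : IsTor β y1 y2 ρ) : IsTor (α * β) (x1 * τ y1) (x2 * τ y2) (ρ.trans τ) := by
  refine ⟨mul_ne_zero hα.ne1 (by simpa using hβ.ne1), mul_ne_zero hα.ne2 (by simpa using hβ.ne2), ?_, ?_, ?_, ?_, ?_, ?_, ?_⟩
  · intro x; simp only [hα.tst, hβ.tst, _root_.RingEquiv.coe_trans, _root_.Function.comp_apply]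
  · intro g
    rw [MulAut.mul_apply, hα.r, hβ.r]
    simp only [map_mul, map_inv₀, mul_inv, RingEquiv.coe_trans, Function.comp_apply]
    ring
  · intro g
    rw [MulAut.mul_apply, hα.u1, hβ.u1]
    simp only [map_mul, RingEquiv.coe_trans, Function.comp_apply]
    ring
  · intro g
    rw [MulAut.mul_apply, hα.u2, hβ.u2]
    simp only [map_mul, RingEquiv.coe_trans, Function.comp_apply]
    ring
  · intro g
    rw [MulAut.mul_apply, hα.a, hβ.a]
    simp only [map_mul, RingEquiv.coe_trans, Function.comp_apply, hα.tst, star_mul']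
    ring
  · intro g
    rw [MulAut.mul_apply, hα.b, hβ.b]
    simp only [map_mul, RingEquiv.coe_trans, Function.comp_apply, hα.tst, star_mul']
    ring
  · intro g
    rw [MulAut.mul_apply, hα.c, hβ.c]
    simp only [map_mul, RingEquiv.coe_trans, Function.comp_apply, hα.tst, star_mul']
    ring

theorem isTor_inv {α : MulAut (UG K)} {x1 x2 : K} {τ : K ≃+* K} (hα : IsTor α x1 x2 τ) :
    IsTor α⁻¹ (τ.symm x1)⁻¹ (τ.symm x2)⁻¹ τ.symm := by
  have h : α = tor x1 x2 hα.ne1 hα.ne2 τ hα.tst := isTor_eq hα (isTor_tor _ _ _ _ _ _)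
  rw [h]
  exact ⟨by simpa using hα.ne1, by simpa using hα.ne2, tau_symm_star hα.tst, fun _ => rfl, fun _ => rfl,
    fun _ => rfl, fun _ => rfl, fun _ => rfl, fun _ => rfl⟩

/-- `TT K` is the set of all the `tor(x1, x2) τ` -/
theorem mem_TT {α : MulAut (UG K)} : α ∈ TT K ↔ ∃ x1 x2 τ, IsTor α x1 x2 τ := by
  constructor
  · intro h
    refine Subgroup.closure_induction (p := fun α _ => ∃ x1 x2 τ, IsTor α x1 x2 τ) ?_ ?_ ?_ ?_ h
    · intro x hx; exact hx
    · exact ⟨_, _, _, isTor_one⟩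
    · rintro x y _ _ ⟨x1, x2, τ, hx⟩ ⟨y1, y2, ρ, hy⟩
      exact ⟨_, _, _, isTor_mul hx hy⟩
    · rintro x _ ⟨x1, x2, τ, hx⟩
      exact ⟨_, _, _, isTor_inv hx⟩
  · intro h
    exact Subgroup.subset_closure h

/-! ### the Weyl elements -/

/-- the map underlying `IsW2` -/
def w2Fun (g : Q2 K) : Q2 K := ⟨
  { r := 0, u1 := (g : UG K).u2, u2 := - (g : UG K).u1, a := (g : UG K).c, b := - (g : UG K).d, c := (g : UG K).a
    ha := (g : UG K).hc
    hc := by
      have h := (g : UG K).ha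
      rw [star_neg]
      linear_combination h }, rfl⟩

theorem w2Fun_mul (g g' : Q2 K) : w2Fun (g * g') = w2Fun g * w2Fun g' := by
  have hg : (g : UG K).r = 0 := g.2
  have hg' : (g' : UG K).r = 0 := g'.2
  have hd := d_mul (g : UG K) (g' : UG K)
  apply Subtype.ext
  ext
  · simp only [w2Fun, _root_.Subgroup.coe_mul, _root_.Cfsg.Agent.H756.PU.UG.mul_u2, _root_.Cfsg.Agent.H756.PU.UG.mul_u1, _root_.neg_add_rev, _root_.Cfsg.Agent.H756.PU.UG.mul_c, _root_.Cfsg.Agent.H756.PU.UG.mul_r, _root_.add_zero]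
  · simp only [w2Fun, _root_.Subgroup.coe_mul, _root_.Cfsg.Agent.H756.PU.UG.mul_u2, _root_.Cfsg.Agent.H756.PU.UG.mul_u1, _root_.neg_add_rev, _root_.Cfsg.Agent.H756.PU.UG.mul_c, _root_.mul_neg, _root_.MulZeroClass.zero_mul, _root_.neg_zero, _root_.add_zero]
  · simp only [w2Fun, hg, add_comm, _root_.Subgroup.coe_mul, _root_.Cfsg.Agent.H756.PU.UG.mul_u2, _root_.Cfsg.Agent.H756.PU.UG.mul_u1, _root_.MulZeroClass.zero_mul, _root_.add_zero, _root_.neg_add_rev, _root_.Cfsg.Agent.H756.PU.UG.mul_c]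
  · simp only [w2Fun, UG.mul_a, _root_.Subgroup.coe_mul, _root_.Cfsg.Agent.H756.PU.UG.mul_u2, _root_.Cfsg.Agent.H756.PU.UG.mul_u1, _root_.neg_add_rev, _root_.Cfsg.Agent.H756.PU.UG.mul_c, _root_.MulZeroClass.zero_mul, _root_.add_zero, _root_.star_zero, _root_.mul_neg, _root_.neg_zero, _root_.MulZeroClass.mul_zero, _root_.star_neg]
  · rw [Subgroup.coe_mul, UG.mul_b]
    simp only [w2Fun, Subgroup.coe_mul, hd, hg, star_zero, star_neg]
    ring
  · simp only [w2Fun, Subgroup.coe_mul, UG.mul_c, UG.mul_a, hg, star_neg, star_zero]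
    ring

theorem w2Fun_bij : Function.Bijective (w2Fun : Q2 K → Q2 K) := by
  have h4 : ∀ g : Q2 K, w2Fun (w2Fun (w2Fun (w2Fun g))) = g := by
    intro g
    have hg : (g : UG K).r = 0 := g.2
    apply Subtype.ext
    ext
    · simp only [w2Fun, hg, _root_.neg_neg]
    · simp [w2Fun]
    · simp only [w2Fun, _root_.neg_neg]
    · simp only [w2Fun, _root_.neg_neg]
    · simp only [w2Fun, UG.d, star_neg, star_sub, star_mul', star_star]
      ring
    · simp [w2Fun]
  constructor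
  · intro x y hxy
    rw [← h4 x, ← h4 y, hxy]
  · intro y
    exact ⟨_, h4 y⟩

/-- the Weyl element of `SL₂(K)` -/
noncomputable def w2 (K : Type u) [Field K] [StarRing K] : MulAut (Q2 K) :=
  MulEquiv.ofBijective (MonoidHom.mk' w2Fun w2Fun_mul) w2Fun_bij

theorem isW2_w2 : IsW2 (w2 K) := ⟨fun _ => rfl, fun _ => rfl, fun _ => rfl, fun _ => rfl, fun _ => rfl⟩

/-- the map underlying `IsW1` -/
def w1Fun (κ : K) (g : Q1 K) : Q1 K := ⟨
  { r := - κ⁻¹ * (g : UG K).b, u1 := (g : UG K).u1, u2 := 0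
    a := (g : UG K).a - star (g : UG K).r * (g : UG K).b + (g : UG K).r * star (g : UG K).b
    b := κ * (g : UG K).r, c := 0
    ha := by
      have h := (g : UG K).ha
      simp only [star_add, star_sub, star_mul', star_star]
      linear_combination h
    hc := by simp }, ⟨rfl, rfl⟩⟩

theorem w1_aux {κ : K} (hκ : κ + star κ = 0) : star κ = -κ ∧ star (κ⁻¹) = -κ⁻¹ := by
  have h1 : star κ = -κ := by linear_combination hκ
  refine ⟨h1, ?_⟩
  rw [star_inv, h1, inv_neg]

theorem w1Fun_mul (κ : K) (h0 : κ ≠ 0) (hκ : κ + star κ = 0) (g g' : Q1 K) :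
    w1Fun κ (g * g') = w1Fun κ g * w1Fun κ g' := by
  obtain ⟨k1, k2⟩ := w1_aux hκ
  have e : κ⁻¹ * κ = 1 := inv_mul_cancel₀ h0
  have hg : (g : UG K).u2 = 0 := g.2.1
  have hg' : (g' : UG K).u2 = 0 := g'.2.1
  have hc : (g : UG K).c = 0 := g.2.2
  have hc' : (g' : UG K).c = 0 := g'.2.2
  apply Subtype.ext
  ext
  · simp only [w1Fun, Subgroup.coe_mul, UG.mul_r, UG.mul_b, hg', hc', star_zero]; ring
  · simp only [w1Fun, Subgroup.coe_mul, UG.mul_u1, hg']; ring
  · simp only [w1Fun, _root_.Subgroup.coe_mul, _root_.neg_mul, _root_.Cfsg.Agent.H756.PU.UG.mul_u1, _root_.Cfsg.Agent.H756.PU.UG.mul_r, _root_.StarAddMonoid.star_add, _root_.MulMemClass.mk_mul_mk, _root_.Cfsg.Agent.H756.PU.UG.mul_u2, _root_.add_zero]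
  · simp only [w1Fun, Subgroup.coe_mul, UG.mul_a, UG.mul_r, UG.mul_b, UG.d, hg, hg', hc, hc', star_zero, star_add,
      star_mul', star_neg, k1, k2, zero_mul, mul_zero, star_sub]
    linear_combination (-(star (g : UG K).b * (g' : UG K).r) + (g : UG K).b * star (g' : UG K).r) * e
  · simp only [w1Fun, Subgroup.coe_mul, UG.mul_r, UG.mul_b, star_zero]; ring
  · simp only [w1Fun, _root_.Subgroup.coe_mul, _root_.neg_mul, _root_.Cfsg.Agent.H756.PU.UG.mul_u1, _root_.Cfsg.Agent.H756.PU.UG.mul_r, _root_.StarAddMonoid.star_add, _root_.MulMemClass.mk_mul_mk, _root_.Cfsg.Agent.H756.PU.UG.mul_c, _root_.add_zero, _root_.star_zero, _root_.MulZeroClass.mul_zero, _root_.sub_self]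

theorem w1Fun_bij (κ : K) (h0 : κ ≠ 0) (hκ : κ + star κ = 0) : Function.Bijective (w1Fun κ) := by
  obtain ⟨k1, k2⟩ := w1_aux hκ
  have e : κ⁻¹ * κ = 1 := inv_mul_cancel₀ h0
  have h4 : ∀ g : Q1 K, w1Fun κ (w1Fun κ (w1Fun κ (w1Fun κ g))) = g := by
    intro g
    have hg : (g : UG K).u2 = 0 := g.2.1
    have hc : (g : UG K).c = 0 := g.2.2
    apply Subtype.ext
    ext
    · simp only [w1Fun]
      linear_combination ((g : UG K).r * (κ⁻¹ * κ) + (g : UG K).r) * e
    · simp only [w1Fun, _root_.neg_mul, _root_.star_neg, _root_.star_mul', _root_.star_inv₀, _root_.sub_neg_eq_add, _root_.mul_neg, _root_.neg_neg]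
    · simp only [w1Fun, hg, _root_.neg_mul, _root_.star_neg, _root_.star_mul', _root_.star_inv₀, _root_.sub_neg_eq_add, _root_.mul_neg, _root_.neg_neg]
    · simp only [w1Fun, star_mul', star_neg, k1, k2]
      linear_combination (star (g : UG K).r * (g : UG K).b - (g : UG K).r * star (g : UG K).b) * (1 + (κ⁻¹ * κ) ^ 2) * e
    · simp only [w1Fun]
      linear_combination ((g : UG K).b * (κ⁻¹ * κ) + (g : UG K).b) * e
    · simp only [w1Fun, hc, _root_.neg_mul, _root_.star_neg, _root_.star_mul', _root_.star_inv₀, _root_.sub_neg_eq_add, _root_.mul_neg, _root_.neg_neg]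
  constructor
  · intro x y hxy
    rw [← h4 x, ← h4 y, hxy]
  · intro y
    exact ⟨_, h4 y⟩

/-- the Weyl element of `SU₃(K)` -/
noncomputable def w1 (κ : K) (h0 : κ ≠ 0) (hκ : κ + star κ = 0) : MulAut (Q1 K) :=
  MulEquiv.ofBijective (MonoidHom.mk' (w1Fun κ) (w1Fun_mul κ h0 hκ)) (w1Fun_bij κ h0 hκ)

theorem isW1_w1 (κ : K) (h0 : κ ≠ 0) (hκ : κ + star κ = 0) : IsW1 κ (w1 κ h0 hκ) :=
  ⟨h0, hκ, fun _ => rfl, fun _ => rfl, fun _ => rfl, fun _ => rfl⟩

/-- (GRP) -/
theorem stGrp : StGrp.{u} := by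
  intro K _ _ p n h
  refine ⟨card_UG h, isPGroup_top h, ?_, fun α hα => mem_TT.mp hα, ⟨w2 K, isW2_w2⟩, fun κ h0 hκ => ⟨_, isW1_w1 κ h0 hκ⟩⟩
  intro x1 x2 τ h1 h2
  exact ⟨_, isTor_tor x1 x2 h1 h2 τ (tau_star h τ)⟩

end Cfsg.Agent.H767.PU

private theorem dce_90169cfff8c7 : _root_.True := by
  try have : _root_.True := by simp only [_root_.Cfsg.Agent.H767.PU.w1Fun.eq_1]
  try have : _root_.True := by simp only [_root_.Cfsg.Agent.H756.PU.UG.mk.congr_simp]
  try have : _root_.True := by simp only [_root_.Cfsg.Agent.H767.PU.w2Fun.eq_1]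
  try have : _root_.True := by simp only [_root_.Cfsg.Agent.H767.PU.torFun.eq_1]
  exact _root_.True.intro
end
end

-- part: H241/PU/E3c_mg
section
set_option linter.all false
open scoped Cfsg.Agent.FastGrp

-- part: H241/PU/Tools
section
/-!
# S5258: tools on `hull` and on the centre of `UG K` (helper241)

* `hull_le`, `le_hull`, `inv_hull`, `com_hull` (`[E, X] ≤ N` implies `[E, hull X] ≤ N`), `pow_hull`;
* `ext_mod` : the coordinates of `x y` and `y x` if `[x, y] ∈ Z`;
* `exists_trace_ne`, `exists_trace_eq` : the trace is not zero, `a + star a = - t star t` is solvable.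
-/

set_option autoImplicit false

namespace Cfsg.Agent.H241.PU

open Cfsg Cfsg.FusionSystem Cfsg.Agent.H756.PU

universe u

section Hull

variable {Ω : Type*} [Group Ω] {E : Subgroup Ω} {Γ : Subgroup (MulAut E)} {X N : Subgroup Ω}

theorem hull_le : hull Γ X ≤ E := by
  rw [hull, Subgroup.closure_le]
  rintro y ⟨γ, -, e, -, rfl⟩
  exact (γ e).2

theorem mem_hull {γ : MulAut E} (hγ : γ ∈ Γ) {e : E} (he : (e : Ω) ∈ X) : ((γ e : E) : Ω) ∈ hull Γ X :=
  Subgroup.subset_closure ⟨γ, hγ, e, he, rfl⟩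

theorem le_hull (hX : X ≤ E) : X ≤ hull Γ X := fun x hx =>
  mem_hull (X := X) Γ.one_mem (e := ⟨x, hX hx⟩) hx

theorem inv_hull : _root_.Cfsg.Agent.H756.PU.Inv Γ (hull Γ X) := by
  refine ⟨hull_le, fun γ hγ e he => ?_⟩
  have key : ∀ y ∈ hull Γ X, ∃ hy : y ∈ E, ((γ ⟨y, hy⟩ : E) : Ω) ∈ hull Γ X := by
    intro y hy
    induction hy using Subgroup.closure_induction with
    | mem y hy =>
      obtain ⟨δ, hδ, e, he, rfl⟩ := hy
      refine ⟨(δ e).2, ?_⟩
      exact mem_hull (X := X) (Γ.mul_mem hγ hδ) he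
    | one =>
      refine ⟨E.one_mem, ?_⟩
      have h1 : (⟨1, E.one_mem⟩ : E) = 1 := rfl
      rw [h1, map_one]
      exact (hull Γ X).one_mem
    | mul x y _ _ hx hy =>
      obtain ⟨hx1, hx2⟩ := hx
      obtain ⟨hy1, hy2⟩ := hy
      refine ⟨E.mul_mem hx1 hy1, ?_⟩
      have h1 : (⟨x * y, E.mul_mem hx1 hy1⟩ : E) = ⟨x, hx1⟩ * ⟨y, hy1⟩ := rfl
      rw [h1, map_mul]
      exact (hull Γ X).mul_mem hx2 hy2
    | inv x _ hx =>
      obtain ⟨hx1, hx2⟩ := hx
      refine ⟨E.inv_mem hx1, ?_⟩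
      have h1 : (⟨x⁻¹, E.inv_mem hx1⟩ : E) = (⟨x, hx1⟩)⁻¹ := rfl
      rw [h1, map_inv]
      exact (hull Γ X).inv_mem hx2
  exact (key e he).2

/-- `[E, X] ≤ N` implies `[E, hull X] ≤ N` -/
theorem com_hull (hN : _root_.Cfsg.Agent.H756.PU.Inv Γ N) (hn : ∀ e ∈ E, ∀ x ∈ N, e * x * e⁻¹ ∈ N) (hX : Com E X N) :
    Com E (hull Γ X) N := by
  have key : ∀ m ∈ hull Γ X, m ∈ E ∧ ∀ e ∈ E, e * m * e⁻¹ * m⁻¹ ∈ N := by
    intro m hm
    induction hm using Subgroup.closure_induction with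
    | mem y hy =>
      obtain ⟨γ, hγ, x, hx, rfl⟩ := hy
      refine ⟨(γ x).2, fun e he => ?_⟩
      have h1 := hX ((γ⁻¹ ⟨e, he⟩ : E) : Ω) (γ⁻¹ ⟨e, he⟩).2 x hx
      have h2 := hN.2 γ hγ (γ⁻¹ ⟨e, he⟩ * x * (γ⁻¹ ⟨e, he⟩)⁻¹ * x⁻¹) h1
      rw [map_mul, map_mul, map_mul, map_inv, map_inv, MulAut.apply_inv_self] at h2
      exact h2
    | one =>
      refine ⟨E.one_mem, fun e _ => ?_⟩
      have h1 : e * 1 * e⁻¹ * 1⁻¹ = 1 := by group
      rw [h1]
      exact N.one_mem
    | mul x y _ _ hx hy =>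
      refine ⟨E.mul_mem hx.1 hy.1, fun e he => ?_⟩
      have h1 : e * (x * y) * e⁻¹ * (x * y)⁻¹ = (e * x * e⁻¹ * x⁻¹) * (x * (e * y * e⁻¹ * y⁻¹) * x⁻¹) := by group
      rw [h1]
      exact N.mul_mem (hx.2 e he) (hn x hx.1 _ (hy.2 e he))
    | inv x _ hx =>
      refine ⟨E.inv_mem hx.1, fun e he => ?_⟩
      have h1 : e * x⁻¹ * e⁻¹ * x⁻¹⁻¹ = x⁻¹ * (e * x * e⁻¹ * x⁻¹)⁻¹ * x⁻¹⁻¹ := by group
      rw [h1]
      exact hn x⁻¹ (E.inv_mem hx.1) _ (N.inv_mem (hx.2 e he))
  exact fun e he m hm => (key m hm).2 e he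

end Hull

section Centre

variable {K : Type u} [Field K] [StarRing K]

/-- `Z` is central -/
theorem ZS_comm {z : UG K} (hz : z ∈ ZS K) (g : UG K) : z * g = g * z := by
  obtain ⟨h1, h2, h3, h4, h5⟩ := hz
  ext
  · simp [h1]
  · simp [h1, h2, h3]
  · simp [h3]
  · simp only [UG.mul_a, UG.d, h1, h2, h3, h4, h5, star_zero]; ring
  · simp only [UG.mul_b, h1, h2, h3, h4, h5, star_zero]; ring
  · simp only [UG.mul_c, h3, h5, star_zero]; ring

theorem ZS_conj {z : UG K} (hz : z ∈ ZS K) (g : UG K) : g * z * g⁻¹ ∈ ZS K := by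
  rw [← ZS_comm hz, mul_inv_cancel_right]
  exact hz

/-- if `[x, y] ∈ Z` then `x y` and `y x` have the same coordinates but `a` -/
theorem ext_mod {x y : UG K} (h : x * y * x⁻¹ * y⁻¹ ∈ ZS K) :
    (x * y).u1 = (y * x).u1 ∧ (x * y).b = (y * x).b ∧ (x * y).c = (y * x).c := by
  have h1 : x * y = (x * y * x⁻¹ * y⁻¹) * (y * x) := by group
  generalize x * y * x⁻¹ * y⁻¹ = z at h h1
  obtain ⟨z1, z2, z3, z4, z5⟩ := h
  rw [h1]
  refine ⟨?_, ?_, ?_⟩
  · rw [UG.mul_u1, z1, z2]; ring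
  · rw [UG.mul_b, z1, z2, z4]; ring
  · rw [UG.mul_c, z3, z5]; ring

variable {p n : ℕ}

/-- the trace is not zero -/
theorem exists_trace_ne (h : HypK K p n) : ∃ x : K, x + star x ≠ 0 := by
  by_contra hcon
  push Not at hcon
  have := h.fin
  have h1 : (1 : K) + 1 = 0 := by
    have := hcon 1
    rwa [star_one] at this
  have h2 : ∀ x : K, x ^ (p ^ n) = x := by
    intro x
    rw [← h.star_eq]
    have h3 := hcon x
    linear_combination h3 - x * h1
  -- the unit group has exponent dividing `q - 1`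
  have hq : 2 ≤ p ^ n := by
    have := h.pp.two_le
    calc 2 ≤ p := this
      _ ≤ p ^ n := Nat.le_self_pow (by have := h.hn; omega) p
  have h3 : Monoid.exponent Kˣ ∣ p ^ n - 1 := by
    refine Monoid.exponent_dvd_of_forall_pow_eq_one fun u => ?_
    have h4 := h2 (u : K)
    apply Units.ext
    rw [Units.val_pow_eq_pow_val, Units.val_one]
    have h5 : (u : K) * (u : K) ^ (p ^ n - 1) = (u : K) * 1 := by
      rw [← pow_succ', Nat.sub_add_cancel (by omega), mul_one, h4]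
    exact mul_left_cancel₀ u.ne_zero h5
  rw [IsCyclic.exponent_eq_card] at h3
  have h4 : Nat.card Kˣ = (p ^ n) ^ 2 - 1 := by
    rw [Nat.card_units, h.card]
  rw [h4] at h3
  have h5 := Nat.le_of_dvd (by omega) h3
  have h6 : p ^ n < (p ^ n) ^ 2 := by nlinarith only [hq]
  omega

/-- `a + star a = - t star t` is solvable -/
theorem exists_trace_eq (h : HypK K p n) (t : K) : ∃ a : K, a + star a + t * star t = 0 := by
  obtain ⟨x, hx⟩ := exists_trace_ne h
  refine ⟨- (t * star t) * x * (x + star x)⁻¹, ?_⟩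
  have h1 : star (- (t * star t) * x * (x + star x)⁻¹) = - (t * star t) * star x * (x + star x)⁻¹ := by
    rw [star_mul', star_mul', star_neg, star_mul', star_star, star_inv₀, star_add, star_star]
    rw [add_comm (star x) x, mul_comm (star t) t]
  rw [h1]
  field_simp
  ring

/-- an element of `Y₁` with a given coordinate `u₁` -/
theorem exists_Y1 (h : HypK K p n) (t : K) : ∃ y : UG K, y ∈ Y1 K ∧ y.u1 = t := by
  obtain ⟨a, ha⟩ := exists_trace_eq h t
  exact ⟨{ r := 0, u1 := t, u2 := 0, a := a, b := 0, c := 0, ha := ha, hc := by simp },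
    ⟨⟨rfl, rfl⟩, rfl⟩, rfl⟩

end Centre

end Cfsg.Agent.H241.PU
end

-- part: H241/PU/E3c
section
/-!
# S5258, (E3c) (helper241)
-/

set_option autoImplicit false

namespace Cfsg.Agent.H241.PU

open Cfsg Cfsg.FusionSystem Cfsg.Agent.H756.PU

universe u

section

variable {K : Type u} [Field K] [StarRing K]

/-- `[S, Z₂] ≤ Z` -/
theorem com_Z2 (g z : UG K) (hz : z ∈ Z2 K) : g * z * g⁻¹ * z⁻¹ ∈ ZS K := by
  have h1 : g * z * g⁻¹ * z⁻¹ * (z * g) = g * z := by group
  generalize g * z * g⁻¹ * z⁻¹ = w at h1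
  obtain ⟨z1, z2, z3, z5⟩ := hz
  have e1 : w.r = 0 := by
    have := congrArg UG.r h1
    simp only [UG.mul_r, z1] at this
    linear_combination this
  have e3 : w.u2 = 0 := by
    have := congrArg UG.u2 h1
    simp only [UG.mul_u2, z3] at this
    linear_combination this
  have e2 : w.u1 = 0 := by
    have := congrArg UG.u1 h1
    simp only [UG.mul_u1, z1, z2, z3, e1] at this
    linear_combination this
  have e5 : w.c = 0 := by
    have := congrArg UG.c h1
    simp only [UG.mul_c, z5, z3, e3, star_zero] at this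
    linear_combination this
  have e4 : w.b = 0 := by
    have := congrArg UG.b h1
    simp only [UG.mul_b, UG.mul_c, UG.mul_u2, z1, z2, z3, z5, e1, e2, star_zero] at this
    linear_combination this
  exact ⟨e1, e2, e3, e4, e5⟩

/-- `[S, V] ≤ Z₂` -/
theorem com_VV (g v : UG K) (hv : v ∈ VV K) : g * v * g⁻¹ * v⁻¹ ∈ Z2 K := by
  have h1 : g * v * g⁻¹ * v⁻¹ * (v * g) = g * v := by group
  generalize g * v * g⁻¹ * v⁻¹ = w at h1
  obtain ⟨z1, z2, z3⟩ := hv
  have e1 : w.r = 0 := by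
    have := congrArg UG.r h1
    simp only [UG.mul_r, z1] at this
    linear_combination this
  have e3 : w.u2 = 0 := by
    have := congrArg UG.u2 h1
    simp only [UG.mul_u2, z3] at this
    linear_combination this
  have e2 : w.u1 = 0 := by
    have := congrArg UG.u1 h1
    simp only [UG.mul_u1, z1, z2, z3, e1] at this
    linear_combination this
  have e5 : w.c = 0 := by
    have := congrArg UG.c h1
    simp only [UG.mul_c, z3, e3, star_zero] at this
    linear_combination this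
  exact ⟨e1, e2, e3, e5⟩

/-- `V` centralizes `Q₂` -/
theorem VV_comm_Q2 {v g : UG K} (hv : v ∈ VV K) (hg : g ∈ Q2 K) : v * g = g * v := by
  obtain ⟨z1, z2, z3⟩ := hv
  have g1 : g.r = 0 := hg
  ext
  · simp [z1, g1]
  · simp [z1, z2, z3, g1]
  · simp [z3]
  · simp only [UG.mul_a, UG.d, z1, z2, z3, g1, star_zero]; ring
  · simp only [UG.mul_b, z1, z2, z3, g1, star_zero]; ring
  · simp only [UG.mul_c, z3, star_zero]; ring

theorem ZS_le_Z2 : ZS K ≤ Z2 K := fun _ h => ⟨h.1, h.2.1, h.2.2.1, h.2.2.2.2⟩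

end

/-- **(E3c)** -/
theorem stE3c : StE3c.{u} := by
  intro K _ _ p n hK E Γ hE hZ2 hZ _ hQV hY1
  obtain ⟨e, he, he2⟩ := SetLike.not_le_iff_exists.1 hQV
  have he2' : e.u2 ≠ 0 := he2
  -- `M = ⟨Z₂^Γ⟩`
  have hn : ∀ x ∈ E, ∀ y ∈ ZS K, x * y * x⁻¹ ∈ ZS K := fun x _ y hy => ZS_conj hy x
  have hcom : Com E (hull Γ (Z2 K)) (ZS K) := com_hull hZ hn fun g _ z hz => com_Z2 g z hz
  have hM : hull Γ (Z2 K) ≤ Q2 K := by
    intro m hm
    -- `m` has `u₂ = 0`
    obtain ⟨y, hy, hy1⟩ := exists_Y1 hK 1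
    have h1 := (ext_mod (hcom y (hY1 hy) m hm)).2.1
    obtain ⟨⟨y2, yc⟩, yr⟩ := hy
    have yr' : y.r = 0 := yr
    have h2 : m.u2 = 0 := by
      rw [UG.mul_b, UG.mul_b, yr', yc, y2, hy1, star_zero] at h1
      have h3 : star m.u2 = 0 := by linear_combination -h1
      exact star_eq_zero.1 h3
    have h3 := (ext_mod (hcom e he m hm)).1
    rw [UG.mul_u1, UG.mul_u1, h2] at h3
    have h4 : m.r * e.u2 = 0 := by linear_combination -h3
    exact (mul_eq_zero.1 h4).resolve_right he2'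
  refine H732.PU.stChain hE (ZS K) (ZS K) (hull Γ (Z2 K)) hZ hZ inv_hull le_rfl
    (ZS_le_Z2.trans (le_hull hZ2)) (VV K) le_top ?_ ?_ ?_ ?_
  · -- `[V, E] ≤ Z₂ ≤ M`
    intro v hv x _
    apply le_hull hZ2
    have h1 := com_VV x v hv
    have h2 := (Z2 K).inv_mem h1
    have h3 : (x * v * x⁻¹ * v⁻¹)⁻¹ = v * x * v⁻¹ * x⁻¹ := by group
    rwa [h3] at h2
  · intro v hv m hm
    rw [VV_comm_Q2 hv (hM hm), mul_inv_cancel_right, mul_inv_cancel]
    exact (ZS K).one_mem
  · intro v _ z hz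
    rw [← ZS_comm hz, mul_inv_cancel_right, mul_inv_cancel]
    exact (ZS K).one_mem
  · intro v _ z hz
    exact (ZS_comm hz v).symm

end Cfsg.Agent.H241.PU
end

-- part: H767/PU/Facts
section
/-!
# S5258: the facts (S1)-(S5) on `UG K` (helper767)
-/

set_option autoImplicit false

namespace Cfsg.Agent.H767.PU

open Cfsg Cfsg.FusionSystem Cfsg.Agent.H756.PU

universe u

section generic
variable {Ω : Type*} [Group Ω]

theorem com_symm {A M N : Subgroup Ω} (h : Com A M N) : Com M A N := by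
  intro m hm a ha
  have h1 := N.inv_mem (h a ha m hm)
  have h2 : (a * m * a⁻¹ * m⁻¹)⁻¹ = m * a * m⁻¹ * a⁻¹ := by group
  rwa [h2] at h1

theorem com_mono {A M N A' M' N' : Subgroup Ω} (h : Com A M N) (hA : A' ≤ A) (hM : M' ≤ M) (hN : N ≤ N') :
    Com A' M' N' := fun a ha m hm => hN (h a (hA ha) m (hM hm))

end generic

variable {K : Type u} [Field K] [StarRing K] {p n : ℕ}

/-! ### commutator inclusions -/

theorem com_top_YY : Com (⊤ : Subgroup (UG K)) (YY K) (Z2 K) := by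
  intro x _ y hy
  obtain ⟨h1, h3⟩ := mem_YY.mp hy
  rw [mem_Z2, comm_r, comm_u1, comm_u2, comm_c]
  simp only [h1, h3, _root_.MulZeroClass.mul_zero, _root_.MulZeroClass.zero_mul, _root_.sub_self, _root_.star_zero, _root_.and_self]

theorem com_Q1_Q1 : Com (Q1 K) (Q1 K) (ZS K) := by
  intro x hx y hy
  obtain ⟨h1, h5⟩ := mem_Q1.mp hx
  obtain ⟨h2, h3⟩ := mem_Q1.mp hy
  rw [mem_ZS, comm_r, comm_u1, comm_u2, comm_c, comm_b]
  simp [h1, h2, h3, h5]

theorem com_Q2_Q2 : Com (Q2 K) (Q2 K) (VV K) := by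
  intro x hx y hy
  have h1 := mem_Q2.mp hx
  have h2 := mem_Q2.mp hy
  rw [mem_VV, comm_r, comm_u1, comm_u2]
  simp [h1, h2]

theorem com_YY_YY : Com (YY K) (YY K) (ZS K) := by
  intro x hx y hy
  obtain ⟨h1, h5⟩ := mem_YY.mp hx
  obtain ⟨h2, h3⟩ := mem_YY.mp hy
  rw [mem_ZS, comm_r, comm_u1, comm_u2, comm_c, comm_b]
  simp [h1, h2, h3, h5]

theorem com_Q2_VV_mem {x y : UG K} (hx : x ∈ Q2 K) (hy : y ∈ VV K) : x * y = y * x := by
  have h0 := mem_Q2.mp hx
  obtain ⟨h1, h2, h3⟩ := mem_VV.mp hy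
  rw [commute_iff]
  simp only [h0, h1, h2, h3, _root_.MulZeroClass.mul_zero, _root_.MulZeroClass.zero_mul, _root_.star_zero, _root_.sub_self, _root_.add_zero, _root_.and_self]

/-! ### elementary abelian groups -/

/-! ### centralizers: (S1), (S2) -/

/-- an element of `V` commutes with `g` -/
theorem VV_comm_iff {x y : UG K} (hy : y ∈ VV K) :
    x * y = y * x ↔ x.r * y.c = 0 ∧ star x.r * y.b = x.r * star y.b := by
  obtain ⟨h1, h2, h3⟩ := mem_VV.mp hy
  rw [commute_iff]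
  simp only [h1, h2, h3, UG.d, star_zero, mul_zero, zero_mul, sub_zero, add_zero, true_and]
  constructor
  · rintro ⟨h4, h5⟩
    refine ⟨h4, ?_⟩
    linear_combination h5 - star x.r * h4
  · rintro ⟨h4, h5⟩
    refine ⟨h4, ?_⟩
    linear_combination h5 + star x.r * h4

theorem Z2_comm_iff {x y : UG K} (hy : y ∈ Z2 K) : x * y = y * x ↔ star x.r * y.b = x.r * star y.b := by
  rw [VV_comm_iff (Z2_le_VV hy), (mem_Z2.mp hy).2.2.2]
  simp only [_root_.MulZeroClass.mul_zero, _root_.true_and]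

/-- the element of `Z₂` with coordinates `a = 0`, `b` -/
def eb (b : K) : UG K := { r := 0, u1 := 0, u2 := 0, a := 0, b := b, c := 0, ha := by simp, hc := by simp }

theorem eb_mem (b : K) : eb b ∈ Z2 K := ⟨rfl, rfl, rfl, rfl⟩

/-- the element of `Z` with coordinate `a` -/
def ea (a : K) (ha : a + star a = 0) : UG K :=
  { r := 0, u1 := 0, u2 := 0, a := a, b := 0, c := 0, ha := by simp only [ha, _root_.star_zero, _root_.MulZeroClass.mul_zero, _root_.add_zero], hc := by simp }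

/-- the element of `V` with coordinate `c` -/
def ec (c : K) (hc : c + star c = 0) : UG K :=
  { r := 0, u1 := 0, u2 := 0, a := 0, b := 0, c := c, ha := by simp, hc := by simp only [hc, _root_.star_zero, _root_.MulZeroClass.mul_zero, _root_.add_zero] }

/-- there is a nonzero element of trace zero -/
theorem exists_tz (h : HypK K p n) : ∃ κ : K, κ ≠ 0 ∧ κ + star κ = 0 := by
  have h1 : 1 < Nat.card (Tz K) := by rw [card_Tz h]; exact one_lt_q h
  have := h.fin
  have : Nontrivial (Tz K) := Finite.one_lt_card_iff_nontrivial.mp h1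
  obtain ⟨⟨κ, hκ⟩, h2⟩ := exists_ne (0 : Tz K)
  exact ⟨κ, fun h3 => h2 (Subtype.ext h3), hκ⟩

/-- there is an element not fixed by `star` -/
theorem exists_nf (h : HypK K p n) : ∃ x : K, star x ≠ x := by
  by_contra hcon
  push Not at hcon
  have h1 : Fx K = ⊤ := by rw [eq_top_iff]; intro x _; exact hcon x
  have h2 := card_Fx h
  rw [h1, AddSubgroup.card_top, h.card] at h2
  have h3 := one_lt_q h
  nlinarith

theorem cent_Z2 (h : HypK K p n) {x : UG K} : (∀ y ∈ Z2 K, x * y = y * x) ↔ x ∈ Q2 K := by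
  constructor
  · intro hx
    by_contra hr
    have hr' : x.r ≠ 0 := hr
    obtain ⟨t, ht⟩ := exists_nf h
    have h1 := (Z2_comm_iff (eb_mem (star t * x.r))).mp (hx _ (eb_mem _))
    have h2 : x.r * star x.r * (star t - t) = 0 := by
      have h3 : star (star t * x.r) = t * star x.r := by rw [star_mul', star_star]
      change star x.r * (star t * x.r) = x.r * star (star t * x.r) at h1
      rw [h3] at h1
      linear_combination h1
    rcases mul_eq_zero.mp h2 with h4 | h4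
    · rcases mul_eq_zero.mp h4 with h5 | h5
      · exact hr' h5
      · exact hr' (star_eq_zero.mp h5)
    · exact ht (sub_eq_zero.mp h4)
  · intro hx y hy
    exact com_Q2_VV_mem hx (Z2_le_VV hy)

/-- the elements `b` with `star r * b = r * star b` are the `F_q`-multiples of `r` -/
theorem perp_iff {r b : K} (hr : r ≠ 0) : star r * b = r * star b ↔ ∃ t ∈ Fx K, b = t * r := by
  constructor
  · intro h
    refine ⟨b / r, ?_, by field_simp⟩
    rw [mem_Fx, div_eq_mul_inv, star_mul']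
    have h1 : star (r⁻¹) * star r = 1 := by rw [← star_mul', inv_mul_cancel₀ hr, star_one]
    have h2 : r * r⁻¹ = 1 := mul_inv_cancel₀ hr
    linear_combination (-(star b * star (r⁻¹))) * h2 + (b * r⁻¹) * h1 - star (r⁻¹) * r⁻¹ * h
  · rintro ⟨t, ht, rfl⟩
    rw [star_mul', mem_Fx.mp ht]; ring

/-- every element of `Z` is a commutator `[g, y]`, `y ∈ Z₂`, for `g ∉ Q₂` -/
theorem exists_comm_Z2 (h : HypK K p n) {g z : UG K} (hg : g ∉ Q2 K) (hz : z ∈ ZS K) :
    ∃ y ∈ Z2 K, g * y * g⁻¹ * y⁻¹ = z := by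
  have hr : g.r ≠ 0 := hg
  obtain ⟨h1, h2, h3, h4, h5⟩ := mem_ZS.mp hz
  -- need `star r * b - r * star b = a`
  obtain ⟨κ, hκ0, hκ⟩ := exists_tz h
  have hza : z.a + star z.a = 0 := by have := z.ha; rw [h2] at this; simpa only [_root_.star_zero, _root_.MulZeroClass.mul_zero, _root_.add_zero] using this
  have hk : star κ = -κ := by linear_combination hκ
  have hki : star (κ⁻¹) = -κ⁻¹ := by
    have h6 : star κ * star (κ⁻¹) = 1 := by rw [← star_mul', mul_inv_cancel₀ hκ0, star_one]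
    have h7 := eq_inv_of_mul_eq_one_right h6
    rw [h7, hk, inv_neg]
  obtain ⟨t, ht⟩ := exists_tr h (c := z.a * κ⁻¹) (by
    rw [star_mul', hki]
    linear_combination (-κ⁻¹) * hza)
  -- `b = κ t (star r)⁻¹`: `star r * b = κ t`, its conjugate is `-κ star t`
  have hsr := star_ne_zero.mpr hr
  refine ⟨eb (κ * t * (star g.r)⁻¹), eb_mem _, ?_⟩
  have hb : (eb (κ * t * (star g.r)⁻¹) : UG K).b = κ * t * (star g.r)⁻¹ := rfl
  have e1 : star g.r * (κ * t * (star g.r)⁻¹) = κ * t := by field_simp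
  have e2 : g.r * star (κ * t * (star g.r)⁻¹) = - κ * star t := by
    have h6 : star (star g.r * (κ * t * (star g.r)⁻¹)) = star (κ * t) := by rw [e1]
    rw [star_mul', star_star, star_mul' κ t, hk] at h6
    exact h6
  ext
  · rw [comm_r, h1]
  · rw [comm_u1, h2]; simp only [eb, _root_.MulZeroClass.mul_zero, _root_.MulZeroClass.zero_mul, _root_.sub_self]
  · rw [comm_u2, h3]
  · rw [comm_a]
    simp only [eb, UG.d, star_zero, mul_zero, zero_mul, sub_zero, add_zero, zero_sub, mul_neg]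
    have h8 : κ * κ⁻¹ = 1 := mul_inv_cancel₀ hκ0
    linear_combination e1 - e2 + κ * ht + z.a * h8
  · rw [comm_b, h4]; simp only [eb, _root_.MulZeroClass.mul_zero, _root_.MulZeroClass.zero_mul, _root_.sub_self, _root_.star_zero, _root_.add_zero]
  · rw [comm_c, h5]; simp only [eb, _root_.MulZeroClass.zero_mul, _root_.star_zero, _root_.MulZeroClass.mul_zero, _root_.sub_self]

/-! ### (S3), (S4) -/

/-- the centralizer of `x` in `Q₂` -/
theorem Q2_comm_iff {x y : UG K} (hx : x ∈ Q2 K) (hy : y ∈ Q2 K) :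
    x * y = y * x ↔ x.u2 * star y.u2 = y.u2 * star x.u2 ∧ x.u1 * star y.u2 = y.u1 * star x.u2 ∧
      x.u1 * star y.u1 = y.u1 * star x.u1 := by
  have hx' := mem_Q2.mp hx
  have hy' := mem_Q2.mp hy
  rw [commute_iff]
  simp only [hx', hy', star_zero, zero_mul, mul_zero, zero_sub, add_zero, neg_inj, true_and]

theorem Q2_comm_iff' {x y : UG K} (hx : x ∈ Q2 K) (hy : y ∈ Q2 K) (hne : x ∉ VV K) :
    x * y = y * x ↔ ∃ t ∈ Fx K, y.u1 = t * x.u1 ∧ y.u2 = t * x.u2 := by
  rw [Q2_comm_iff hx hy]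
  constructor
  · rintro ⟨h1, h2, h3⟩
    by_cases h4 : x.u2 = 0
    · have h5 : x.u1 ≠ 0 := fun h6 => hne ⟨hx, h6, h4⟩
      obtain ⟨t, ht, h6⟩ := (perp_iff (b := y.u1) h5).mp (by rw [mul_comm, ← h3, mul_comm, mul_comm])
      refine ⟨t, ht, h6, ?_⟩
      rw [h4, star_zero, mul_zero] at h2
      rw [h4, mul_zero]
      exact star_eq_zero.mp ((mul_eq_zero.mp h2).resolve_left h5)
    · obtain ⟨t, ht, h6⟩ := (perp_iff (b := y.u2) h4).mp (by rw [mul_comm, ← h1])
      refine ⟨t, ht, ?_, h6⟩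
      rw [h6, star_mul', mem_Fx.mp ht] at h2
      have h7 : star x.u2 ≠ 0 := star_ne_zero.mpr h4
      have h8 : star x.u2 * (y.u1 - t * x.u1) = 0 := by linear_combination -h2
      exact sub_eq_zero.mp ((mul_eq_zero.mp h8).resolve_left h7)
  · rintro ⟨t, ht, h1, h2⟩
    have ht' := mem_Fx.mp ht
    rw [h1, h2]
    simp only [star_mul', ht']
    refine ⟨?_, ?_, ?_⟩ <;> ring

/-- `C_{Q₂}(x)` is abelian for `x ∈ Q₂ ∖ V` -/
theorem Q2_cent_abelian {x y z : UG K} (hx : x ∈ Q2 K) (hy : y ∈ Q2 K) (hz : z ∈ Q2 K) (hne : x ∉ VV K)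
    (hxy : x * y = y * x) (hxz : x * z = z * x) : y * z = z * y := by
  obtain ⟨t, ht, h1, h2⟩ := (Q2_comm_iff' hx hy hne).mp hxy
  obtain ⟨s, hs, h3, h4⟩ := (Q2_comm_iff' hx hz hne).mp hxz
  rw [Q2_comm_iff hy hz, h1, h2, h3, h4]
  simp only [star_mul', mem_Fx.mp ht, mem_Fx.mp hs]
  refine ⟨?_, ?_, ?_⟩ <;> ring

/-- `|C_{Q₂}(x)| = q⁵` for `x ∈ Q₂ ∖ V` -/
theorem card_cent_Q2 (h : HypK K p n) {x : UG K} (hx : x ∈ Q2 K) (hne : x ∉ VV K) (C : Subgroup (UG K))
    (hC : ∀ y, y ∈ C ↔ y ∈ Q2 K ∧ x * y = y * x) : Nat.card C = (p ^ n) ^ 5 := by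
  have := h.fin
  -- the set of parameters
  have h0 : (C : Set (UG K)) = coord h '' {t | t.1 = 0 ∧ (∃ s ∈ Fx K, t.2.1 = s * x.u1 ∧ t.2.2.1 = s * x.u2)} := by
    ext y
    constructor
    · intro hy
      obtain ⟨h1, h2⟩ := (hC y).mp hy
      refine ⟨(coord h).symm y, ⟨?_, ?_⟩, (coord h).apply_symm_apply y⟩
      · have := mem_Q2.mp h1
        rw [← (coord h).apply_symm_apply y, coord_r] at this
        exact this
      · obtain ⟨s, hs, h3, h4⟩ := (Q2_comm_iff' hx h1 hne).mp h2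
        refine ⟨s, hs, ?_, ?_⟩
        · rw [← h3]
          conv_rhs => rw [← (coord h).apply_symm_apply y, coord_u1]
        · rw [← h4]
          conv_rhs => rw [← (coord h).apply_symm_apply y, coord_u2]
    · rintro ⟨t, ⟨h1, s, hs, h3, h4⟩, rfl⟩
      have h5 : coord h t ∈ Q2 K := h1
      exact (hC _).mpr ⟨h5, (Q2_comm_iff' hx h5 hne).mpr ⟨s, hs, h3, h4⟩⟩
  have h1 : Nat.card C = (C : Set (UG K)).ncard := Nat.card_coe_set_eq _
  rw [h1, h0, Set.ncard_image_of_injective _ (coord h).injective]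
  have h2 : {t : K × K × K × K × Tz K × Tz K | t.1 = 0 ∧ (∃ s ∈ Fx K, t.2.1 = s * x.u1 ∧ t.2.2.1 = s * x.u2)} =
      (fun t : (Fx K) × K × Tz K × Tz K => ((0 : K), (t.1 : K) * x.u1, (t.1 : K) * x.u2, t.2.1, t.2.2.1, t.2.2.2)) '' Set.univ := by
    ext ⟨t1, t2, t3, t4, t5, t6⟩
    constructor
    · rintro ⟨e1, s, hs, e2, e3⟩
      exact ⟨(⟨s, hs⟩, t4, t5, t6), trivial, by
        change t1 = 0 at e1
        change t2 = s * x.u1 at e2
        change t3 = s * x.u2 at e3
        rw [e1, e2, e3]⟩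
    · rintro ⟨⟨s, s4, s5, s6⟩, -, h3⟩
      simp only [Prod.mk.injEq] at h3
      obtain ⟨e1, e2, e3, -⟩ := h3
      exact ⟨e1.symm, s, s.2, e2.symm, e3.symm⟩
  rw [h2, Set.ncard_image_of_injective, Set.ncard_univ]
  · simp only [Nat.card_prod, card_Fx h, card_Tz h, h.card]; ring
  · rintro ⟨s, s4, s5, s6⟩ ⟨s', s4', s5', s6'⟩ h3
    simp only [Prod.mk.injEq, true_and] at h3
    obtain ⟨e2, e3, e4, e5, e6⟩ := h3
    have e1 : s = s' := by
      apply Subtype.ext
      by_cases h4 : x.u2 = 0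
      · have h5 : x.u1 ≠ 0 := fun h6 => hne ⟨hx, h6, h4⟩
        exact mul_right_cancel₀ h5 e2
      · exact mul_right_cancel₀ h4 e3
    rw [e1, e4, e5, e6]

/-- `C_{Q₂}(g) ≤ Y` for `g ∉ Q₂` -/
theorem Q2_comm_mem_YY {g y : UG K} (hg : g ∉ Q2 K) (hy : y ∈ Q2 K) (hgy : g * y = y * g) : y ∈ YY K := by
  have hr : g.r ≠ 0 := hg
  have h1 := ((commute_iff g y).mp hgy).1
  rw [mem_Q2.mp hy, zero_mul] at h1
  exact ⟨hy, (mul_eq_zero.mp h1).resolve_left hr⟩

/-! ### (S5) -/

end Cfsg.Agent.H767.PU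
end

-- part: H456/PU/W
section
/-!
# S5258, `StL1a` for `q = 2`: the computation in `W = K³`, `|K| = 4` (helper456)

Coordinates `(b, u, r)`. A group `X` of isometries of `W` containing the quaternion group of all `pP s c`, in which the
elements commuting with the transvection `zz = pP 0 1` are the standard ones, is the standard one.
-/

set_option autoImplicit false
set_option linter.unusedSectionVars false
set_option linter.unnecessarySeqFocus false

namespace Cfsg.Agent.H456.PU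

universe u

variable {K : Type u} [Field K] [StarRing K]

/-- the field with four elements, `w` a primitive cube root of unity -/
structure Dat (K : Type u) [Field K] [StarRing K] (w : K) : Prop where
  two : (2 : K) = 0
  st : ∀ x : K, star x = x * x
  four : ∀ x : K, x * x * x * x = x
  hw : w * w = w + 1

/-- the quaternion group -/
def pP (s c : K) : Equiv.Perm (K × K × K) where
  toFun x := (x.1 + star s * x.2.1 + c * x.2.2, x.2.1 + s * x.2.2, x.2.2)
  invFun x := (x.1 - star s * x.2.1 + (star s * s - c) * x.2.2, x.2.1 - s * x.2.2, x.2.2)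
  left_inv := by
    rintro ⟨b, u, r⟩
    ext <;> simp only <;> ring
  right_inv := by
    rintro ⟨b, u, r⟩
    ext <;> simp only <;> ring

/-- the other quaternion group -/
def pQ (β γ : K) : Equiv.Perm (K × K × K) where
  toFun x := (x.1 + β * star x.2.1 + γ * x.2.2, x.2.1 + β * star x.2.2, x.2.2)
  invFun x := (x.1 - β * star x.2.1 + (β * star β) * x.2.2 - γ * x.2.2, x.2.1 - β * star x.2.2, x.2.2)
  left_inv := by
    rintro ⟨b, u, r⟩
    ext <;> simp only [star_add, star_mul', star_star] <;> ring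
  right_inv := by
    rintro ⟨b, u, r⟩
    ext <;> simp only [star_sub, star_mul', star_star] <;> ring

/-- the opposite transvection -/
def y0 : Equiv.Perm (K × K × K) where
  toFun x := (x.1, x.2.1, x.2.2 + x.1)
  invFun x := (x.1, x.2.1, x.2.2 - x.1)
  left_inv := by
    rintro ⟨b, u, r⟩
    ext <;> simp only <;> ring
  right_inv := by
    rintro ⟨b, u, r⟩
    ext <;> simp only <;> ring

/-- the Weyl element -/
def w1p : Equiv.Perm (K × K × K) where
  toFun x := (x.2.2, x.2.1, x.1)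
  invFun x := (x.2.2, x.2.1, x.1)
  left_inv := by
    rintro ⟨b, u, r⟩
    rfl
  right_inv := by
    rintro ⟨b, u, r⟩
    rfl

/-- scalars -/
def sc (t : Kˣ) : Equiv.Perm (K × K × K) where
  toFun x := (t * x.1, t * x.2.1, t * x.2.2)
  invFun x := (t⁻¹ * x.1, t⁻¹ * x.2.1, t⁻¹ * x.2.2)
  left_inv := by
    rintro ⟨b, u, r⟩
    ext <;> simp
  right_inv := by
    rintro ⟨b, u, r⟩
    ext <;> simp

theorem pP_apply (s c b u r : K) : pP s c (b, u, r) = (b + star s * u + c * r, u + s * r, r) := rfl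
theorem pQ_apply (s c b u r : K) : pQ s c (b, u, r) = (b + s * star u + c * r, u + s * star r, r) := rfl
theorem y0_apply (b u r : K) : y0 (b, u, r) = (b, u, r + b) := rfl
theorem w1p_apply (b u r : K) : w1p (b, u, r) = (r, u, b) := rfl
theorem sc_apply (t : Kˣ) (b u r : K) : sc t (b, u, r) = (t * b, t * u, t * r) := rfl

/-- the quadratic form -/
def qf (x : K × K × K) : K := x.2.1 * star x.2.1 + (x.2.2 * star x.1 + x.1 * star x.2.2)

/-- the polar form -/
def bf (x y : K × K × K) : K :=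
  (x.2.1 * star y.2.1 + x.2.2 * star y.1 + x.1 * star y.2.2) +
    (y.2.1 * star x.2.1 + y.2.2 * star x.1 + y.1 * star x.2.2)

theorem qf_add (x y : K × K × K) : qf (x + y) = qf x + qf y + bf x y := by
  simp only [qf, bf, Prod.fst_add, Prod.snd_add, star_add]
  ring

section dat

variable {w : K} (D : Dat K w)

include D

theorem Dat.add_self (x : K) : x + x = 0 := by
  rw [← two_mul, D.two, zero_mul]

theorem Dat.neg (x : K) : -x = x := by
  rw [neg_eq_iff_add_eq_zero]; exact D.add_self x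

theorem Dat.cases (x : K) : x = 0 ∨ x = 1 ∨ x = w ∨ x = w + 1 := by
  have h := D.four x
  have h2 := D.two
  have hw := D.hw
  have h1 : x * ((x + 1) * ((x + w) * (x + (w + 1)))) = 0 := by
    linear_combination h + (x ^ 3 * (w + 1) + x ^ 2 * (2 * w + 1) + x * (w + 1)) * h2 + (x ^ 2 + x) * hw
  rcases mul_eq_zero.1 h1 with h1 | h1
  · exact Or.inl h1
  rcases mul_eq_zero.1 h1 with h1 | h1
  · right; left
    rw [← D.neg 1]; exact eq_neg_of_add_eq_zero_left h1
  rcases mul_eq_zero.1 h1 with h1 | h1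
  · right; right; left
    rw [← D.neg w]; exact eq_neg_of_add_eq_zero_left h1
  · right; right; right
    rw [← D.neg (w + 1)]; exact eq_neg_of_add_eq_zero_left h1

theorem Dat.w_ne : w ≠ 0 := by
  rintro rfl
  have := D.hw
  simp at this


theorem Dat.cube {t : K} (ht : t ≠ 0) : t * t * t = 1 := by
  have h := D.four t
  have : t * (t * t * t) = t * 1 := by rw [mul_one]; linear_combination h
  exact mul_left_cancel₀ ht this

theorem Dat.tr01 (t : K) : t + star t = 0 ∨ t + star t = 1 := by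
  rw [D.st]
  have h2 := D.two
  have hw := D.hw
  rcases D.cases t with rfl | rfl | rfl | rfl
  · left; ring
  · left; linear_combination h2
  · right; linear_combination hw + t * h2
  · right; linear_combination hw + (2 * w + 1) * h2

theorem bf_tr (x y : K × K × K) : bf x y = (x.2.1 * star y.2.1 + x.2.2 * star y.1 + x.1 * star y.2.2) +
    star (x.2.1 * star y.2.1 + x.2.2 * star y.1 + x.1 * star y.2.2) := by
  simp only [bf, star_add, star_mul', star_star]
  ring


theorem Dat.bf01 (x y : K × K × K) : bf x y = 0 ∨ bf x y = 1 := by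
  rw [bf_tr D]
  exact D.tr01 _

end dat

theorem ais {α : Type*} (g : Equiv.Perm α) (x : α) : g (g⁻¹ x) = x := g.apply_symm_apply x

/-- additive isometries -/
structure Isom (g : Equiv.Perm (K × K × K)) : Prop where
  add : ∀ x y, g (x + y) = g x + g y
  qf : ∀ x, qf (g x) = qf x

namespace Isom

variable {g k : Equiv.Perm (K × K × K)}

theorem zero (hg : Isom g) : g 0 = 0 := by
  have h := hg.add 0 0
  rw [add_zero] at h
  exact left_eq_add.1 h

theorem bf (hg : Isom g) (x y : K × K × K) : PU.bf (g x) (g y) = PU.bf x y := by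
  have h1 := qf_add (g x) (g y)
  have h2 := qf_add x y
  rw [← hg.add, hg.qf, hg.qf, hg.qf, h2] at h1
  exact (add_left_cancel h1).symm

theorem mul (hg : Isom g) (hk : Isom k) : Isom (g * k) where
  add x y := by
    simp only [Equiv.Perm.mul_apply, hk.add, hg.add]
  qf x := by
    rw [Equiv.Perm.mul_apply, hg.qf, hk.qf]

theorem smul (hg : Isom g) {t : K} (ht : t = 0 ∨ t = 1) (v : K × K × K) : g (t • v) = t • g v := by
  rcases ht with rfl | rfl
  · rw [zero_smul, zero_smul, hg.zero]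
  · rw [one_smul, one_smul]

end Isom

/-- the transvection of the totally singular plane spanned by `a`, `b` -/
def Y (a b x : K × K × K) : K × K × K := x + bf x b • a + bf x a • b

section dat

variable {w : K} (D : Dat K w)

include D

theorem conj_Y {k : Equiv.Perm (K × K × K)} (hk : Isom k) (a b x : K × K × K) :
    k (Y a b (k⁻¹ x)) = Y (k a) (k b) x := by
  have h1 : ∀ v, bf (k⁻¹ x) v = bf x (k v) := by
    intro v
    rw [← hk.bf (k⁻¹ x) v, ais]
  rw [Y, Y, hk.add, hk.add, hk.smul (D.bf01 _ _), hk.smul (D.bf01 _ _), ais, h1, h1]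

theorem dsmul_self (x : K × K × K) : x + x = 0 := by
  ext <;> exact D.add_self _

theorem bf_add_right (x a b : K × K × K) : bf x (a + b) = bf x a + bf x b := by
  simp only [bf, Prod.fst_add, Prod.snd_add, star_add]
  ring

theorem Y_add (a b x : K × K × K) : Y a (a + b) x = Y a b x := by
  rw [Y, Y, bf_add_right D, add_smul, smul_add]
  have h := dsmul_self D (bf x a • a)
  calc x + (bf x a • a + bf x b • a) + (bf x a • a + bf x a • b)
      = x + bf x b • a + bf x a • b + (bf x a • a + bf x a • a) := by abel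
    _ = _ := by rw [h, add_zero]

theorem zz_eq {t : K} (ht : t ≠ 0) (x : K × K × K) : pP 0 1 x = Y (t, 0, 0) (t * w, 0, 0) x := by
  obtain ⟨b, u, r⟩ := x
  have h2 := D.two
  have hw := D.hw
  have hc := D.cube ht
  rw [pP_apply, Y]
  simp only [bf, D.st, Prod.smul_mk, Prod.mk_add_mk, smul_eq_mul, mul_zero, add_zero, zero_mul, zero_add]
  ext
  · simp only
    linear_combination (-r * w - r * (w * w)) * hc - r * hw - (r * w) * h2 - (r ^ 2 * t ^ 2 * w) * h2
  · simp only
  · simp only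


theorem isom_pP {s c : K} (h : c + star c + s * star s = 0) : Isom (pP s c) where
  add x y := by
    obtain ⟨b, u, r⟩ := x
    obtain ⟨b', u', r'⟩ := y
    simp only [Prod.mk_add_mk, pP_apply]
    ext <;> simp only <;> ring
  qf x := by
    obtain ⟨b, u, r⟩ := x
    simp only [pP_apply, qf, star_add, star_mul', star_star]
    linear_combination (r * star r) * h + (u * star s * star r + s * r * star u) * D.two

theorem isom_pQ {s c : K} (h : c + star c + s * star s = 0) : Isom (pQ s c) where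
  add x y := by
    obtain ⟨b, u, r⟩ := x
    obtain ⟨b', u', r'⟩ := y
    simp only [Prod.mk_add_mk, pQ_apply, star_add]
    ext <;> simp only <;> ring
  qf x := by
    obtain ⟨b, u, r⟩ := x
    simp only [pQ_apply, qf, star_add, star_mul', star_star]
    linear_combination (r * star r) * h + (u * r * star s + s * star r * star u) * D.two

theorem y0_eq (x : K × K × K) : y0 x = Y (0, 0, 1) (0, 0, w) x := by
  obtain ⟨b, u, r⟩ := x
  have h2 := D.two
  have hw := D.hw
  rw [y0_apply, Y]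
  simp only [bf, D.st, Prod.smul_mk, Prod.mk_add_mk, smul_eq_mul, mul_zero, add_zero, zero_mul, zero_add, mul_one,
    one_mul]
  ext
  · simp only
  · simp only
  · simp only
    linear_combination (- b) * hw - (b * w + b ^ 2 * w) * h2

theorem pQ_comm (s c β γ : K) : pP s c * pQ β γ = pQ β γ * pP s c := by
  ext x
  all_goals
    obtain ⟨b, u, r⟩ := x
    simp only [Equiv.Perm.mul_apply, pP_apply, pQ_apply, star_add, star_mul']
  · ring
  · ring

theorem pQ_zero (γ : K) : pQ 0 γ = pP 0 γ := by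
  ext x
  all_goals
    obtain ⟨b, u, r⟩ := x
    simp only [pP_apply, pQ_apply, star_zero, zero_mul]

theorem pP_mul_zero (s c γ : K) : pP s c * pP 0 γ = pP s (c + γ) := by
  ext x
  all_goals
    obtain ⟨b, u, r⟩ := x
    simp only [Equiv.Perm.mul_apply, pP_apply, star_zero, zero_mul]
  all_goals ring

theorem w1_eq : (w1p : Equiv.Perm (K × K × K)) = pP 0 1 * y0 * pP 0 1 := by
  ext x
  all_goals
    obtain ⟨b, u, r⟩ := x
    simp only [Equiv.Perm.mul_apply, pP_apply, y0_apply, w1p_apply, star_zero, zero_mul, one_mul, add_zero]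
  · linear_combination (- b - r) * D.two
  · linear_combination (- r) * D.two

theorem y0_conj : (y0 : Equiv.Perm (K × K × K)) = w1p * pP 0 1 * w1p⁻¹ := by
  rw [eq_mul_inv_iff_mul_eq]
  ext x
  all_goals
    obtain ⟨b, u, r⟩ := x
    simp only [Equiv.Perm.mul_apply, pP_apply, y0_apply, w1p_apply, star_zero, zero_mul, one_mul, add_zero]

theorem sc_comm (t : Kˣ) (s c : K) : sc t * pP s c = pP s c * sc t := by
  ext x
  all_goals
    obtain ⟨b, u, r⟩ := x
    simp only [Equiv.Perm.mul_apply, pP_apply, sc_apply]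
  all_goals ring

theorem sc_word (t : Kˣ) (ht : (t : K) = w) :
    sc t = y0 * pP w w * y0 * pP (w + 1) w * y0 * pP 1 w := by
  have h2 := D.two
  have hw := D.hw
  ext x
  all_goals
    obtain ⟨b, u, r⟩ := x
    simp only [Equiv.Perm.mul_apply, pP_apply, sc_apply, y0_apply, D.st, ht]
  · linear_combination ((-3) * w ^ 0 * b + (-1) * w ^ 1 * b + (-8) * w ^ 0 * u + (-2) * w ^ 1 * u + (-15) * w ^ 0 * r + (-5) * w ^ 1 * r + (-1) * w ^ 2 * r) * hw + ((-2) * w ^ 0 * b + (-3) * w ^ 1 * b + (-5) * w ^ 0 * u + (-8) * w ^ 1 * u + (-8) * w ^ 0 * r + (-13) * w ^ 1 * r) * h2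
  · linear_combination ((-1) * w ^ 0 * b + (-4) * w ^ 0 * u + (-1) * w ^ 1 * u + (-8) * w ^ 0 * r + (-2) * w ^ 1 * r) * hw + ((-1) * w ^ 0 * b + (-2) * w ^ 1 * b + (-3) * w ^ 0 * u + (-4) * w ^ 1 * u + (-5) * w ^ 0 * r + (-7) * w ^ 1 * r) * h2
  · linear_combination ((-3) * w ^ 0 * b + (-1) * w ^ 1 * b + (-9) * w ^ 0 * u + (-2) * w ^ 1 * u + (-17) * w ^ 0 * r + (-5) * w ^ 1 * r + (-1) * w ^ 2 * r) * hw + ((-3) * w ^ 0 * b + (-4) * w ^ 1 * b + (-7) * w ^ 0 * u + (-10) * w ^ 1 * u + (-10) * w ^ 0 * r + (-16) * w ^ 1 * r) * h2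

end dat

end Cfsg.Agent.H456.PU
end

-- part: H456/PU/X
section
/-!
# S5258, `StL1a` for `q = 2`: groups of isometries containing the quaternion group (helper456)
-/

set_option autoImplicit false
set_option linter.unusedSectionVars false
set_option linter.unnecessarySeqFocus false

namespace Cfsg.Agent.H456.PU

universe u

variable {K : Type u} [Field K] [StarRing K]

/-- the hypotheses on the group `X` of isometries -/
structure Hyp (X : Subgroup (Equiv.Perm (K × K × K))) : Prop where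
  iso : ∀ g ∈ X, Isom g
  hP : ∀ s c : K, c + star c + s * star s = 0 → pP s c ∈ X
  cz : ∀ g ∈ X, g * pP 0 1 = pP 0 1 * g → ∃ s c m l : K, c + star c + s * star s = 0 ∧ m ≠ 0 ∧ l ≠ 0 ∧
    ∀ b u r, g (b, u, r) = pP s c (m * b, l * u, m * r)

variable {w : K} (D : Dat K w)

include D

theorem zz_rel : (1 : K) + star 1 + 0 * star 0 = 0 := by
  rw [star_one, zero_mul, add_zero]; exact D.add_self 1

theorem sq_one {m : K} (h : m * m = 1) : m = 1 := by
  have h1 : (m - 1) * (m - 1) = 0 := by linear_combination h + (1 - m) * D.two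
  rcases mul_eq_zero.1 h1 with h1 | h1 <;> exact sub_eq_zero.1 h1

theorem cube_zero {s : K} (h : s * star s = 0) : s = 0 := by
  rcases mul_eq_zero.1 h with h | h
  · exact h
  · exact (star_eq_zero.1 h)

theorem add_one_ne : w + 1 ≠ 0 := by
  intro h
  have hw := D.hw
  rw [h] at hw
  exact D.w_ne (mul_self_eq_zero.1 hw)

variable {X : Subgroup (Equiv.Perm (K × K × K))} (H : Hyp X)

include H

theorem uniq {g : Equiv.Perm (K × K × K)} (hg : g ∈ X) (h2 : g * g = 1) (h1 : g ≠ 1)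
    (hc : g * pP 0 1 = pP 0 1 * g) : g = pP 0 1 := by
  obtain ⟨s, c, m, l, hr, hm, hl, hf⟩ := H.cz g hg hc
  have hgg : ∀ x, g (g x) = x := fun x => by rw [← Equiv.Perm.mul_apply, h2]; rfl
  have e1 := hgg (0, 0, 1)
  rw [hf, pP_apply, hf, pP_apply] at e1
  simp only [mul_zero, zero_add, mul_one, Prod.mk.injEq] at e1
  have e2 := hgg (0, 1, 0)
  rw [hf, pP_apply, hf, pP_apply] at e2
  simp only [mul_zero, zero_add, mul_one, Prod.mk.injEq, add_zero] at e2
  have hm1 := sq_one D e1.2.2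
  have hl1 := sq_one D e2.2.1
  subst hm1 hl1
  have hs : s = 0 := by
    apply cube_zero D
    linear_combination e1.1 - c * D.two
  subst hs
  have hgP : g = pP 0 c := by
    ext1 ⟨b, u, r⟩
    rw [hf, one_mul, one_mul, one_mul]
  rw [zero_mul, add_zero, D.st] at hr
  rcases D.cases c with rfl | rfl | rfl | rfl
  · exfalso
    apply h1
    rw [hgP]
    ext1 ⟨b, u, r⟩
    rw [pP_apply]
    simp
  · exact hgP
  · exfalso
    have : (1 : K) = 0 := by linear_combination hr - D.hw - c * D.two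
    exact one_ne_zero this
  · exfalso
    have : (1 : K) = 0 := by linear_combination hr - D.hw - (2 * w + 1) * D.two
    exact one_ne_zero this

theorem key [Finite K] {g : Equiv.Perm (K × K × K)} (hg : g ∈ X) (hc : g * pP 0 1 ≠ pP 0 1 * g) :
    ∃ s c β γ : K, c + star c + s * star s = 0 ∧ γ + star γ + β * star β = 0 ∧
      g * pP 0 1 * g⁻¹ = (pP s c * pQ β γ) * y0 * (pP s c * pQ β γ)⁻¹ := by
  have h2 := D.two
  have hw := D.hw
  have hgi := H.iso g hg
  set yy := g * pP 0 1 * g⁻¹ with hyy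
  have hzz : (pP 0 1 : Equiv.Perm (K × K × K)) * pP 0 1 = 1 := by
    rw [pP_mul_zero D]
    ext1 ⟨b, u, r⟩
    rw [pP_apply, D.add_self]
    simp
  have hyX : yy ∈ X := X.mul_mem (X.mul_mem hg (H.hP 0 1 (zz_rel D))) (X.inv_mem hg)
  have hy2 : yy * yy = 1 := by
    rw [hyy]
    calc g * pP 0 1 * g⁻¹ * (g * pP 0 1 * g⁻¹) = g * (pP 0 1 * pP 0 1) * g⁻¹ := by group
      _ = 1 := by rw [hzz]; group
  have hy1 : yy ≠ 1 := by
    intro h
    have h3 : (pP 0 1 : Equiv.Perm (K × K × K)) = 1 := by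
      have : (pP 0 1 : Equiv.Perm (K × K × K)) = g⁻¹ * yy * g := by rw [hyy]; group
      rw [this, h]; group
    apply hc
    rw [h3, mul_one, one_mul]
  have hnc : yy * pP 0 1 ≠ pP 0 1 * yy := by
    intro h
    have h3 := uniq D H hyX hy2 hy1 h
    apply hc
    rw [hyy, mul_inv_eq_iff_eq_mul] at h3
    exact h3
  have hY : ∀ t : K, t ≠ 0 → ∀ x, yy x = Y (g (t, 0, 0)) (g (t * w, 0, 0)) x := by
    intro t ht x
    rw [← conj_Y D hgi, ← zz_eq D ht]
    rfl
  have hr : ∀ t : K, t ≠ 0 → (g (t, 0, 0)).2.2 ≠ 0 := by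
    intro t ht h0
    apply hnc
    have hq : qf (g (t, 0, 0)) = 0 := by
      rw [hgi.qf]; simp only [qf, _root_.star_zero, _root_.MulZeroClass.mul_zero, _root_.MulZeroClass.zero_mul, _root_.add_zero]
    have hb : bf (g (t, 0, 0)) (g (t * w, 0, 0)) = 0 := by
      rw [hgi.bf]; simp only [bf, _root_.star_zero, _root_.MulZeroClass.mul_zero, _root_.star_mul', _root_.MulZeroClass.zero_mul, _root_.add_zero]
    have hYt := hY t ht
    generalize g (t, 0, 0) = a at hq hb hYt h0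
    generalize g (t * w, 0, 0) = b at hb hYt
    obtain ⟨a1, a2, a3⟩ := a
    obtain ⟨b1, b2, b3⟩ := b
    simp only at h0
    subst h0
    have ha2 : a2 = 0 := by
      apply cube_zero D
      simpa only [qf, _root_.mul_eq_zero, _root_.star_eq_zero, _root_.or_self, _root_.MulZeroClass.zero_mul, _root_.star_zero, _root_.MulZeroClass.mul_zero, _root_.add_zero] using hq
    subst ha2
    simp only [bf, zero_mul, star_zero, mul_zero, zero_add, add_zero] at hb
    -- `a₁ b₃* + b₃ a₁* = 0`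
    ext1 x
    change yy (pP 0 1 x) = pP 0 1 (yy x)
    rw [hYt, hYt]
    have hz := isom_pP D (zz_rel D)
    rw [Y, Y, hz.add, hz.add, hz.smul (D.bf01 _ _), hz.smul (D.bf01 _ _)]
    obtain ⟨x1, x2, x3⟩ := x
    simp only [pP_apply, bf, zero_mul, star_zero, mul_zero, zero_add, add_zero, one_mul, star_add,
      Prod.smul_mk, smul_eq_mul, Prod.mk_add_mk]
    refine Prod.ext ?_ (Prod.ext ?_ ?_)
    · simp only
      linear_combination x3 * hb + (- (x3 * star a1 * b3)) * h2
    · simp only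
    · simp only
  -- the vector with third coordinate `1`
  obtain ⟨t, ht⟩ : ∃ t : K, (g (t, 0, 0)).2.2 = 1 := by
    have hadd : ∀ t t' : K, (g (t + t', 0, 0)).2.2 = (g (t, 0, 0)).2.2 + (g (t', 0, 0)).2.2 := by
      intro t t'
      have : ((t + t', 0, 0) : K × K × K) = (t, 0, 0) + (t', 0, 0) := by simp
      rw [this, hgi.add]; rfl
    have hinj : Function.Injective (fun t : K => (g (t, 0, 0)).2.2) := by
      intro t t' h
      simp only at h
      by_contra hne
      apply hr (t + t')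
      · intro h0
        apply hne
        rw [← D.neg t']; exact eq_neg_of_add_eq_zero_left h0
      · rw [hadd, h]; exact D.add_self _
    exact (Finite.surjective_of_injective hinj) 1
  have ht0 : t ≠ 0 := by
    rintro rfl
    have : ((0, 0, 0) : K × K × K) = 0 := rfl
    rw [this, hgi.zero] at ht
    exact zero_ne_one ht
  obtain ⟨a, b, ha, hb, hqa, hqb, hab, hYab⟩ : ∃ a b : K × K × K, a.2.2 = 1 ∧ b.2.2 = w ∧ qf a = 0 ∧ qf b = 0 ∧
      bf a b = 0 ∧ ∀ x, yy x = Y a b x := by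
    have hqa : qf (g (t, 0, 0)) = 0 := by rw [hgi.qf]; simp only [qf, _root_.star_zero, _root_.MulZeroClass.mul_zero, _root_.MulZeroClass.zero_mul, _root_.add_zero]
    have hqb : qf (g (t * w, 0, 0)) = 0 := by rw [hgi.qf]; simp only [qf, _root_.star_zero, _root_.MulZeroClass.mul_zero, _root_.star_mul', _root_.MulZeroClass.zero_mul, _root_.add_zero]
    have hab : bf (g (t, 0, 0)) (g (t * w, 0, 0)) = 0 := by rw [hgi.bf]; simp only [bf, _root_.star_zero, _root_.MulZeroClass.mul_zero, _root_.star_mul', _root_.MulZeroClass.zero_mul, _root_.add_zero]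
    rcases D.cases (g (t * w, 0, 0)).2.2 with h | h | h | h
    · exact absurd h (hr _ (mul_ne_zero ht0 D.w_ne))
    · exfalso
      refine hr (t * (w + 1)) (mul_ne_zero ht0 (add_one_ne D)) ?_
      have : ((t * (w + 1), 0, 0) : K × K × K) = (t, 0, 0) + (t * w, 0, 0) := by
        ext <;> simp; ring
      rw [this, hgi.add]
      change (g (t, 0, 0)).2.2 + (g (t * w, 0, 0)).2.2 = 0
      rw [ht, h]; exact D.add_self 1
    · exact ⟨_, _, ht, h, hqa, hqb, hab, hY t ht0⟩
    · refine ⟨g (t, 0, 0), g (t, 0, 0) + g (t * w, 0, 0), ht, ?_, hqa, ?_, ?_, ?_⟩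
      · change (g (t, 0, 0)).2.2 + (g (t * w, 0, 0)).2.2 = w
        rw [ht, h]; linear_combination h2
      · rw [qf_add, hqa, hqb, hab]; simp
      · rw [bf_add_right D, hab, add_zero, bf]
        exact D.add_self _
      · intro x
        rw [Y_add D]; exact hY t ht0 x
  obtain ⟨x1, s1, r1⟩ := a
  obtain ⟨x2, s2, r2⟩ := b
  simp only at ha hb
  subst r1 r2
  obtain ⟨β, hβ⟩ : ∃ β, β = s2 + s1 * w := ⟨_, rfl⟩
  obtain ⟨s, hs⟩ : ∃ s, s = s1 + β := ⟨_, rfl⟩
  obtain ⟨c, hcdef⟩ : ∃ c, c = w * (s * star s) := ⟨_, rfl⟩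
  obtain ⟨γ, hγ⟩ : ∃ γ, γ = x1 + star s * β + c := ⟨_, rfl⟩
  have hNs : star (s * star s) = s * star s := by rw [star_mul', star_star, mul_comm]
  have hrc : c + star c + s * star s = 0 := by
    rw [hcdef, star_mul', hNs, D.st w]
    linear_combination (s * star s) * hw + (s * star s) * (w + 1) * h2
  have hrγ : γ + star γ + β * star β = 0 := by
    have h3 : x1 + star x1 + s1 * star s1 = 0 := by
      simp only [qf, star_one, mul_one, one_mul] at hqa
      linear_combination hqa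
    have h4 : star s = star s1 + star β := by rw [hs, star_add]
    rw [hγ, star_add, star_add, star_mul', star_star]
    rw [h4, hs] at hrc ⊢
    linear_combination h3 + hrc + (star β * β - star s1 * s1) * h2
  refine ⟨s, c, β, γ, hrc, hrγ, ?_⟩
  have hk : Isom (pP s c * pQ β γ) := (isom_pP D hrc).mul (isom_pQ D hrγ)
  have hk1 : (pP s c * pQ β γ) (0, 0, 1) = (x1, s1, 1) := by
    rw [Equiv.Perm.mul_apply, pQ_apply, pP_apply]
    simp only [star_zero, mul_zero, star_one, mul_one, zero_add]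
    refine Prod.ext ?_ (Prod.ext ?_ rfl)
    · simp only
      rw [hγ]
      linear_combination (star s * β + c) * h2
    · simp only
      rw [hs]
      linear_combination β * h2
  have hk2 : ∃ e, (pP s c * pQ β γ) (0, 0, w) = (e, s2, w) := by
    rw [Equiv.Perm.mul_apply, pQ_apply, pP_apply, D.st w]
    refine ⟨_, Prod.ext rfl (Prod.ext ?_ rfl)⟩
    simp only [zero_add]
    rw [hs, hβ]
    linear_combination (s2 + s1 * w) * hw + ((s2 + s1 * w) * w + s1 * w) * h2
  obtain ⟨e, hk2⟩ := hk2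
  have hq2 := hk.qf (0, 0, w)
  have hb2 := hk.bf (0, 0, 1) (0, 0, w)
  rw [hk2] at hq2 hb2
  rw [hk1] at hb2
  have he : e = x2 := by
    simp only [qf, bf, star_zero, mul_zero, zero_mul, add_zero, star_one, mul_one, one_mul] at hq2 hb2 hqb hab
    -- `δ* = δ` and `w δ* + w* δ = 0`
    have h3 : star e - star x2 = - (e - x2) := by linear_combination hb2 - hab
    have h4 : w * (star e - star x2) + (e - x2) * star w = 0 := by linear_combination hq2 - hqb
    rw [h3, D.st w] at h4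
    have h5 : (e - x2) = 0 := by linear_combination h4 - (e - x2) * hw
    exact sub_eq_zero.1 h5
  subst he
  ext1 x
  rw [hYab]
  change _ = (pP s c * pQ β γ) (y0 ((pP s c * pQ β γ)⁻¹ x))
  rw [y0_eq D, conj_Y D hk, hk1, hk2]

theorem pQ_inv_apply (β γ b u r : K) : (pQ β γ)⁻¹ (b, u, r) =
    (b - β * star u + (β * star β) * r - γ * r, u - β * star r, r) := rfl

theorem rel_one : w + star w + 1 * star 1 = 0 := by
  rw [star_one, D.st]
  linear_combination D.hw + (w + 1) * D.two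

theorem rel_w : w + star w + w * star w = 0 := by
  rw [D.st w]
  linear_combination (1 + w + 1) * D.hw + (2 * w + 1) * D.two

theorem rel_w1 : w + star w + (w + 1) * star (w + 1) = 0 := by
  rw [D.st, D.st (w + 1)]
  linear_combination (w + 5) * D.hw + (5 * w + 3) * D.two

/-- the antilinear part is trivial -/
theorem key2 [Finite K] (t : Kˣ) (ht : (t : K) = w) {g : Equiv.Perm (K × K × K)} (hg : g ∈ X)
    (hc : g * pP 0 1 ≠ pP 0 1 * g) :
    ∃ s c : K, c + star c + s * star s = 0 ∧ y0 ∈ X ∧ sc t ∈ X ∧ g * pP 0 1 * g⁻¹ = pP s c * y0 * (pP s c)⁻¹ := by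
  obtain ⟨s, c, β, γ, h1, h2, h3⟩ := key D H hg hc
  have hyX : g * pP 0 1 * g⁻¹ ∈ X := X.mul_mem (X.mul_mem hg (H.hP 0 1 (zz_rel D))) (X.inv_mem hg)
  have hp := H.hP s c h1
  have hC : ∀ k : Equiv.Perm (K × K × K), k ∈ X.comap (MulAut.conj (pQ β γ)).toMonoidHom ↔
      pQ β γ * k * (pQ β γ)⁻¹ ∈ X := fun k => Iff.rfl
  have hyC : y0 ∈ X.comap (MulAut.conj (pQ β γ)).toMonoidHom := by
    rw [hC]
    have : pQ β γ * y0 * (pQ β γ)⁻¹ = (pP s c)⁻¹ * (g * pP 0 1 * g⁻¹) * pP s c := by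
      rw [h3]; group
    rw [this]
    exact X.mul_mem (X.mul_mem (X.inv_mem hp) hyX) hp
  have hPC : ∀ s c : K, c + star c + s * star s = 0 → pP s c ∈ X.comap (MulAut.conj (pQ β γ)).toMonoidHom := by
    intro s c h
    rw [hC, ← pQ_comm D, mul_inv_cancel_right]
    exact H.hP s c h
  have hscC : sc t ∈ X.comap (MulAut.conj (pQ β γ)).toMonoidHom := by
    rw [sc_word D t ht]
    exact mul_mem (mul_mem (mul_mem (mul_mem (mul_mem hyC (hPC _ _ (rel_w D H))) hyC) (hPC _ _ (rel_w1 D H))) hyC)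
      (hPC _ _ (rel_one D H))
  rw [hC] at hscC
  have hβ : β = 0 := by
    obtain ⟨s', c', m, l, -, -, -, hf⟩ := H.cz _ hscC (by
      calc pQ β γ * sc t * (pQ β γ)⁻¹ * pP 0 1
          = pQ β γ * sc t * ((pQ β γ)⁻¹ * pP 0 1 * pQ β γ) * (pQ β γ)⁻¹ := by group
        _ = pQ β γ * sc t * pP 0 1 * (pQ β γ)⁻¹ := by
            rw [mul_assoc (pQ β γ)⁻¹, pQ_comm D, inv_mul_cancel_left]
        _ = pP 0 1 * pQ β γ * sc t * (pQ β γ)⁻¹ := by
            rw [mul_assoc (pQ β γ), sc_comm D, ← mul_assoc, ← pQ_comm D]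
        _ = pP 0 1 * (pQ β γ * sc t * (pQ β γ)⁻¹) := by group)
    have e1 := congrArg (fun x => x.2.1) (hf 0 0 1)
    have e2 := congrArg (fun x => x.2.1) (hf 0 0 w)
    change ((pQ β γ) (sc t ((pQ β γ)⁻¹ _))).2.1 = _ at e1 e2
    rw [pQ_inv_apply D H, sc_apply, pQ_apply, pP_apply] at e1 e2
    simp only [D.st, ht, mul_zero, mul_one, zero_add, zero_sub] at e1 e2
    have hw := D.hw
    have h2 := D.two
    linear_combination e2 - w * e1 - β * (w ^ 2 - w + 1) * hw
  subst hβ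
  rw [pQ_zero D, pP_mul_zero D] at h3
  have hr0 : γ + star γ = 0 := by simpa only [_root_.star_zero, _root_.MulZeroClass.mul_zero, _root_.add_zero] using h2
  have hr1 : (c + γ) + star (c + γ) + s * star s = 0 := by
    rw [star_add]; linear_combination h1 + hr0
  have hp1 := H.hP _ _ hr1
  have hy0 : y0 ∈ X := by
    have : y0 = (pP s (c + γ))⁻¹ * (g * pP 0 1 * g⁻¹) * pP s (c + γ) := by
      rw [h3]; group
    rw [this]
    exact X.mul_mem (X.mul_mem (X.inv_mem hp1) hyX) hp1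
  refine ⟨s, c + γ, hr1, hy0, ?_, h3⟩
  rw [sc_word D t ht]
  exact mul_mem (mul_mem (mul_mem (mul_mem (mul_mem hy0 (H.hP _ _ (rel_w D H))) hy0) (H.hP _ _ (rel_w1 D H))) hy0)
    (H.hP _ _ (rel_one D H))

/-- **the main result on `W`** -/
theorem main [Finite K] (t : Kˣ) (ht : (t : K) = w) (hne : ∃ g ∈ X, g * pP 0 1 ≠ pP 0 1 * g) :
    sc t ∈ X ∧ w1p ∈ X ∧ ∀ g ∈ X, g * pP 0 1 ≠ pP 0 1 * g →
      ∃ s c : K, c + star c + s * star s = 0 ∧
        ((pP s c * w1p)⁻¹ * g) * pP 0 1 = pP 0 1 * ((pP s c * w1p)⁻¹ * g) := by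
  obtain ⟨g, hg, hc⟩ := hne
  obtain ⟨s, c, h1, hy0, hsc, h3⟩ := key2 D H t ht hg hc
  refine ⟨hsc, ?_, ?_⟩
  · rw [w1_eq D]
    exact mul_mem (mul_mem (H.hP 0 1 (zz_rel D)) hy0) (H.hP 0 1 (zz_rel D))
  · intro g hg hc
    obtain ⟨s, c, h1, -, -, h3⟩ := key2 D H t ht hg hc
    refine ⟨s, c, h1, ?_⟩
    rw [y0_conj D] at h3
    have h4 : g * pP 0 1 = (pP s c * w1p) * pP 0 1 * (pP s c * w1p)⁻¹ * g := by
      rw [← mul_inv_eq_iff_eq_mul, h3]; group
    calc (pP s c * w1p)⁻¹ * g * pP 0 1 = (pP s c * w1p)⁻¹ * (g * pP 0 1) := by group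
      _ = pP 0 1 * ((pP s c * w1p)⁻¹ * g) := by rw [h4]; group

end Cfsg.Agent.H456.PU
end

-- part: H456/PU/Phi
section
/-!
# S5258, `StL1a` for `q = 2`: the action of `Aut(Q₁)` on `W = Q₁/Z` (helper456)
-/

set_option autoImplicit false
set_option linter.unusedSectionVars false
set_option linter.unnecessarySeqFocus false

namespace Cfsg.Agent.H456.PU

open Cfsg Cfsg.FusionSystem Cfsg.Agent.H756.PU

universe u

variable {K : Type u} [Field K] [StarRing K]

/-- the coordinates of `W` -/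
def pr (g : Q1 K) : K × K × K := ((g : UG K).b, (g : UG K).u1, (g : UG K).r)

theorem q_u2 (g : Q1 K) : (g : UG K).u2 = 0 := g.2.1

theorem q_c (g : Q1 K) : (g : UG K).c = 0 := g.2.2

theorem pr_mul (g h : Q1 K) : pr (g * h) = pr g + pr h := by
  simp only [pr, Subgroup.coe_mul, UG.mul_b, UG.mul_u1, UG.mul_r, q_u2, q_c, star_zero, mul_zero, add_zero,
    sub_zero, Prod.mk_add_mk]

theorem pr_one : pr (1 : Q1 K) = 0 := by
  have h := pr_mul (1 : Q1 K) 1
  rw [mul_one] at h
  exact left_eq_add.1 h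

theorem pr_inv (g : Q1 K) : pr g⁻¹ = - pr g := by
  rw [eq_neg_iff_add_eq_zero, ← pr_mul, inv_mul_cancel, pr_one]

theorem mul_a' (g h : Q1 K) : ((g * h : Q1 K) : UG K).a = (g : UG K).a + (h : UG K).a - (g : UG K).r * star (h : UG K).b +
    star (g : UG K).r * (h : UG K).b - (g : UG K).u1 * star (h : UG K).u1 := by
  rw [Subgroup.coe_mul, UG.mul_a, UG.d, q_u2, q_c, star_zero]
  ring

theorem ext_a {g h : Q1 K} (h1 : pr g = pr h) (h2 : (g : UG K).a = (h : UG K).a) : g = h := by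
  simp only [pr, Prod.mk.injEq] at h1
  apply Subtype.ext
  exact UG.ext h1.2.2 h1.2.1 ((q_u2 g).trans (q_u2 h).symm) h2 h1.1 ((q_c g).trans (q_c h).symm)

theorem comm_of_pr_zero {g : Q1 K} (h : pr g = 0) (k : Q1 K) : g * k = k * g := by
  apply ext_a
  · rw [pr_mul, pr_mul, add_comm]
  · rw [mul_a', mul_a']
    have h1 : (g : UG K).b = 0 ∧ (g : UG K).u1 = 0 ∧ (g : UG K).r = 0 := by
      simpa [pr, Prod.ext_iff] using h
    rw [h1.1, h1.2.1, h1.2.2]
    simp only [star_zero]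
    ring

variable {w : K} (D : Dat K w)

/-- a section -/
def lift (x : K × K × K) : Q1 K :=
  ⟨{  r := x.2.2
      u1 := x.2.1
      u2 := 0
      a := w * (x.2.1 * star x.2.1)
      b := x.1
      c := 0
      ha := by
        have h : star (x.2.1 * star x.2.1) = x.2.1 * star x.2.1 := by rw [star_mul', star_star, mul_comm]
        rw [star_mul', h, D.st w]
        linear_combination (x.2.1 * star x.2.1) * D.hw + (x.2.1 * star x.2.1) * (w + 1) * D.two
      hc := by simp }, ⟨rfl, rfl⟩⟩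

theorem pr_lift (x : K × K × K) : pr (lift D x) = x := rfl

include D

theorem pr_zero_of_comm {g : Q1 K} (h : ∀ k, g * k = k * g) : pr g = 0 := by
  have h2 := D.two
  have hw := D.hw
  have key : ∀ x : K × K × K, - (g : UG K).r * star x.1 + star (g : UG K).r * x.1 - (g : UG K).u1 * star x.2.1 =
      - x.2.2 * star (g : UG K).b + star x.2.2 * (g : UG K).b - x.2.1 * star (g : UG K).u1 := by
    intro x
    have h3 := congrArg (fun k : Q1 K => (k : UG K).a) (h (lift D x))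
    rw [mul_a', mul_a'] at h3
    change _ + _ - _ * star x.1 + _ * x.1 - _ * star x.2.1 = _ + _ - x.2.2 * _ + star x.2.2 * _ - x.2.1 * _ at h3
    linear_combination h3
  have e1 := key (1, 0, 0)
  have e2 := key (w, 0, 0)
  have e3 := key (0, 1, 0)
  have e4 := key (0, w, 0)
  have e5 := key (0, 0, 1)
  have e6 := key (0, 0, w)
  simp only [star_one, star_zero, mul_one, mul_zero, zero_mul, neg_zero, add_zero, sub_zero, zero_sub, one_mul,
    D.st w, neg_mul] at e1 e2 e3 e4 e5 e6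
  simp only [pr]
  refine Prod.ext ?_ (Prod.ext ?_ ?_)
  · simp only [Prod.fst_zero]
    linear_combination - e6 + w * e5 - (g : UG K).b * hw
  · simp only [Prod.snd_zero, Prod.fst_zero]
    linear_combination - e4 + w * e3 - (g : UG K).u1 * hw
  · simp only [Prod.snd_zero]
    linear_combination - e2 + w * e1 - (g : UG K).r * hw

theorem pr_map_zero (γ : MulAut (Q1 K)) {g : Q1 K} (h : pr g = 0) : pr (γ g) = 0 := by
  apply pr_zero_of_comm D
  intro k
  obtain ⟨k, rfl⟩ := γ.surjective k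
  rw [← map_mul, ← map_mul, comm_of_pr_zero h]

theorem pr_congr (γ : MulAut (Q1 K)) {g h : Q1 K} (hgh : pr g = pr h) : pr (γ g) = pr (γ h) := by
  have h1 : pr (γ (g * h⁻¹)) = 0 := by
    apply pr_map_zero D
    rw [pr_mul, pr_inv, hgh, add_neg_cancel]
  rw [map_mul, map_inv, pr_mul, pr_inv] at h1
  exact add_neg_eq_zero.1 h1

/-- the action on `W` -/
def Phi : MulAut (Q1 K) →* Equiv.Perm (K × K × K) where
  toFun γ :=
    { toFun := fun x => pr (γ (lift D x))
      invFun := fun x => pr (γ⁻¹ (lift D x))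
      left_inv := fun x => by
        have h := pr_congr D γ⁻¹ (pr_lift D (pr (γ (lift D x))))
        exact h.trans (by rw [MulAut.inv_apply_self]; rfl)
      right_inv := fun x => by
        have h := pr_congr D γ (pr_lift D (pr (γ⁻¹ (lift D x))))
        exact h.trans (by rw [MulAut.apply_inv_self]; rfl) }
  map_one' := by ext1 x; rfl
  map_mul' γ δ := by
    ext1 x
    exact (pr_congr D γ (pr_lift D (pr (δ (lift D x))))).symm

theorem Phi_pr (γ : MulAut (Q1 K)) (g : Q1 K) : Phi D γ (pr g) = pr (γ g) :=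
  pr_congr D γ (pr_lift D (pr g))

theorem fix_Z (γ : MulAut (Q1 K)) {g : Q1 K} (h : pr g = 0) : γ g = g := by
  have h2 := D.two
  have key : ∀ k : Q1 K, pr k = 0 → (k : UG K).a = 0 ∨ (k : UG K).a = 1 := by
    intro k hk
    have h1 : (k : UG K).u1 = 0 := by
      have := congrArg (fun x => x.2.1) hk
      exact this
    have h3 := (k : UG K).ha
    rw [h1, zero_mul, add_zero, D.st] at h3
    have h4 : (k : UG K).a * ((k : UG K).a - 1) = 0 := by
      linear_combination h3 - (k : UG K).a * h2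
    rcases mul_eq_zero.1 h4 with h4 | h4
    · exact Or.inl h4
    · exact Or.inr (sub_eq_zero.1 h4)
  have h1 := pr_map_zero D γ h
  have hz : ∀ k : Q1 K, pr k = 0 → (k : UG K).a = 0 → k = 1 := by
    intro k hk hk'
    apply ext_a
    · rw [hk, pr_one]
    · rw [hk']; rfl
  rcases key g h with h3 | h3
  · rw [hz g h h3, map_one]
  · rcases key (γ g) h1 with h4 | h4
    · have h5 := hz _ h1 h4
      have h6 : g = 1 := by
        apply γ.injective; rw [h5, map_one]
      rw [h6, map_one]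
    · apply ext_a
      · rw [h, h1]
      · rw [h3, h4]

theorem sq_eq (g : Q1 K) : pr (g * g) = 0 ∧ ((g * g : Q1 K) : UG K).a = qf (pr g) := by
  constructor
  · rw [pr_mul]; exact dsmul_self D _
  · rw [mul_a']
    simp only [qf, pr]
    linear_combination ((g : UG K).a - (g : UG K).r * star (g : UG K).b - (g : UG K).u1 * star (g : UG K).u1) * D.two

theorem isom_Phi (γ : MulAut (Q1 K)) : Isom (Phi D γ) where
  add x y := by
    have h : x + y = pr (lift D x * lift D y) := by rw [pr_mul]; rfl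
    rw [h, Phi_pr, map_mul, pr_mul]
    rfl
  qf x := by
    change qf (pr (γ (lift D x))) = qf x
    rw [← (sq_eq D _).2, ← map_mul, fix_Z D γ (sq_eq D _).1, (sq_eq D _).2]
    rfl

omit D in
theorem conj_mem (x : UG K) (g : Q1 K) : x * g * x⁻¹ ∈ Q1 K := by
  have h := x.hc
  constructor
  · simp [q_u2]
  · simp only [UG.mul_c, UG.inv_c, UG.mul_u2, UG.inv_u2, q_u2, q_c, star_zero, star_neg]
    linear_combination h

instance normal_Q1 : (Q1 K).Normal := ⟨fun g hg x => conj_mem x ⟨g, hg⟩⟩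

theorem Phi_of (γ : MulAut (Q1 K)) (b u r : K) : Phi D γ (b, u, r) = pr (γ (lift D (b, u, r))) := rfl

/-- conjugation followed by a torus element -/
theorem Phi_norm (γ : MulAut (Q1 K)) (x : UG K) {d : MulAut (UG K)} {x1 x2 : K}
    (hd : IsTor d x1 x2 (RingEquiv.refl K)) (h : ∀ e : Q1 K, ((γ e : Q1 K) : UG K) = x * d e * x⁻¹) (b u r : K) :
    Phi D γ (b, u, r) = pP x.u2 (star x.c) (x1 * x2⁻¹ * b, x1 * u, x1 * x2⁻¹ * r) := by
  have h2 := D.two
  have hx2 : star x2 = x2⁻¹ := by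
    rw [D.st, ← mul_right_inj' hd.ne2, mul_inv_cancel₀ hd.ne2]
    linear_combination D.cube hd.ne2
  rw [Phi_of, pP_apply, pr, h]
  have e1 := hd.r (lift D (b, u, r))
  have e2 := hd.u1 (lift D (b, u, r))
  have e3 := hd.u2 (lift D (b, u, r))
  have e4 := hd.b (lift D (b, u, r))
  have e5 := hd.c (lift D (b, u, r))
  simp only [RingEquiv.refl_apply] at e1 e2 e3 e4 e5
  change _ = x1 * x2⁻¹ * r at e1
  change _ = x1 * u at e2
  change _ = x2 * 0 at e3
  change _ = x1 * star x2 * b at e4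
  change _ = x2 * star x2 * 0 at e5
  rw [hx2] at e4
  rw [mul_zero] at e3 e5
  refine Prod.ext ?_ (Prod.ext ?_ ?_)
  · simp only [UG.mul_b, UG.mul_u1, UG.mul_r, UG.inv_b, UG.inv_u2, UG.inv_c, UG.d,
      e1, e2, e3, e4, e5, star_zero, star_neg, star_sub, star_mul', star_star]
    linear_combination (0 : K) * h2
  · simp only [UG.mul_u1, UG.mul_r, UG.inv_u1, UG.inv_u2, e1, e2, e3]
    linear_combination (- (x1 * x2⁻¹ * r * x.u2)) * h2
  · simp only [UG.mul_r, UG.inv_r, e1]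
    ring

end Cfsg.Agent.H456.PU
end

-- part: H456/PU/LOneTwo
section
/-!
# S5258, `StL1a` for `q = 2` (helper456)
-/

set_option autoImplicit false
set_option linter.unusedSectionVars false
set_option linter.unnecessarySeqFocus false

namespace Cfsg.Agent.H456.PU

open Cfsg Cfsg.FusionSystem Cfsg.Agent.H756.PU Cfsg.Agent.H802

universe u

variable {K : Type u} [Field K] [StarRing K]

theorem exists_dat {p n : ℕ} (hK : HypK K p n) (h2 : p ^ n = 2) : ∃ w : K, Dat K w := by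
  classical
  have hp : p = 2 := by
    have h := hK.hn
    have : p ∣ 2 := by rw [← h2]; exact dvd_pow_self p (by omega)
    exact (Nat.prime_dvd_prime_iff_eq hK.pp Nat.prime_two).1 this
  have := hK.char
  have := hK.fin
  have hc := hK.card
  have hst := hK.star_eq
  rw [h2] at hc hst
  subst hp
  have h20 : (2 : K) = 0 := CharP.cast_eq_zero K 2
  have : Fintype K := Fintype.ofFinite K
  have hcard : Fintype.card K = 4 := by rw [← Nat.card_eq_fintype_card, hc]; norm_num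
  have h4 : ∀ x : K, x * x * x * x = x := by
    intro x
    have h := FiniteField.pow_card x
    rw [hcard] at h
    linear_combination h
  -- an element different from `0`, `1`
  obtain ⟨w, hw⟩ : ∃ w : K, w ≠ 0 ∧ w ≠ 1 := by
    by_contra hcon
    push Not at hcon
    have h3 : (Finset.univ : Finset K) ⊆ {0, 1} := by
      intro x _
      by_cases hx : x = 0
      · simp only [hx, _root_.Finset.mem_insert, _root_.Finset.mem_singleton, _root_.zero_ne_one, _root_.or_false]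
      · simp only [hcon x hx, _root_.Finset.mem_insert, _root_.one_ne_zero, _root_.Finset.mem_singleton, _root_.or_true]
    have h5 := Finset.card_le_card h3
    rw [Finset.card_univ, hcard] at h5
    have h6 := Finset.card_le_two (a := (0 : K)) (b := 1)
    omega
  refine ⟨w, h20, fun x => by rw [hst x]; ring, h4, ?_⟩
  have h5 : w * ((w - 1) * (w * w + w + 1)) = 0 := by linear_combination h4 w
  rcases mul_eq_zero.1 h5 with h5 | h5
  · exact absurd h5 hw.1
  rcases mul_eq_zero.1 h5 with h5 | h5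
  · exact absurd (sub_eq_zero.1 h5) hw.2
  · linear_combination h5 - (w + 1) * h20

variable {w : K} (D : Dat K w)

include D

/-- every automorphism of `K` has order at most two -/
theorem tau_sq (τ : K ≃+* K) (x : K) : τ (τ x) = x := by
  have hw := D.hw
  have h2 := D.two
  have h0 : τ w = w ∨ τ w = w + 1 := by
    have h1 : τ w * τ w = τ w + 1 := by rw [← map_mul, hw, map_add, map_one]
    rcases D.cases (τ w) with h | h | h | h
    · rw [h] at h1
      exfalso
      simp at h1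
    · rw [h] at h1
      exfalso
      simp at h1
    · exact Or.inl h
    · exact Or.inr h
  have h3 : τ (τ w) = w := by
    rcases h0 with h | h
    · rw [h, h]
    · rw [h, map_add, map_one, h]; linear_combination h2
  rcases D.cases x with rfl | rfl | rfl | rfl
  · simp
  · simp
  · exact h3
  · rw [map_add, map_add, map_one, map_one, h3]

theorem tor_mul {α β : MulAut (UG K)} {x1 x2 y1 y2 : K} {τ σ : K ≃+* K} (hα : IsTor α x1 x2 τ)
    (hβ : IsTor β y1 y2 σ) (ρ : K ≃+* K) (hρ : ∀ x, ρ x = τ (σ x)) :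
    IsTor (α * β) (x1 * τ y1) (x2 * τ y2) ρ where
  ne1 := mul_ne_zero hα.ne1 ((map_ne_zero τ).2 hβ.ne1)
  ne2 := mul_ne_zero hα.ne2 ((map_ne_zero τ).2 hβ.ne2)
  tst x := by rw [hρ, hρ, hβ.tst, hα.tst]
  r g := by
    rw [MulAut.mul_apply, hα.r, hβ.r, map_mul, map_mul, map_inv₀, hρ, mul_inv]; ring
  u1 g := by
    rw [MulAut.mul_apply, hα.u1, hβ.u1, map_mul, hρ]; ring
  u2 g := by
    rw [MulAut.mul_apply, hα.u2, hβ.u2, map_mul, hρ]; ring
  a g := by
    rw [MulAut.mul_apply, hα.a, hβ.a, map_mul, map_mul, hα.tst, hρ, star_mul']; ring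
  b g := by
    rw [MulAut.mul_apply, hα.b, hβ.b, map_mul, map_mul, hα.tst, hρ, star_mul']; ring
  c g := by
    rw [MulAut.mul_apply, hα.c, hβ.c, map_mul, map_mul, hα.tst, hρ, star_mul']; ring

theorem tor_ext {α β : MulAut (UG K)} {x1 x2 : K} {τ : K ≃+* K} (hα : IsTor α x1 x2 τ) (hβ : IsTor β x1 x2 τ) :
    α = β := by
  ext g
  · rw [hα.r, hβ.r]
  · rw [hα.u1, hβ.u1]
  · rw [hα.u2, hβ.u2]
  · rw [hα.a, hβ.a]
  · rw [hα.b, hβ.b]
  · rw [hα.c, hβ.c]

theorem tor_one : IsTor (1 : MulAut (UG K)) 1 1 (RingEquiv.refl K) where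
  ne1 := one_ne_zero
  ne2 := one_ne_zero
  tst x := rfl
  r g := by simp
  u1 g := by simp
  u2 g := by simp
  a g := by simp
  b g := by simp
  c g := by simp

/-- an element of odd order of the torus has no field part -/
theorem tor_refl {α : MulAut (UG K)} {x1 x2 : K} {τ : K ≃+* K} (hα : IsTor α x1 x2 τ) {m : ℕ}
    (hm : α ^ (2 * m + 1) = 1) : ∃ y1 y2, IsTor α y1 y2 (RingEquiv.refl K) := by
  have h1 : IsTor (α * α) (x1 * τ x1) (x2 * τ x2) (RingEquiv.refl K) :=
    tor_mul D hα hα _ (fun x => (tau_sq D τ x).symm)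
  have h2 : ∀ k : ℕ, ∃ y1 y2, IsTor ((α * α) ^ k) y1 y2 (RingEquiv.refl K) := by
    intro k
    induction k with
    | zero => exact ⟨1, 1, by rw [pow_zero]; exact tor_one D⟩
    | succ k ih =>
      obtain ⟨y1, y2, h⟩ := ih
      exact ⟨_, _, by rw [pow_succ]; exact tor_mul D h h1 _ (fun x => rfl)⟩
  obtain ⟨y1, y2, h3⟩ := h2 (m + 1)
  have h4 : (α * α) ^ (m + 1) = α := by
    rw [← sq, ← pow_mul, show 2 * (m + 1) = (2 * m + 1) + 1 by ring, pow_succ, hm, one_mul]
  rw [h4] at h3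
  exact ⟨y1, y2, h3⟩

/-- an automorphism trivial on `W` has square one -/
theorem sq_of_ker {δ : MulAut (Q1 K)} (h : Phi D δ = 1) : δ * δ = 1 := by
  have h1 : ∀ g, pr (δ g) = pr g := by
    intro g
    rw [← Phi_pr D, h]; rfl
  ext1 g
  have h2 : pr (δ g * g⁻¹) = 0 := by rw [pr_mul, pr_inv, h1, add_neg_cancel]
  have h3 : δ g = (δ g * g⁻¹) * g := by group
  have h4 : (δ g * g⁻¹) * (δ g * g⁻¹) = 1 := by
    apply ext_a
    · rw [(sq_eq D _).1, pr_one]
    · rw [(sq_eq D _).2, h2]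
      simp only [qf, _root_.Prod.snd_zero, _root_.Prod.fst_zero, _root_.star_zero, _root_.MulZeroClass.mul_zero, _root_.add_zero, _root_.OneMemClass.coe_one, _root_.Cfsg.Agent.H756.PU.UG.one_a]
  rw [MulAut.mul_apply, MulAut.one_apply]
  calc δ (δ g) = δ ((δ g * g⁻¹) * g) := by rw [← h3]
    _ = (δ g * g⁻¹) * δ g := by rw [map_mul, fix_Z D δ h2]
    _ = (δ g * g⁻¹) * (δ g * g⁻¹) * g := by group
    _ = g := by rw [h4, one_mul]

omit D in
/-- conjugations as automorphisms of `Q₁` -/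
theorem conj_aut (x : UG K) : ∃ γ ∈ autInducedBy (⊤ : Subgroup (UG K)) (Q1 K),
    ∀ e : Q1 K, ((γ e : Q1 K) : UG K) = x * e * x⁻¹ := by
  refine ⟨MulAut.conjNormal x, ?_, fun e => rfl⟩
  rw [mem_autInducedBy_iff]
  exact ⟨x, trivial, fun e => rfl⟩

theorem Phi_conj {γ : MulAut (Q1 K)} {x : UG K} (h : ∀ e : Q1 K, ((γ e : Q1 K) : UG K) = x * e * x⁻¹) :
    Phi D γ = pP x.u2 (star x.c) := by
  ext1 ⟨b, u, r⟩
  rw [Phi_norm D γ x (tor_one D) h]
  simp only [_root_.inv_one, _root_.mul_one, _root_.one_mul]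

/-- every element of the quaternion group is induced -/
theorem exists_P {s c : K} (h : c + star c + s * star s = 0) :
    ∃ γ ∈ autInducedBy (⊤ : Subgroup (UG K)) (Q1 K), Phi D γ = pP s c := by
  have hx : star c + star (star c) + s * star s = 0 := by
    rw [star_star]; linear_combination h
  let x : UG K := { r := 0, u1 := 0, u2 := s, a := 0, b := 0, c := star c, ha := by simp, hc := hx }
  obtain ⟨γ, hγ, hx'⟩ := conj_aut x
  refine ⟨γ, hγ, ?_⟩
  rw [Phi_conj D hx']
  change pP s (star (star c)) = _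
  rw [star_star]

theorem Phi_w1 {κ : K} {γ : MulAut (Q1 K)} (h : IsW1 κ γ) : Phi D γ = w1p := by
  have hκ : κ = 1 := by
    have h1 := h.tr
    rw [D.st] at h1
    have h2 : κ * (κ - 1) = 0 := by linear_combination h1 - κ * D.two
    rcases mul_eq_zero.1 h2 with h2 | h2
    · exact absurd h2 h.ne
    · exact sub_eq_zero.1 h2
  subst hκ
  ext1 ⟨b, u, r⟩
  rw [Phi_of, pr, h.b, h.u1, h.r, w1p_apply]
  change ((1 : K) * r, u, - (1 : K)⁻¹ * b) = (r, u, b)
  rw [one_mul, inv_one, neg_mul, one_mul, D.neg]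

theorem l1a_core (hTI : StTI.{u}) {p n : ℕ} (hK : HypK K p n) (h2 : p ^ n = 2)
    (Γ : Subgroup (MulAut (Q1 K))) (T : Subgroup (MulAut (UG K))) (hP : Par p (Q1 K) Γ T) :
    HasTor T (fun t => t * (star t)⁻¹) (fun t => t ^ 2 * (star t)⁻¹) ∧
    (∀ l ∈ Lam1 K, ∃ γ ∈ Γ, Phi D γ = Phi D l) ∧
    (∀ γ ∈ Γ, ∃ l ∈ Lam1 K, ∃ d ∈ T, ∃ δ : MulAut (Q1 K), IsR d δ ∧ Phi D γ = Phi D (l * δ)) := by
  classical
  have hp : p = 2 := by
    have h := hK.hn
    have : p ∣ 2 := by rw [← h2]; exact dvd_pow_self p (by omega)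
    exact (Nat.prime_dvd_prime_iff_eq hK.pp Nat.prime_two).1 this
  subst hp
  have := hK.fin
  obtain ⟨hcard, hpg, -, hTT, -, hW1⟩ := Cfsg.Agent.H767.PU.stGrp hK
  have : Finite (UG K) := Nat.finite_of_card_ne_zero (by rw [hcard, h2]; norm_num)
  have : Finite (MulAut (Q1 K)) := Finite.of_injective (fun e : MulAut (Q1 K) => (e : Q1 K → Q1 K)) DFunLike.coe_injective
  obtain ⟨hti, -, -, hchar⟩ := hTI hK (Q1 K) (Or.inl rfl)
  have hTIA := hti Γ hP.indu hP.syl
  set A := autInducedBy (⊤ : Subgroup (UG K)) (Q1 K) with hA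
  have : Fact (Nat.Prime 2) := ⟨Nat.prime_two⟩
  have hA2 : IsPGroup 2 A := isPGroup_autInducedBy hpg _
  -- elements with image in the quaternion group are induced
  have hmemA : ∀ δ ∈ Γ, ∀ α ∈ A, Phi D δ = Phi D α → δ ∈ A := by
    let Γ0 : Subgroup (MulAut (Q1 K)) := Γ ⊓ (A.map (Phi D)).comap (Phi D)
    have hAle : A ≤ Γ0 := fun a ha => ⟨hP.indu ha, ⟨a, ha, rfl⟩⟩
    have hp0 : IsPGroup 2 Γ0 := by
      rintro ⟨δ, hδ, α, hα, he⟩
      obtain ⟨k, hk⟩ := hA2 ⟨α, hα⟩
      have hk' : α ^ 2 ^ k = 1 := congrArg Subtype.val hk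
      have h1 : Phi D (δ ^ 2 ^ k) = 1 := by
        rw [map_pow, ← he, ← map_pow, hk', map_one]
      refine ⟨k + 1, Subtype.ext ?_⟩
      change δ ^ 2 ^ (k + 1) = 1
      rw [pow_succ, pow_mul, sq, sq_of_ker D h1]
    obtain ⟨g, hg, hconj⟩ := hP.syl Γ0 inf_le_left hp0
    have hcardle : Nat.card Γ0 ≤ Nat.card A := by
      refine Nat.card_le_card_of_injective (fun x : Γ0 => (⟨g * x * g⁻¹, hconj x x.2⟩ : A)) ?_
      intro x y hxy
      have h1 : g * x * g⁻¹ = g * y * g⁻¹ := congrArg Subtype.val hxy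
      exact Subtype.ext (mul_left_cancel (mul_right_cancel h1))
    have hEq : A = Γ0 := Subgroup.eq_of_le_of_card_ge hAle hcardle
    intro δ hδ α hα he
    rw [hEq]
    exact ⟨hδ, ⟨α, hα, he.symm⟩⟩
  -- the transvection
  obtain ⟨z, hzA, hz⟩ := exists_P D (zz_rel D)
  have hzI : z ∉ Inn (Q1 K) := by
    rintro ⟨q, rfl⟩
    have h1 : Phi D (MulAut.conj q) (0, 0, 1) = (0, 0, 1) := by
      rw [Phi_of, MulAut.conj_apply, pr_mul, pr_mul, pr_inv]
      rw [add_comm (pr q), add_neg_cancel_right]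
      rfl
    rw [hz, pP_apply] at h1
    have := congrArg Prod.fst h1
    simp at this
  have hnorm : ∀ γ ∈ Γ, Phi D γ * pP 0 1 = pP 0 1 * Phi D γ → ∃ x : UG K, ∃ d ∈ T, ∃ x1 x2 : K,
      IsTor d x1 x2 (RingEquiv.refl K) ∧ ∀ e : Q1 K, ((γ e : Q1 K) : UG K) = x * d e * x⁻¹ := by
    intro γ hγ hc
    have h1 : γ * z * γ⁻¹ ∈ A := by
      refine hmemA _ (Γ.mul_mem (Γ.mul_mem hγ (hP.indu hzA)) (Γ.inv_mem hγ)) z hzA ?_
      rw [map_mul, map_mul, map_inv, hz, hc, mul_inv_cancel_right]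
    obtain ⟨x, d, hd, he⟩ := hP.norm γ hγ (hTIA γ hγ z hzA hzI h1)
    obtain ⟨y1, y2, τ, hτ⟩ := hTT d (hP.D_le hd)
    have hfin : Nat.card T ≠ 0 := by
      intro h0
      have := hP.D_cop
      rw [h0] at this
      norm_num at this
    have : Finite T := Nat.finite_of_card_ne_zero hfin
    have hodd : Odd (Nat.card T) := Nat.coprime_two_right.1 hP.D_cop
    obtain ⟨m, hm⟩ := hodd
    have hdm : d ^ (2 * m + 1) = 1 := by
      rw [← hm]
      have := pow_card_eq_one' (x := (⟨d, hd⟩ : T))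
      exact congrArg Subtype.val this
    obtain ⟨x1, x2, h3⟩ := tor_refl D hτ hdm
    exact ⟨x, d, hd, x1, x2, h3, he⟩
  -- the group `X`
  have hH : Hyp (Γ.map (Phi D)) := by
    refine ⟨?_, ?_, ?_⟩
    · rintro _ ⟨γ, -, rfl⟩
      exact isom_Phi D γ
    · intro s c h
      obtain ⟨γ, hγ, he⟩ := exists_P D h
      exact ⟨γ, hP.indu hγ, he⟩
    · rintro _ ⟨γ, hγ, rfl⟩ hc
      obtain ⟨x, d, hd, x1, x2, ht, he⟩ := hnorm γ hγ hc
      refine ⟨x.u2, star x.c, x1 * x2⁻¹, x1, ?_, mul_ne_zero ht.ne1 (inv_ne_zero ht.ne2), ht.ne1, fun b u r =>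
        Phi_norm D γ x ht he b u r⟩
      rw [star_star]
      linear_combination x.hc
  have hne : ∃ g ∈ Γ.map (Phi D), g * pP 0 1 ≠ pP 0 1 * g := by
    have hnn := hP.nn
    push Not at hnn
    obtain ⟨γ, hγ, hno⟩ := hnn
    refine ⟨_, ⟨γ, hγ, rfl⟩, fun hc => hno ?_⟩
    have h1 : γ * z * γ⁻¹ ∈ A := by
      refine hmemA _ (Γ.mul_mem (Γ.mul_mem hγ (hP.indu hzA)) (Γ.inv_mem hγ)) z hzA ?_
      have hc' : Phi D γ * pP 0 1 = pP 0 1 * Phi D γ := hc
      rw [map_mul, map_mul, map_inv, hz, hc', mul_inv_cancel_right]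
    exact hTIA γ hγ z hzA hzI h1
  obtain ⟨⟨γs, hγs, hs⟩, hw1, hall⟩ := main D hH (Units.mk0 w D.w_ne) rfl hne
  have hres : ∀ d : MulAut (UG K), ∃ δ : MulAut (Q1 K), IsR d δ := by
    intro d
    exact ⟨(d.subgroupMap (Q1 K)).trans (MulEquiv.subgroupCongr (hchar d)), fun e => rfl⟩
  -- elements of `Γ` commuting with the transvection
  have hcomm : ∀ γ ∈ Γ, Phi D γ * pP 0 1 = pP 0 1 * Phi D γ → ∃ l ∈ A, ∃ d ∈ T, ∃ δ : MulAut (Q1 K), IsR d δ ∧
      γ = l * δ := by
    intro γ hγ hc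
    obtain ⟨x, d, hd, x1, x2, ht, he⟩ := hnorm γ hγ hc
    obtain ⟨γx, hγx, hx⟩ := conj_aut x
    obtain ⟨δ, hδ⟩ := hres d
    refine ⟨γx, hγx, d, hd, δ, hδ, ?_⟩
    ext1 e
    apply Subtype.ext
    rw [he, MulAut.mul_apply, hx, hδ]
  have hAL : A ≤ Lam1 K := le_sup_left
  refine ⟨?_, ?_, ?_⟩
  · obtain ⟨x, d, hd, x1, x2, ht, he⟩ := hnorm γs hγs (by rw [hs]; exact sc_comm D _ _ _)
    have f1 := Phi_norm D γs x ht he 0 0 1
    have f2 := Phi_norm D γs x ht he 0 1 0
    rw [hs, sc_apply, pP_apply] at f1 f2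
    simp only [Units.val_mk0, Prod.mk.injEq, mul_zero, mul_one, add_zero, zero_add] at f1 f2
    have hx1 : x1 = w := f2.2.1.symm
    have hx2 : x2 = 1 := by
      have h3 : w = w * x2⁻¹ := by rw [← hx1]; rw [← hx1] at f1; exact f1.2.2
      have h4 : x2⁻¹ = 1 := by
        apply mul_left_cancel₀ D.w_ne
        rw [← h3, mul_one]
      exact inv_eq_one.1 h4
    subst hx2
    rw [hx1] at ht
    intro t ht0 α hα
    have h3 : (star t)⁻¹ = t := by
      rw [D.st]
      exact inv_eq_of_mul_eq_one_right (D.cube ht0)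
    simp only [h3] at hα
    have h4 : t ^ 2 * t = 1 := by rw [sq]; exact D.cube ht0
    rw [h4] at hα
    rcases D.cases t with h | h | h | h
    · exact absurd h ht0
    · rw [h, mul_one] at hα
      rw [tor_ext D hα (tor_one D)]
      exact T.one_mem
    · rw [h] at hα
      have h5 := tor_mul D ht ht (RingEquiv.refl K) (fun x => rfl)
      have h6 : IsTor (d * d) (w * w) 1 (RingEquiv.refl K) := by simpa using h5
      rw [tor_ext D hα h6]
      exact T.mul_mem hd hd
    · have h5 : t * t = w := by rw [h]; linear_combination D.hw + (w + 1) * D.two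
      rw [h5] at hα
      rw [tor_ext D hα ht]
      exact hd
  · intro l hl
    have h3 : Lam1 K ≤ (Γ.map (Phi D)).comap (Phi D) := by
      refine sup_le ?_ ?_
      · intro a ha
        exact ⟨a, hP.indu ha, rfl⟩
      · rw [Subgroup.closure_le]
        rintro γ ⟨κ, hκ⟩
        change Phi D γ ∈ Γ.map (Phi D)
        rw [Phi_w1 D hκ]
        exact hw1
    obtain ⟨γ, hγ, he⟩ := h3 hl
    exact ⟨γ, hγ, he⟩
  · intro γ hγ
    by_cases hc : Phi D γ * pP 0 1 = pP 0 1 * Phi D γ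
    · obtain ⟨l, hl, d, hd, δ, hδ, he⟩ := hcomm γ hγ hc
      exact ⟨l, hAL hl, d, hd, δ, hδ, by rw [he]⟩
    · obtain ⟨s, c, hr, hc'⟩ := hall _ ⟨γ, hγ, rfl⟩ hc
      obtain ⟨γp, hγp, hep⟩ := exists_P D hr
      obtain ⟨γ1, hγ1, he1⟩ := hw1
      obtain ⟨γw, hγw⟩ := hW1 1 one_ne_zero (by rw [star_one]; exact D.add_self 1)
      have hew := Phi_w1 D hγw
      have hν : (γp * γ1)⁻¹ * γ ∈ Γ := Γ.mul_mem (Γ.inv_mem (Γ.mul_mem (hP.indu hγp) hγ1)) hγ
      have heν : Phi D ((γp * γ1)⁻¹ * γ) = (pP s c * w1p)⁻¹ * Phi D γ := by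
        rw [map_mul, map_inv, map_mul, hep, he1]
      obtain ⟨l, hl, d, hd, δ, hδ, he⟩ := hcomm _ hν (by rw [heν]; exact hc')
      refine ⟨γp * γw * l, mul_mem (mul_mem (hAL hγp) (le_sup_right (a := A)
        (Subgroup.subset_closure ⟨1, hγw⟩))) (hAL hl), d, hd, δ, hδ, ?_⟩
      rw [he] at heν
      calc Phi D γ = (pP s c * w1p) * ((pP s c * w1p)⁻¹ * Phi D γ) := by group
        _ = (pP s c * w1p) * Phi D (l * δ) := by rw [← heν]
        _ = Phi D (γp * γw * l * δ) := by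
            rw [map_mul, map_mul, map_mul, map_mul, hep, hew]
            group

end Cfsg.Agent.H456.PU

namespace Cfsg.Agent.H456.PU

open Cfsg Cfsg.FusionSystem Cfsg.Agent.H756.PU

universe u

/-- **L1a for `q = 2`** -/
theorem stL1a_two (hTI : StTI.{u}) {K : Type u} [Field K] [StarRing K] {p n : ℕ} (hK : HypK K p n) (h2 : p ^ n = 2)
    (Γ : Subgroup (MulAut (Q1 K))) (D : Subgroup (MulAut (UG K))) (hP : Par p (Q1 K) Γ D) :
    HasTor D (fun t => t * (star t)⁻¹) (fun t => t ^ 2 * (star t)⁻¹) ∧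
    (∀ l ∈ Lam1 K, ∃ γ ∈ Γ, ∀ e : Q1 K, ((γ e : Q1 K) : UG K).r = ((l e : Q1 K) : UG K).r ∧
      ((γ e : Q1 K) : UG K).u1 = ((l e : Q1 K) : UG K).u1 ∧ ((γ e : Q1 K) : UG K).b = ((l e : Q1 K) : UG K).b) ∧
    (∀ γ ∈ Γ, ∃ l ∈ Lam1 K, ∃ d ∈ D, ∃ δ : MulAut (Q1 K), IsR d δ ∧
      ∀ e : Q1 K, ((γ e : Q1 K) : UG K).r = (((l * δ) e : Q1 K) : UG K).r ∧
      ((γ e : Q1 K) : UG K).u1 = (((l * δ) e : Q1 K) : UG K).u1 ∧
      ((γ e : Q1 K) : UG K).b = (((l * δ) e : Q1 K) : UG K).b) := by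
  obtain ⟨w, dat⟩ := exists_dat hK h2
  obtain ⟨h3, h4, h5⟩ := l1a_core dat hTI hK h2 Γ D hP
  have key : ∀ γ l : MulAut (Q1 K), Phi dat γ = Phi dat l → ∀ e : Q1 K,
      ((γ e : Q1 K) : UG K).r = ((l e : Q1 K) : UG K).r ∧
      ((γ e : Q1 K) : UG K).u1 = ((l e : Q1 K) : UG K).u1 ∧ ((γ e : Q1 K) : UG K).b = ((l e : Q1 K) : UG K).b := by
    intro γ l h e
    have h6 : pr (γ e) = pr (l e) := by rw [← Phi_pr dat, ← Phi_pr dat, h]
    simp only [pr, Prod.mk.injEq] at h6
    exact ⟨h6.2.2, h6.2.1, h6.1⟩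
  refine ⟨h3, fun l hl => ?_, fun γ hγ => ?_⟩
  · obtain ⟨γ, hγ, he⟩ := h4 l hl
    exact ⟨γ, hγ, key _ _ he⟩
  · obtain ⟨l, hl, d, hd, δ, hδ, he⟩ := h5 γ hγ
    exact ⟨l, hl, d, hd, δ, hδ, key _ _ he⟩

end Cfsg.Agent.H456.PU
end

private theorem dce_8990c21986d7 : _root_.True := by
  try have : _root_.True := by simp only [_root_.Cfsg.Agent.H756.PU.hull.eq_1]
  try have : _root_.True := by simp only [_root_.Cfsg.Agent.H456.PU.Y.eq_1]
  try have : _root_.True := by simp only [_root_.Cfsg.Agent.H456.PU.bf.eq_1]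
  try have : _root_.True := by simp only [_root_.Cfsg.Agent.H456.PU.qf.eq_1]
  try have : _root_.True := by simp only [_root_.Cfsg.Agent.H456.PU.pr.eq_1]
  try have : _root_.True := by simp only [_root_.Cfsg.Agent.H767.PU.eb.eq_1]
  try have : _root_.True := by simp only [_root_.Cfsg.Agent.H456.PU.Phi.congr_simp]
  try have : _root_.True := by simp only [_root_.Cfsg.Agent.H456.PU.lift.congr_simp]
  try have : _root_.True := by simp only [_root_.Cfsg.Agent.H767.PU.ec.eq_1]
  exact _root_.True.intro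
end

section
prune_inst 0xfffcfbbdf8fddfdfff7e7ffef9dffc39d7dfffbfdfff4bffe0e9ffafdf230a3dc5fb8d1de058ff1ff762bc30b87853f9ffcfffee6bdc7ffffd5ff45ffbee0fe5f7bd88711688340fbc0fff63f07fce7f000000000000000000000000000000004200000000

-- part: H567/PU/SujD
section
prune_inst 0x300400400002000018000060003c428200040000080000c020040204884c022003082188200000001020440030006003000000420000000a000000011c0180000010048048a000000008000000000000000000000000000000000000000000000000000
set_option linter.all false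
open scoped Cfsg.Agent.FastGrp

/-!
# S5258 [PU-REAL-a]: the normalizer, Sylow, the action of the torus; `StRealA` (helper567)
-/

set_option autoImplicit false

namespace Cfsg.Agent.H567.PU

open Matrix Cfsg.Agent.H756.PU Cfsg.Agent.H767.PU

universe u

variable {K : Type u} [Field K] [StarRing K] {p n : ℕ}

/-! ### the normalizer -/

/-- an element with given coordinates -/
theorem exists_el (h : HypK K p n) (r u1 u2 b : K) : ∃ x : UG K, x.r = r ∧ x.u1 = u1 ∧ x.u2 = u2 ∧ x.b = b := by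
  obtain ⟨a, ha⟩ := exists_a h u1
  obtain ⟨c, hc⟩ := exists_a h u2
  exact ⟨⟨r, u1, u2, a, b, c, ha, hc⟩, rfl, rfl, rfl, rfl⟩

theorem exists_kappa (h : HypK K p n) : ∃ κ : K, κ ≠ 0 ∧ κ + star κ = 0 := by
  have h1 : Nat.card (Tz K) = p ^ n := card_Tz h
  have h2 : 1 < Nat.card (Tz K) := by
    rw [h1]
    exact one_lt_q h
  have hfin : Finite (Tz K) := Nat.finite_of_card_ne_zero (by omega)
  have hnt : Nontrivial (Tz K) := Finite.one_lt_card_iff_nontrivial.1 h2
  obtain ⟨x, hx⟩ := exists_ne (0 : Tz K)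
  exact ⟨x, fun h => hx (Subtype.ext h), x.2⟩

/-- the elements which normalize `emb.range` are upper triangular -/
theorem tri_of_norm (h : HypK K p n) {g : SUJ K} (hg : ∀ x : UG K, ∃ y : UG K, emb x * g = g * emb y) :
    ∀ i j, j < i → mx g i j = 0 := by
  have key : ∀ x : UG K, ∃ y : UG K, mt x * mx g = mx g * mt y := by
    intro x
    obtain ⟨y, hy⟩ := hg x
    exact ⟨y, congrArg mx hy⟩
  generalize hMd : mx g = M at key ⊢
  have hM : FJ M := hMd ▸ mx_form g
  -- the columns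
  have c0 : ∀ x : UG K, ∀ i, mt x i 0 * M 0 0 + mt x i 1 * M 1 0 + mt x i 2 * M 2 0 + mt x i 3 * M 3 0 + mt x i 4 * M 4 0 =
      M i 0 := by
    intro x i
    obtain ⟨y, hy⟩ := key x
    have h1 := congrFun (congrFun hy i) 0
    rw [Matrix.mul_apply, Matrix.mul_apply, Fin.sum_univ_five, Fin.sum_univ_five] at h1
    rw [h1]
    show M i 0 * 1 + M i 1 * 0 + M i 2 * 0 + M i 3 * 0 + M i 4 * 0 = M i 0
    ring
  have c1 : ∀ x : UG K, ∃ z : K, ∀ i, mt x i 0 * M 0 1 + mt x i 1 * M 1 1 + mt x i 2 * M 2 1 + mt x i 3 * M 3 1 +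
      mt x i 4 * M 4 1 = M i 0 * z + M i 1 := by
    intro x
    obtain ⟨y, hy⟩ := key x
    refine ⟨y.r, fun i => ?_⟩
    have h1 := congrFun (congrFun hy i) 1
    rw [Matrix.mul_apply, Matrix.mul_apply, Fin.sum_univ_five, Fin.sum_univ_five] at h1
    rw [h1]
    show M i 0 * y.r + M i 1 * 1 + M i 2 * 0 + M i 3 * 0 + M i 4 * 0 = M i 0 * y.r + M i 1
    ring
  obtain ⟨t0, ht0⟩ := exists_a h (1 : K)
  obtain ⟨κ, hκ0, hκ⟩ := exists_kappa h
  let xA : UG K := ⟨1, 0, 0, 0, 0, 0, by simp, by simp⟩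
  let xB : UG K := ⟨0, 0, 0, 0, 1, 0, by simp, by simp⟩
  let xC : UG K := ⟨0, 0, 1, 0, 0, t0, by simp, ht0⟩
  let xD : UG K := ⟨0, 0, 0, 0, 0, κ, by simp, by simpa using hκ⟩
  -- column 0
  have m10 : M 1 0 = 0 := by
    have h1 := c0 xA 0
    have h2 : (1 : K) * M 0 0 + 1 * M 1 0 + 0 * M 2 0 + 0 * M 3 0 + (0 - 0 * star (1 : K)) * M 4 0 = M 0 0 := h1
    linear_combination h2
  have m40 : M 4 0 = 0 := by
    have h1 := c0 xA 3
    have h2 : (0 : K) * M 0 0 + 0 * M 1 0 + 0 * M 2 0 + 1 * M 3 0 + (- star (1 : K)) * M 4 0 = M 3 0 := h1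
    rw [star_one] at h2
    linear_combination -h2
  have m30 : M 3 0 = 0 := by
    have h1 := c0 xB 0
    have h2 : (1 : K) * M 0 0 + 0 * M 1 0 + 0 * M 2 0 + 1 * M 3 0 + (0 - 1 * star (0 : K)) * M 4 0 = M 0 0 := h1
    rw [m40] at h2
    linear_combination h2
  have m20 : M 2 0 = 0 := by
    have h1 := c0 xC 1
    have h2 : (0 : K) * M 0 0 + 1 * M 1 0 + 1 * M 2 0 + t0 * M 3 0 + (xC.d - t0 * star (0 : K)) * M 4 0 = M 1 0 := h1
    rw [m40, m30] at h2
    linear_combination h2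
  -- column 1
  have m41 : M 4 1 = 0 := by
    obtain ⟨z, h1⟩ := c1 xA
    have h2 : (0 : K) * M 0 1 + 0 * M 1 1 + 0 * M 2 1 + 1 * M 3 1 + (- star (1 : K)) * M 4 1 = M 3 0 * z + M 3 1 := h1 3
    rw [star_one, m30] at h2
    linear_combination -h2
  have m31 : M 3 1 = 0 := by
    obtain ⟨z, h1⟩ := c1 xD
    have h2 : (0 : K) * M 0 1 + 1 * M 1 1 + 0 * M 2 1 + κ * M 3 1 + (xD.d - κ * star (0 : K)) * M 4 1 =
      M 1 0 * z + M 1 1 := h1 1
    rw [m41, m10] at h2
    have h3 : κ * M 3 1 = 0 := by linear_combination h2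
    exact (mul_eq_zero.1 h3).resolve_left hκ0
  have m21 : M 2 1 = 0 := by
    obtain ⟨z, h1⟩ := c1 xC
    have h2 : (0 : K) * M 0 1 + 1 * M 1 1 + 1 * M 2 1 + t0 * M 3 1 + (xC.d - t0 * star (0 : K)) * M 4 1 =
      M 1 0 * z + M 1 1 := h1 1
    rw [m41, m31, m10] at h2
    linear_combination h2
  -- the form
  have f0 : ∀ j, star (M 0 0) * M 4 j = J K 0 j := by
    intro j
    have h1 := hM.col_rel 0 j
    rw [m10, m20, m30, m40, star_zero] at h1
    linear_combination h1
  have n0 : star (M 0 0) ≠ 0 := by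
    intro h0
    have h1 : star (M 0 0) * M 4 4 = 1 := f0 4
    rw [h0, zero_mul] at h1
    exact zero_ne_one h1
  have m4 : ∀ j, J K 0 j = 0 → M 4 j = 0 := by
    intro j hj
    have h1 := f0 j
    rw [hj] at h1
    exact (mul_eq_zero.1 h1).resolve_left n0
  have m42 : M 4 2 = 0 := m4 2 rfl
  have m43 : M 4 3 = 0 := m4 3 rfl
  have f1 : ∀ j, star (M 0 1) * M 4 j + star (M 1 1) * M 3 j = J K 1 j := by
    intro j
    have h1 := hM.col_rel 1 j
    rw [m21, m31, m41, star_zero] at h1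
    linear_combination h1
  have n1 : star (M 1 1) ≠ 0 := by
    intro h0
    have h1 : star (M 0 1) * M 4 3 + star (M 1 1) * M 3 3 = 1 := f1 3
    rw [h0, m43, mul_zero, zero_mul, add_zero] at h1
    exact zero_ne_one h1
  have m32 : M 3 2 = 0 := by
    have h1 : star (M 0 1) * M 4 2 + star (M 1 1) * M 3 2 = 0 := f1 2
    rw [m42, mul_zero, zero_add] at h1
    exact (mul_eq_zero.1 h1).resolve_left n1
  intro i j hij
  fin_cases i <;> fin_cases j <;> first | exact absurd hij (by decide) | assumption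

theorem norm_emb (h : HypK K p n) {g : SUJ K} (hg : ∀ x : UG K, ∃ y : UG K, emb x * g = g * emb y) :
    ∃ (x : UG K) (s t : Kˣ), g = emb x * tor s t :=
  exists_of_tri (tri_of_norm h hg)

/-! ### Sylow -/

theorem finite_SUJ (h : HypK K p n) : Finite (SUJ K) := by
  have := h.fin
  exact Finite.of_injective (mx : SUJ K → Matrix (Fin 5) (Fin 5) K) mx_injective

theorem pow_form (x : UG K) (s t : Kˣ) (k : ℕ) : ∃ y : UG K, (emb x * tor s t) ^ k = emb y * tor s t ^ k := by
  induction k with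
  | zero => exact ⟨1, by rw [pow_zero, pow_zero, map_one, mul_one]⟩
  | succ k ih =>
    obtain ⟨y, hy⟩ := ih
    obtain ⟨z, hz⟩ := tor_norm (s ^ k) (t ^ k) x
    refine ⟨y * z, ?_⟩
    rw [pow_succ, hy, map_mul, ← hz, ← tor_pow, pow_succ (tor s t) k]
    group

theorem index_emb (h : HypK K p n) : ¬ p ∣ (emb : UG K →* SUJ K).range.index := by
  classical
  have hpp := h.pp
  have : Fact p.Prime := ⟨hpp⟩
  have hfin := finite_SUJ h
  have hK := h.fin
  have := Fintype.ofFinite K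
  have hP : IsPGroup p (emb : UG K →* SUJ K).range := by
    have h1 := isPGroup_UG h
    exact h1.of_surjective (emb : UG K →* SUJ K).rangeRestrict (MonoidHom.rangeRestrict_surjective _)
  obtain ⟨S, hS⟩ := hP.exists_le_sylow
  have heq : (emb : UG K →* SUJ K).range = S := by
    by_contra hne
    have hlt : (emb : UG K →* SUJ K).range < S := lt_of_le_of_ne hS hne
    -- the normalizer condition in `S`
    have hnil : Group.IsNilpotent (S : Subgroup (SUJ K)) := S.2.isNilpotent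
    have hnc := Group.normalizerCondition_of_isNilpotent (G := (S : Subgroup (SUJ K)))
    have h1 : (emb : UG K →* SUJ K).range.subgroupOf S < ⊤ := by
      rw [lt_top_iff_ne_top, Ne, Subgroup.subgroupOf_eq_top]
      exact fun hle => hne (le_antisymm hS hle)
    have h2 := hnc _ h1
    obtain ⟨g, hg1, hg2⟩ := SetLike.exists_of_lt h2
    have hgn : ∀ x : UG K, ∃ y : UG K, emb x * (g : SUJ K) = (g : SUJ K) * emb y := by
      intro x
      have h3 := inv_mem hg1
      rw [Subgroup.mem_normalizer_iff] at h3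
      have h4 := (h3 ⟨emb x, hS ⟨x, rfl⟩⟩).1 (Subgroup.mem_subgroupOf.2 ⟨x, rfl⟩)
      rw [Subgroup.mem_subgroupOf] at h4
      obtain ⟨y, hy⟩ := h4
      refine ⟨y, ?_⟩
      rw [hy]
      show emb x * (g : SUJ K) = (g : SUJ K) * ((g : SUJ K)⁻¹ * emb x * (g : SUJ K)⁻¹⁻¹)
      group
    obtain ⟨x, s, t, hgx⟩ := norm_emb h hgn
    apply hg2
    rw [Subgroup.mem_subgroupOf]
    -- the power
    have hN : ∀ u : Kˣ, u ^ (Fintype.card K - 1) = 1 := fun u => by
      have := Fintype.card_units (α := K)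
      rw [← this]
      exact pow_card_eq_one
    have h5 : ((g : SUJ K)) ^ (Fintype.card K - 1) ∈ (emb : UG K →* SUJ K).range := by
      obtain ⟨y, hy⟩ := pow_form x s t (Fintype.card K - 1)
      rw [hgx, hy, tor_pow, hN, hN, tor_one, mul_one]
      exact ⟨y, rfl⟩
    obtain ⟨k, hk⟩ := S.2 g
    have hk' : ((g : SUJ K)) ^ p ^ k = 1 := congrArg Subtype.val hk
    have hcop : Nat.Coprime (Fintype.card K - 1) (p ^ k) := by
      apply Nat.Coprime.pow_right
      rw [Nat.coprime_comm, Nat.Prime.coprime_iff_not_dvd hpp]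
      intro hd
      have hc : Fintype.card K = (p ^ n) ^ 2 := by rw [← Nat.card_eq_fintype_card, h.card]
      have h6 : p ∣ Fintype.card K := by
        rw [hc, ← pow_mul]
        exact dvd_pow_self p (by have := h.hn; omega)
      have h7 : 1 ≤ Fintype.card K := Fintype.card_pos
      have h8 := (Nat.dvd_sub h6 hd)
      rw [Nat.sub_sub_self h7] at h8
      exact hpp.one_lt.ne' (Nat.dvd_one.1 h8)
    have h6 : (g : SUJ K) ∈ Subgroup.zpowers ((g : SUJ K) ^ (Fintype.card K - 1)) := by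
      have h7 : (orderOf (g : SUJ K)).Coprime (Fintype.card K - 1) :=
        Nat.Coprime.coprime_dvd_left (orderOf_dvd_of_pow_eq_one hk') hcop.symm
      exact mem_zpowers_pow_iff.2 (Nat.coprime_comm.1 h7)
    exact (Subgroup.zpowers_le.2 h5) h6
  rw [heq]
  exact S.not_dvd_index

/-! ### the action of the torus with field automorphisms -/

/-- the diagonal -/
def xv (x1 x2 : K) : Fin 5 → K := ![x1, x2, 1, (star x2)⁻¹, (star x1)⁻¹]

theorem xv_TV {x1 x2 : K} (h1 : x1 ≠ 0) (h2 : x2 ≠ 0) : TV (xv x1 x2) := by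
  refine ⟨?_, ?_, ?_⟩
  · show x1 * star ((star x1)⁻¹) = 1
    rw [star_inv₀, star_star, mul_inv_cancel₀ h1]
  · show x2 * star ((star x2)⁻¹) = 1
    rw [star_inv₀, star_star, mul_inv_cancel₀ h2]
  · show (1 : K) * star 1 = 1
    rw [star_one, mul_one]

/-- the pair `(α, β)` belongs to `x1`, `x2`, `τ` -/
def IsP (ab : MulAut (UG K) × MulAut (SUJ K)) (x1 x2 : K) (τ : K ≃+* K) : Prop :=
  IsTor ab.1 x1 x2 τ ∧ ∀ g, mx (ab.2 g) = cjm (xv x1 x2) τ (mx g)

theorem xv_mul {x1 x2 y1 y2 : K} {τ : K ≃+* K} (hτ : ∀ x, τ (star x) = star (τ x)) :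
    (fun i => xv x1 x2 i * τ (xv y1 y2 i)) = xv (x1 * τ y1) (x2 * τ y2) := by
  funext i
  fin_cases i
  · rfl
  · rfl
  · show (1 : K) * τ 1 = 1
    rw [map_one, mul_one]
  · show (star x2)⁻¹ * τ (star y2)⁻¹ = (star (x2 * τ y2))⁻¹
    rw [map_inv₀, hτ, star_mul', mul_inv]
  · show (star x1)⁻¹ * τ (star y1)⁻¹ = (star (x1 * τ y1))⁻¹
    rw [map_inv₀, hτ, star_mul', mul_inv]

theorem IsP.mul {a b : MulAut (UG K) × MulAut (SUJ K)} {x1 x2 y1 y2 : K} {τ σ : K ≃+* K} (ha : IsP a x1 x2 τ)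
    (hb : IsP b y1 y2 σ) : IsP (a * b) (x1 * τ y1) (x2 * τ y2) (σ.trans τ) := by
  refine ⟨isTor_mul ha.1 hb.1, fun g => ?_⟩
  show mx (a.2 (b.2 g)) = _
  rw [ha.2, hb.2, cjm_cjm, xv_mul ha.1.tst]

theorem IsP.one : IsP (1 : MulAut (UG K) × MulAut (SUJ K)) 1 1 (RingEquiv.refl K) := by
  refine ⟨isTor_one, fun g => ?_⟩
  show mx g = _
  ext i j
  have h1 : ∀ i, xv (1 : K) 1 i = 1 := by
    intro i
    fin_cases i <;> simp [xv]
  show mx g i j = xv 1 1 i * mx g i j * (xv 1 1 j)⁻¹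
  rw [h1, h1, inv_one, one_mul, mul_one]

theorem IsP.inv {a : MulAut (UG K) × MulAut (SUJ K)} {x1 x2 : K} {τ : K ≃+* K} (ha : IsP a x1 x2 τ) :
    IsP a⁻¹ (τ.symm x1)⁻¹ (τ.symm x2)⁻¹ τ.symm := by
  refine ⟨isTor_inv ha.1, fun g => ?_⟩
  obtain ⟨k, rfl⟩ := a.2.surjective g
  show mx (a.2⁻¹ (a.2 k)) = _
  rw [MulAut.inv_apply_self, ha.2, cjm_cjm]
  have hts : ∀ x, τ.symm (star x) = star (τ.symm x) := (isTor_inv ha.1).tst
  have h1 : (fun i => xv (τ.symm x1)⁻¹ (τ.symm x2)⁻¹ i * τ.symm (xv x1 x2 i)) = fun _ => 1 := by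
    rw [xv_mul hts]
    have e1 : τ.symm x1 ≠ 0 := by simpa using ha.1.ne1
    have e2 : τ.symm x2 ≠ 0 := by simpa using ha.1.ne2
    rw [inv_mul_cancel₀ e1, inv_mul_cancel₀ e2]
    funext i
    fin_cases i <;> simp [xv]
  rw [h1]
  ext i j
  show mx k i j = 1 * (τ.symm (τ (mx k i j))) * (1)⁻¹
  rw [RingEquiv.symm_apply_apply, one_mul, inv_one, mul_one]

variable (K) in
/-- the group of the pairs -/
def TP : Subgroup (MulAut (UG K) × MulAut (SUJ K)) where
  carrier := {a | ∃ x1 x2 τ, IsP a x1 x2 τ}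
  mul_mem' := by
    rintro a b ⟨_, _, _, ha⟩ ⟨_, _, _, hb⟩
    exact ⟨_, _, _, ha.mul hb⟩
  one_mem' := ⟨_, _, _, IsP.one⟩
  inv_mem' := by
    rintro a ⟨_, _, _, ha⟩
    exact ⟨_, _, _, ha.inv⟩

/-- `α` determines `x1`, `x2`, `τ` -/
theorem isTor_unique (h : HypK K p n) {α : MulAut (UG K)} {x1 x2 y1 y2 : K} {τ σ : K ≃+* K} (hx : IsTor α x1 x2 τ)
    (hy : IsTor α y1 y2 σ) : x1 = y1 ∧ x2 = y2 ∧ τ = σ := by
  have e1 : x1 = y1 := by
    obtain ⟨g, -, h2, -⟩ := exists_el h 0 1 0 0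
    have h3 := hx.u1 g
    rw [hy.u1, h2, map_one, map_one, mul_one, mul_one] at h3
    exact h3.symm
  have e2 : x2 = y2 := by
    obtain ⟨g, -, -, h2, -⟩ := exists_el h 0 0 1 0
    have h3 := hx.u2 g
    rw [hy.u2, h2, map_one, map_one, mul_one, mul_one] at h3
    exact h3.symm
  refine ⟨e1, e2, ?_⟩
  ext z
  obtain ⟨g, -, h2, -⟩ := exists_el h 0 z 0 0
  have h3 := hx.u1 g
  rw [hy.u1, h2, ← e1] at h3
  exact (mul_left_cancel₀ hx.ne1 h3).symm

theorem symm_star {τ : K ≃+* K} (hτ : ∀ x, τ (star x) = star (τ x)) (x : K) : τ.symm (star x) = star (τ.symm x) := by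
  apply τ.injective
  rw [τ.apply_symm_apply, hτ, τ.apply_symm_apply]

/-- the automorphism of `SUJ K` -/
theorem exists_autJ {x1 x2 : K} {τ : K ≃+* K} (h1 : x1 ≠ 0) (h2 : x2 ≠ 0) (hτ : ∀ x, τ (star x) = star (τ x)) :
    ∃ β : MulAut (SUJ K), ∀ g, mx (β g) = cjm (xv x1 x2) τ (mx g) := by
  have hinv : ∀ {x1 x2 : K} {τ : K ≃+* K} (h1 : x1 ≠ 0) (h2 : x2 ≠ 0) (hτ : ∀ x, τ (star x) = star (τ x))
      (M : Matrix (Fin 5) (Fin 5) K), cjm (xv (τ.symm x1)⁻¹ (τ.symm x2)⁻¹) τ.symm (cjm (xv x1 x2) τ M) = M := by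
    intro x1 x2 τ h1 h2 hτ M
    rw [cjm_cjm]
    have hts := symm_star hτ
    have h1 : (fun i => xv (τ.symm x1)⁻¹ (τ.symm x2)⁻¹ i * τ.symm (xv x1 x2 i)) = fun _ => 1 := by
      rw [xv_mul hts]
      have e1 : τ.symm x1 ≠ 0 := by simpa using h1
      have e2 : τ.symm x2 ≠ 0 := by simpa using h2
      rw [inv_mul_cancel₀ e1, inv_mul_cancel₀ e2]
      funext i
      fin_cases i <;> simp [xv]
    rw [h1]
    ext i j
    show 1 * (τ.symm (τ (M i j))) * (1)⁻¹ = M i j
    rw [RingEquiv.symm_apply_apply, one_mul, inv_one, mul_one]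
  have e1 : τ.symm x1 ≠ 0 := by simpa using h1
  have e2 : τ.symm x2 ≠ 0 := by simpa using h2
  let f := autJ (xv x1 x2) (xv_TV h1 h2) τ hτ
  let f' := autJ (xv (τ.symm x1)⁻¹ (τ.symm x2)⁻¹) (xv_TV (inv_ne_zero e1) (inv_ne_zero e2)) τ.symm (symm_star hτ)
  have hf' : ∀ g, f' (f g) = g := fun g => mx_injective (hinv h1 h2 hτ (mx g))
  have hf : ∀ g, f (f' g) = g := by
    intro g
    apply mx_injective
    have h3 := hinv (x1 := (τ.symm x1)⁻¹) (x2 := (τ.symm x2)⁻¹) (τ := τ.symm) (inv_ne_zero e1) (inv_ne_zero e2)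
      (symm_star hτ) (mx g)
    rw [RingEquiv.symm_symm, map_inv₀, map_inv₀, RingEquiv.apply_symm_apply, RingEquiv.apply_symm_apply, inv_inv,
      inv_inv] at h3
    exact h3
  exact ⟨{ toFun := f, invFun := f', left_inv := hf', right_inv := hf, map_mul' := map_mul f }, fun g => rfl⟩

/-- **REAL-a.** -/
theorem realA : Cfsg.Agent.H757.PU.StRealA.{u} := by
  intro K _ _ p n _ h
  have hfin := finite_SUJ h
  refine ⟨{
    G0 := SUJ K
    T := TP K
    ι := emb
    ρ := (MonoidHom.fst _ _).comp (TP K).subtype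
    A := (MonoidHom.snd _ _).comp (TP K).subtype
    inj := emb_injective
    syl := index_emb h
    injT := ?_
    tor := ?_
    act := ?_
    nrm := ?_
    w1 := ?_
    w2 := ?_ }⟩
  · rintro ⟨⟨a, b⟩, x1, x2, τ, hx⟩ ⟨⟨a', b'⟩, y1, y2, σ, hy⟩ hab
    have h1 : a = a' := hab
    subst h1
    obtain ⟨e1, e2, e3⟩ := isTor_unique h hx.1 hy.1
    subst e1; subst e2; subst e3
    apply Subtype.ext
    refine Prod.ext rfl ?_
    show b = b'
    ext g : 1
    exact mx_injective ((hx.2 g).trans (hy.2 g).symm)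
  · intro α x1 x2 τ hα
    obtain ⟨β, hβ⟩ := exists_autJ hα.ne1 hα.ne2 hα.tst
    exact ⟨⟨(α, β), x1, x2, τ, hα, hβ⟩, rfl⟩
  · rintro ⟨⟨a, b⟩, x1, x2, τ, hx⟩ g
    show b (emb g) = emb (a g)
    apply mx_injective
    rw [hx.2, mx_emb, mx_emb]
    refine cjm_mt (xv_TV hx.1.ne1 hx.1.ne2) hx.1.tst ?_ g
    show IsTor a (x1 / 1) (x2 / 1) τ
    rw [div_one, div_one]
    exact hx.1
  · intro g hg
    have hmap : (emb : UG K →* SUJ K).range.map (MulAut.conj g).toMonoidHom = (emb : UG K →* SUJ K).range := by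
      refine Subgroup.eq_of_le_of_card_ge ?_ ?_
      · rintro _ ⟨_, ⟨x, rfl⟩, rfl⟩
        exact hg x
      · rw [Subgroup.card_map_of_injective (MulAut.conj g).injective]
    have hg' : ∀ x : UG K, ∃ y : UG K, emb x * g = g * emb y := by
      intro x
      have h1 : emb x ∈ (emb : UG K →* SUJ K).range.map (MulAut.conj g).toMonoidHom := by
        rw [hmap]
        exact ⟨x, rfl⟩
      obtain ⟨_, ⟨y, rfl⟩, hy⟩ := h1
      refine ⟨y, ?_⟩
      have h2 : g * emb y * g⁻¹ = emb x := hy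
      rw [← h2]
      group
    obtain ⟨u, s, t, rfl⟩ := norm_emb h hg'
    have hs : (s : K) ≠ 0 := s.ne_zero
    have ht : (t : K) ≠ 0 := t.ne_zero
    have ht' : star (t : K) ≠ 0 := star_ne_zero.2 ht
    have hα := isTor_tor (s : K) (s : K)⁻¹ hs (inv_ne_zero hs) (RingEquiv.refl K) (fun _ => rfl)
    have hβ := isTor_tor ((t : K) * (star (t : K))⁻¹) ((t : K) ^ 2 * (star (t : K))⁻¹)
      (mul_ne_zero ht (inv_ne_zero ht')) (mul_ne_zero (pow_ne_zero 2 ht) (inv_ne_zero ht')) (RingEquiv.refl K)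
      (fun _ => rfl)
    refine ⟨u, s, t, _, _, hs, ht, hα, hβ, fun x => ?_⟩
    rw [map_mul, map_mul, map_inv, ← tor_conj_one hα, ← tor_conj_two hβ, tor_split s t]
    group
  · obtain ⟨κ, h0, h1⟩ := exists_kappa h
    exact ⟨w1 κ h0 h1, κ, _, isW1_w1 κ h0 h1, fun e => w1_conj (isW1_w1 κ h0 h1) e⟩
  · exact ⟨w2, _, isW2_w2, fun e => w2_conj isW2_w2 e⟩

end Cfsg.Agent.H567.PU

private theorem dce_99b2b95755be : _root_.True := by
  try have : _root_.True := by simp only [_root_.Cfsg.Agent.H567.PU.xv.eq_1]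
  exact _root_.True.intro
end

-- part: H440/PU/Main_mg
section

end

-- part: H339/PU/E3d_mg
section
prune_inst 0x200000000000000000000000000000000000000000000000000000002000000000000000000000000000000000000000000000000000000000000000000000000000000000000000000000000000000000000000000000000000000000000000000
set_option linter.all false
open scoped Cfsg.Agent.FastGrp

-- part: H339/PU/Coord
section
/-!
# S5258: coordinates of `UG K` modulo `Z` and modulo `Z₂` (helper339)
-/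

set_option autoImplicit false

namespace Cfsg.Agent.H339.PU

open Cfsg Cfsg.FusionSystem Cfsg.Agent.H756.PU

universe u

section
variable {K : Type u} [Field K] [StarRing K]

theorem mul_inv_mem_ZS {x y : UG K} :
    x * y⁻¹ ∈ ZS K ↔ x.r = y.r ∧ x.u1 = y.u1 ∧ x.u2 = y.u2 ∧ x.b = y.b ∧ x.c = y.c := by
  constructor
  · intro h
    have e : x = (x * y⁻¹) * y := by group
    obtain ⟨h1, h2, h3, h4, h5⟩ := h
    generalize hz : x * y⁻¹ = z at e h1 h2 h3 h4 h5
    rw [e]
    simp only [UG.mul_b, h1, h2, h3, h4, h5, _root_.Cfsg.Agent.H756.PU.UG.mul_r, _root_.zero_add, _root_.Cfsg.Agent.H756.PU.UG.mul_u1, _root_.MulZeroClass.zero_mul, _root_.add_zero, _root_.Cfsg.Agent.H756.PU.UG.mul_u2, _root_.sub_zero, _root_.Cfsg.Agent.H756.PU.UG.mul_c, _root_.and_self]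
  · rintro ⟨h1, h2, h3, h4, h5⟩
    have hy := y.hc
    refine ⟨?_, ?_, ?_, ?_, ?_⟩
    · simp [h1]
    · simp only [UG.mul_u1, UG.inv_u1, UG.inv_u2, h1, h2]; ring
    · simp [h3]
    · simp only [UG.mul_b, UG.inv_b, UG.inv_c, UG.inv_u2, UG.d, star_sub, star_neg, star_star, star_mul', h1, h2, h4]
      ring
    · simp only [UG.mul_c, UG.inv_c, UG.inv_u2, star_neg, h3, h5]
      linear_combination hy

theorem mul_inv_mem_Z2 {x y : UG K} :
    x * y⁻¹ ∈ Z2 K ↔ x.r = y.r ∧ x.u1 = y.u1 ∧ x.u2 = y.u2 ∧ x.c = y.c := by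
  constructor
  · intro h
    have e : x = (x * y⁻¹) * y := by group
    obtain ⟨h1, h2, h3, h5⟩ := h
    generalize hz : x * y⁻¹ = z at e h1 h2 h3 h5
    rw [e]
    simp only [h1, h2, h3, h5, _root_.Cfsg.Agent.H756.PU.UG.mul_r, _root_.zero_add, _root_.Cfsg.Agent.H756.PU.UG.mul_u1, _root_.MulZeroClass.zero_mul, _root_.add_zero, _root_.Cfsg.Agent.H756.PU.UG.mul_u2, _root_.Cfsg.Agent.H756.PU.UG.mul_c, _root_.sub_zero, _root_.and_self]
  · rintro ⟨h1, h2, h3, h5⟩
    have hy := y.hc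
    refine ⟨?_, ?_, ?_, ?_⟩
    · simp [h1]
    · simp only [UG.mul_u1, UG.inv_u1, UG.inv_u2, h1, h2]; ring
    · simp [h3]
    · simp only [UG.mul_c, UG.inv_c, UG.inv_u2, star_neg, h3, h5]
      linear_combination hy

theorem comm_eq (g m : UG K) : g * m * g⁻¹ * m⁻¹ = (g * m) * (m * g)⁻¹ := by group

/-- `[g, m] ∈ Z` -/
theorem comm_mem_ZS {g m : UG K} :
    g * m * g⁻¹ * m⁻¹ ∈ ZS K ↔ g.r * m.u2 = m.r * g.u2 ∧
      g.r * m.c - g.u1 * star m.u2 = m.r * g.c - m.u1 * star g.u2 ∧ g.u2 * star m.u2 = m.u2 * star g.u2 := by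
  rw [comm_eq, mul_inv_mem_ZS]
  simp only [UG.mul_r, UG.mul_u1, UG.mul_u2, UG.mul_b, UG.mul_c]
  constructor
  · rintro ⟨-, h2, -, h4, h5⟩
    exact ⟨by linear_combination h2, by linear_combination h4, by linear_combination -h5⟩
  · rintro ⟨h2, h4, h5⟩
    exact ⟨by ring, by linear_combination h2, by ring, by linear_combination h4, by linear_combination -h5⟩

/-- `[g, m] ∈ Z₂` -/
theorem comm_mem_Z2 {g m : UG K} :
    g * m * g⁻¹ * m⁻¹ ∈ Z2 K ↔ g.r * m.u2 = m.r * g.u2 ∧ g.u2 * star m.u2 = m.u2 * star g.u2 := by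
  rw [comm_eq, mul_inv_mem_Z2]
  simp only [UG.mul_r, UG.mul_u1, UG.mul_u2, UG.mul_c]
  constructor
  · rintro ⟨-, h2, -, h5⟩
    exact ⟨by linear_combination h2, by linear_combination -h5⟩
  · rintro ⟨h2, h5⟩
    exact ⟨by ring, by linear_combination h2, by ring, by linear_combination -h5⟩

/-- `[S, S] ≤ Y` -/
theorem comm_mem_YY (g m : UG K) : g * m * g⁻¹ * m⁻¹ ∈ YY K := by
  refine ⟨?_, ?_⟩
  · simp only [_root_.Cfsg.Agent.H756.PU.UG.mul_r, _root_.Cfsg.Agent.H756.PU.UG.inv_r, _root_.add_neg_cancel_comm, _root_.add_neg_cancel]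
  · simp only [_root_.Cfsg.Agent.H756.PU.UG.mul_u2, _root_.Cfsg.Agent.H756.PU.UG.inv_u2, _root_.add_neg_cancel_comm, _root_.add_neg_cancel]

/-- `[g, m] ∈ Z` for `m ∈ Y` -/
theorem comm_mem_ZS_of_YY {g m : UG K} (hm : m ∈ YY K) :
    g * m * g⁻¹ * m⁻¹ ∈ ZS K ↔ g.r * m.c + m.u1 * star g.u2 = 0 := by
  obtain ⟨h1, h2⟩ := hm
  rw [comm_mem_ZS]
  simp only [h1, h2, mul_zero, zero_mul, star_zero, sub_zero, zero_sub, true_and, and_true]
  constructor
  · intro h; linear_combination h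
  · intro h; linear_combination h

/-- `[S, Y] ≤ Z₂` -/
theorem comm_mem_Z2_of_YY {g m : UG K} (hm : m ∈ YY K) : g * m * g⁻¹ * m⁻¹ ∈ Z2 K := by
  obtain ⟨h1, h2⟩ := hm
  rw [comm_mem_Z2]
  simp only [h1, h2, _root_.MulZeroClass.mul_zero, _root_.MulZeroClass.zero_mul, _root_.star_zero, _root_.and_self]

theorem ZS_le_Z2 : ZS K ≤ Z2 K := fun _ h => ⟨h.1, h.2.1, h.2.2.1, h.2.2.2.2⟩
theorem Z2_le_VV : Z2 K ≤ VV K := fun _ h => ⟨h.1, h.2.1, h.2.2.1⟩
theorem VV_le_YY : VV K ≤ YY K := fun _ h => ⟨h.1, h.2.2⟩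
theorem Z2_le_YY : Z2 K ≤ YY K := Z2_le_VV.trans VV_le_YY
/-- a subgroup containing `Y` is normal -/
theorem le_normalizer_of_YY_le {E : Subgroup (UG K)} (hE : YY K ≤ E) :
    (⊤ : Subgroup (UG K)) ≤ Subgroup.normalizer (E : Set (UG K)) := by
  intro s _
  rw [Subgroup.mem_normalizer_iff]
  intro e
  constructor
  · intro he
    have : s * e * s⁻¹ = (s * e * s⁻¹ * e⁻¹) * e := by group
    rw [this]
    exact E.mul_mem (hE (comm_mem_YY s e)) he
  · intro he
    have h2 := hE (comm_mem_YY s⁻¹ (s * e * s⁻¹))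
    have : e = (s⁻¹ * (s * e * s⁻¹) * s⁻¹⁻¹ * (s * e * s⁻¹)⁻¹) * (s * e * s⁻¹) := by group
    rw [this]
    exact E.mul_mem h2 he

end

/-! ### The field -/

section
variable {K : Type u} [Field K] [StarRing K] {p n : ℕ}

theorem one_lt_q (h : HypK K p n) : 1 < p ^ n := Nat.one_lt_pow (Nat.one_le_iff_ne_zero.1 h.hn) h.pp.one_lt

theorem q_lt_card (h : HypK K p n) : p ^ n < Nat.card K := by
  rw [h.card]
  nlinarith [one_lt_q h]

/-- a polynomial `x ^ q + ε x` has at most `q` roots -/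
theorem card_root_le (h : HypK K p n) (ε : K) : Nat.card {x : K // x ^ (p ^ n) + ε * x = 0} ≤ p ^ n := by
  classical
  have hq := one_lt_q h
  let f : Polynomial K := Polynomial.X ^ (p ^ n) + Polynomial.C ε * Polynomial.X
  have hd : f.natDegree = p ^ n := by
    have : (Polynomial.C ε * Polynomial.X : Polynomial K).natDegree < (Polynomial.X ^ (p ^ n) : Polynomial K).natDegree := by
      rw [Polynomial.natDegree_X_pow]
      exact lt_of_le_of_lt ((Polynomial.natDegree_C_mul_le ε _).trans Polynomial.natDegree_X_le) hq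
    show (Polynomial.X ^ (p ^ n) + Polynomial.C ε * Polynomial.X : Polynomial K).natDegree = p ^ n
    rw [Polynomial.natDegree_add_eq_left_of_natDegree_lt this, Polynomial.natDegree_X_pow]
  have hf : f ≠ 0 := by
    intro h0
    rw [h0, Polynomial.natDegree_zero] at hd
    omega
  have hsub : ∀ x : {x : K // x ^ (p ^ n) + ε * x = 0}, (x : K) ∈ f.roots.toFinset := by
    rintro ⟨x, hx⟩
    rw [Multiset.mem_toFinset, Polynomial.mem_roots hf]
    show Polynomial.eval x f = 0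
    simpa only [f, _root_.Polynomial.eval_add, _root_.Polynomial.eval_pow, _root_.Polynomial.eval_X, _root_.Polynomial.eval_mul, _root_.Polynomial.eval_C] using hx
  have hinj : Function.Injective (fun x : {x : K // x ^ (p ^ n) + ε * x = 0} => (⟨x.1, hsub x⟩ : f.roots.toFinset)) := by
    intro a b hab
    exact Subtype.ext (by simpa using congrArg Subtype.val hab)
  calc Nat.card {x : K // x ^ (p ^ n) + ε * x = 0} ≤ Nat.card f.roots.toFinset := Nat.card_le_card_of_injective _ hinj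
    _ = f.roots.toFinset.card := by rw [Nat.card_eq_fintype_card, Fintype.card_coe]
    _ ≤ f.roots.card := Multiset.toFinset_card_le _
    _ ≤ f.natDegree := Polynomial.card_roots' f
    _ = p ^ n := hd

theorem exists_not_root (h : HypK K p n) (ε : K) : ∃ x : K, x ^ (p ^ n) + ε * x ≠ 0 := by
  by_contra hc
  push Not at hc
  have := h.fin
  have h1 := card_root_le h ε
  have h2 : Nat.card {x : K // x ^ (p ^ n) + ε * x = 0} = Nat.card K :=
    Nat.card_congr (Equiv.subtypeUnivEquiv hc)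
  have := q_lt_card h
  omega

/-- an element of nonzero trace -/
theorem exists_tr_ne (h : HypK K p n) : ∃ t : K, t + star t ≠ 0 := by
  obtain ⟨t, ht⟩ := exists_not_root h 1
  refine ⟨t, fun h0 => ht ?_⟩
  rw [← h.star_eq]
  linear_combination h0

/-- an element not fixed by `star` -/
theorem exists_star_ne (h : HypK K p n) : ∃ t : K, star t ≠ t := by
  obtain ⟨t, ht⟩ := exists_not_root h (-1)
  refine ⟨t, fun h0 => ht ?_⟩
  rw [← h.star_eq, h0]
  ring

/-- a nonzero element of trace `0` -/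
theorem exists_tr_zero (h : HypK K p n) : ∃ c : K, c ≠ 0 ∧ c + star c = 0 := by
  obtain ⟨t, ht⟩ := exists_star_ne h
  refine ⟨star t - t, sub_ne_zero.2 ht, ?_⟩
  simp only [star_sub, star_star]
  ring

/-- the trace is onto the fixed field -/
theorem exists_tr_eq (h : HypK K p n) {s : K} (hs : star s = s) : ∃ a : K, a + star a = s := by
  obtain ⟨t, ht⟩ := exists_tr_ne h
  refine ⟨s * t * (t + star t)⁻¹, ?_⟩
  have h1 : star (t + star t) = t + star t := by simp only [add_comm, _root_.StarAddMonoid.star_add, _root_.star_star]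
  have h2 : star ((t + star t)⁻¹) = (t + star t)⁻¹ := by rw [star_inv₀, h1]
  rw [star_mul', star_mul', h2, hs]
  field_simp

/-- elements of trace `0`: at most `q` -/
theorem card_tr_zero_le (h : HypK K p n) : Nat.card {c : K // c + star c = 0} ≤ p ^ n := by
  have := card_root_le h 1
  have e : Nat.card {c : K // c + star c = 0} = Nat.card {x : K // x ^ (p ^ n) + 1 * x = 0} := by
    apply Nat.card_congr
    apply Equiv.subtypeEquivRight
    intro x
    rw [h.star_eq, one_mul, add_comm]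
  rw [e]
  exact this

/-- an element with prescribed coordinates -/
theorem exists_elt (h : HypK K p n) (r u1 b c : K) (hc : c + star c = 0) :
    ∃ g : UG K, g.r = r ∧ g.u1 = u1 ∧ g.u2 = 0 ∧ g.b = b ∧ g.c = c := by
  obtain ⟨a, ha⟩ := exists_tr_eq h (s := -(u1 * star u1)) (by simp only [mul_comm, _root_.star_neg, _root_.star_mul', _root_.star_star])
  exact ⟨{ r := r, u1 := u1, u2 := 0, a := a, b := b, c := c, ha := by rw [ha]; ring, hc := by simpa only [_root_.star_zero, _root_.MulZeroClass.mul_zero, _root_.add_zero] using hc },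
    rfl, rfl, rfl, rfl, rfl⟩

end

end Cfsg.Agent.H339.PU
end

-- part: H339/PU/E3d
section
/-!
# S5258: statement (E3d) (helper339)
-/

set_option autoImplicit false

namespace Cfsg.Agent.H339.PU

open Cfsg Cfsg.FusionSystem Cfsg.Agent.H756.PU

universe u

section
variable {K : Type u} [Field K] [StarRing K]

/-- `Z` is central -/
theorem ZS_central {z : UG K} (hz : z ∈ ZS K) (g : UG K) : g * z = z * g := by
  obtain ⟨h1, h2, h3, h4, h5⟩ := hz
  ext
  · simp [h1]
  · simp [h1, h2, h3]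
  · simp [h3]
  · simp only [UG.mul_a, UG.d, h1, h2, h3, h4, h5, add_comm, _root_.star_zero, _root_.neg_zero, _root_.MulZeroClass.mul_zero, _root_.sub_self, _root_.add_zero, _root_.sub_zero, _root_.MulZeroClass.zero_mul, _root_.zero_add]
  · simp only [UG.mul_b, h1, h2, h3, h4, h5, _root_.add_zero, _root_.MulZeroClass.mul_zero, _root_.star_zero, _root_.sub_zero, _root_.zero_add, _root_.MulZeroClass.zero_mul]
  · simp only [h3, h5, _root_.Cfsg.Agent.H756.PU.UG.mul_c, _root_.add_zero, _root_.star_zero, _root_.MulZeroClass.mul_zero, _root_.sub_zero, _root_.zero_add, _root_.MulZeroClass.zero_mul]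

/-- the elements of `E` centralized by `E` modulo `Z` -/
def MH (E : Subgroup (UG K)) : Subgroup (UG K) where
  carrier := {m | m ∈ E ∧ ∀ e ∈ E, e * m * e⁻¹ * m⁻¹ ∈ ZS K}
  one_mem' := ⟨E.one_mem, fun e _ => by simp [(ZS K).one_mem]⟩
  mul_mem' := by
    rintro x y ⟨hx, hx'⟩ ⟨hy, hy'⟩
    refine ⟨E.mul_mem hx hy, fun e he => ?_⟩
    have h1 := hx' e he
    have h2 := hy' e he
    rw [comm_mem_ZS] at h1 h2 ⊢
    obtain ⟨a1, a2, a3⟩ := h1
    obtain ⟨b1, b2, b3⟩ := h2
    simp only [UG.mul_r, UG.mul_u1, UG.mul_u2, UG.mul_c, star_add]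
    refine ⟨by linear_combination a1 + b1, ?_, by linear_combination a3 + b3⟩
    linear_combination a2 + b2 - star y.u2 * a1 - x.r * b3
  inv_mem' := by
    rintro x ⟨hx, hx'⟩
    refine ⟨E.inv_mem hx, fun e he => ?_⟩
    have h1 := hx' e he
    rw [comm_mem_ZS] at h1 ⊢
    obtain ⟨a1, a2, a3⟩ := h1
    have hc := x.hc
    simp only [UG.inv_r, UG.inv_u1, UG.inv_u2, UG.inv_c, star_neg]
    refine ⟨by linear_combination -a1, ?_, by linear_combination -a3⟩
    have hc' : star x.c = - x.c - x.u2 * star x.u2 := by linear_combination hc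
    rw [hc']
    linear_combination -a2 - star x.u2 * a1 - x.r * a3

theorem MH_le (E : Subgroup (UG K)) : MH E ≤ E := fun _ h => h.1

/-- `M^` is invariant -/
theorem inv_MH {E : Subgroup (UG K)} {Γ : Subgroup (MulAut E)} (hZ : _root_.Cfsg.Agent.H756.PU.Inv Γ (ZS K)) : _root_.Cfsg.Agent.H756.PU.Inv Γ (MH E) := by
  refine ⟨MH_le E, fun γ hγ e he => ?_⟩
  refine ⟨(γ e).2, fun f hf => ?_⟩
  have h1 := he.2 ((γ⁻¹ ⟨f, hf⟩ : E) : UG K) (γ⁻¹ ⟨f, hf⟩ : E).2
  have h2 := hZ.2 γ hγ ((γ⁻¹ ⟨f, hf⟩ : E) * e * (γ⁻¹ ⟨f, hf⟩ : E)⁻¹ * e⁻¹) (by simpa only [_root_.MulAut.inv_apply, _root_.Subgroup.coe_mul, _root_.InvMemClass.coe_inv] using h1)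
  have h3 : γ ((γ⁻¹ ⟨f, hf⟩ : E) * e * (γ⁻¹ ⟨f, hf⟩ : E)⁻¹ * e⁻¹) = ⟨f, hf⟩ * γ e * ⟨f, hf⟩⁻¹ * (γ e)⁻¹ := by
    have h4 : γ (γ⁻¹ ⟨f, hf⟩ : E) = ⟨f, hf⟩ := MulAut.apply_inv_self _ γ _
    rw [map_mul, map_mul, map_mul, map_inv, map_inv, h4]
  rw [h3] at h2
  simpa only [_root_.Subgroup.coe_mul, _root_.InvMemClass.coe_inv] using h2

/-- powers of elements of `Y` -/
theorem pow_YY {m : UG K} (hm : m ∈ YY K) (k : ℕ) :
    (m ^ k).r = 0 ∧ (m ^ k).u2 = 0 ∧ (m ^ k).u1 = k * m.u1 ∧ (m ^ k).b = k * m.b ∧ (m ^ k).c = k * m.c := by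
  obtain ⟨h1, h2⟩ := hm
  induction k with
  | zero => simp
  | succ k ih =>
    obtain ⟨i1, i2, i3, i4, i5⟩ := ih
    rw [pow_succ]
    refine ⟨by simp [i1, h1], by simp [i2, h2], ?_, ?_, ?_⟩
    · simp only [UG.mul_u1, i1, i3, h2]; push_cast; ring
    · simp only [UG.mul_b, i1, i3, i4, h2, star_zero]; push_cast; ring
    · simp only [UG.mul_c, i2, i5]; push_cast; ring

/-- the elements of `S` centralizing `M^` modulo `Z` (for `M^ ≤ Y`) -/
def CH (M : Subgroup (UG K)) : Subgroup (UG K) where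
  carrier := {s | ∀ m ∈ M, s.r * m.c + m.u1 * star s.u2 = 0}
  one_mem' := by intro m _; simp
  mul_mem' := by
    intro x y hx hy m hm
    have h1 := hx m hm
    have h2 := hy m hm
    simp only [UG.mul_r, UG.mul_u2, star_add]
    linear_combination h1 + h2
  inv_mem' := by
    intro x hx m hm
    have h1 := hx m hm
    simp only [UG.inv_r, UG.inv_u2, star_neg]
    linear_combination -h1

theorem mem_CH {M : Subgroup (UG K)} {s : UG K} :
    s ∈ CH M ↔ ∀ m ∈ M, s.r * m.c + m.u1 * star s.u2 = 0 := Iff.rfl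

theorem MH_le_YY {p n : ℕ} (h : HypK K p n) {E : Subgroup (UG K)} (hE : YY K ≤ E) : MH E ≤ YY K := by
  intro m hm
  obtain ⟨e1, a1, a2, a3, a4, a5⟩ := exists_elt h 0 1 0 0 (by simp)
  obtain ⟨c0, hc0, hc0'⟩ := exists_tr_zero h
  obtain ⟨e2, b1, b2, b3, b4, b5⟩ := exists_elt h 0 0 0 c0 hc0'
  have h1 := hm.2 e1 (hE ⟨a1, a3⟩)
  have h2 := hm.2 e2 (hE ⟨b1, b3⟩)
  rw [comm_mem_ZS] at h1 h2
  have k1 := h1.2.1
  have k2 := h2.2.1
  rw [a1, a2, a5, a3] at k1
  rw [b1, b2, b5, b3] at k2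
  have k1' : m.u2 = 0 := by
    have : star m.u2 = 0 := by
      simp only [star_zero] at k1
      linear_combination -k1
    rw [← star_star m.u2, this, star_zero]
  have k2' : m.r * c0 = 0 := by
    simp only [star_zero] at k2
    linear_combination -k2
  exact ⟨(mul_eq_zero.1 k2').resolve_right hc0, k1'⟩

end

theorem stE3d (hSec : StSec.{u}) : StE3d.{u} := by
  intro K _ _ p n h E Γ hEss hE hZ hQV
  have hfinS := hEss.fin
  have : Finite (UG K) := Finite.of_injective (fun g : UG K => (⟨g, Subgroup.mem_top g⟩ : (⊤ : Subgroup (UG K))))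
    (fun a b hab => by simpa using hab)
  have := h.fin
  have := h.char
  have hMY : MH E ≤ YY K := MH_le_YY h hE
  have hZ2M : Z2 K ≤ MH E := by
    intro z hz
    refine ⟨hE (Z2_le_YY hz), fun e _ => ?_⟩
    rw [comm_mem_ZS_of_YY (Z2_le_YY hz)]
    simp only [hz.2.1, hz.2.2.2, _root_.MulZeroClass.mul_zero, _root_.MulZeroClass.zero_mul, _root_.add_zero]
  by_cases hc : MH E ≤ Z2 K
  · have : MH E = Z2 K := le_antisymm hc hZ2M
    rw [← this]
    exact inv_MH hZ
  -- an element outside `Z₂`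
  obtain ⟨g0, hg0, hg0u⟩ : ∃ g ∈ E, g.u2 ≠ 0 := by
    by_contra hcon
    push Not at hcon
    exact hQV fun g hg => hcon g hg
  have hsu : star g0.u2 ≠ 0 := fun h0 => hg0u (by rw [← star_star g0.u2, h0, star_zero])
  -- `u1` is determined by `c`
  have hrho : ∀ m ∈ MH E, m.u1 = - (g0.r * (star g0.u2)⁻¹) * m.c := by
    intro m hm
    have h1 := (comm_mem_ZS_of_YY (hMY hm)).1 (hm.2 g0 hg0)
    field_simp
    linear_combination h1
  have htr : ∀ m ∈ MH E, star m.c = - m.c := by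
    intro m hm
    have h1 := m.hc
    rw [(hMY hm).2] at h1
    linear_combination h1
  -- elements of `M^ ∖ Z₂`
  have hne : ∀ m ∈ MH E, m ∉ Z2 K → m.c ≠ 0 := by
    intro m hm hm2 h0
    apply hm2
    refine ⟨(hMY hm).1, ?_, (hMY hm).2, h0⟩
    rw [hrho m hm, h0, mul_zero]
  have hprop : ∀ m ∈ MH E, m.c ≠ 0 → ∀ s : UG K, s.r * m.c + m.u1 * star s.u2 = 0 →
      ∀ m' ∈ MH E, s.r * m'.c + m'.u1 * star s.u2 = 0 := by
    intro m hm hm0 s hs m' hm'
    rw [hrho m' hm']
    rw [hrho m hm] at hs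
    have h1 : m.c * (s.r - g0.r * (star g0.u2)⁻¹ * star s.u2) = 0 := by linear_combination hs
    have h2 := (mul_eq_zero.1 h1).resolve_left hm0
    linear_combination m'.c * h2
  refine hSec hEss (le_normalizer_of_YY_le hE) (ZS K) (MH E) (Z2 K) (CH (MH E)) hZ (inv_MH hZ) ZS_le_Z2 hZ2M ?_ ?_
    le_top ?_ ?_ ?_ ?_ ?_ ?_
  · intro e he m hm
    exact hm.2 e he
  · intro m hm
    obtain ⟨i1, i2, i3, i4, i5⟩ := pow_YY (hMY hm) p
    have hp : (p : K) = 0 := CharP.cast_eq_zero K p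
    exact ⟨i1, by rw [i3, hp, zero_mul], i2, by rw [i4, hp, zero_mul], by rw [i5, hp, zero_mul]⟩
  · intro e he m hm
    exact (comm_mem_ZS_of_YY (hMY hm)).1 (hm.2 e he)
  · intro s _
    rw [mem_CH]
    constructor
    · intro hs m hm
      exact (comm_mem_ZS_of_YY (hMY hm)).2 (hs m hm)
    · intro hs m hm
      exact (comm_mem_ZS_of_YY (hMY hm)).1 (hs m hm)
  · intro s _ m hm
    exact comm_mem_Z2_of_YY (hMY hm)
  · intro s _ m hm
    rw [comm_mem_ZS_of_YY (Z2_le_YY hm)]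
    simp only [hm.2.1, hm.2.2.2, _root_.MulZeroClass.mul_zero, _root_.MulZeroClass.zero_mul, _root_.add_zero]
  · intro s _ hs m hm hsm
    by_contra hm2
    exact hs (hprop m hm (hne m hm hm2) s ((comm_mem_ZS_of_YY (hMY hm)).1 hsm))
  · -- counting
    obtain ⟨m0, hm0, hm02⟩ := Set.not_subset.1 hc
    have hc0 := hne m0 hm0 hm02
    have h1 : (ZS K).relIndex (MH E) ≤ (p ^ n) ^ 3 := by
      rw [Subgroup.relIndex, Subgroup.index]
      have key : Function.Injective (fun x : ↥(MH E) ⧸ (ZS K).subgroupOf (MH E) =>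
          ((⟨(x.out : UG K).c, by rw [htr _ x.out.2]; ring⟩, (x.out : UG K).b) : {c : K // c + star c = 0} × K)) := by
        intro x y hxy
        simp only [Prod.mk.injEq, Subtype.mk.injEq] at hxy
        obtain ⟨k1, k2⟩ := hxy
        have hx := hMY x.out.2
        have hy := hMY y.out.2
        have hmem : (x.out : UG K) * (y.out : UG K)⁻¹ ∈ ZS K := by
          rw [mul_inv_mem_ZS]
          refine ⟨by rw [hx.1, hy.1], ?_, by rw [hx.2, hy.2], k2, k1⟩
          rw [hrho _ x.out.2, hrho _ y.out.2, k1]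
        have hmem2 : (x.out : UG K)⁻¹ * (y.out : UG K) ∈ ZS K := by
          have e1 : (x.out : UG K)⁻¹ * (y.out : UG K) = ((x.out : UG K) * (y.out : UG K)⁻¹)⁻¹ := by
            have := ZS_central hmem (y.out : UG K)
            have e2 : (x.out : UG K) = (y.out : UG K) * ((x.out : UG K) * (y.out : UG K)⁻¹) := by
              rw [this]; group
            have e3 : (x.out : UG K)⁻¹ * (y.out : UG K) = ((y.out : UG K) * ((x.out : UG K) * (y.out : UG K)⁻¹))⁻¹ * (y.out : UG K) := by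
              rw [← e2]
            rw [e3]; group
          rw [e1]
          exact (ZS K).inv_mem hmem
        rw [← x.out_eq', ← y.out_eq']
        apply Quotient.sound'
        rw [QuotientGroup.leftRel_apply]
        exact hmem2
      calc Nat.card (↥(MH E) ⧸ (ZS K).subgroupOf (MH E)) ≤ Nat.card ({c : K // c + star c = 0} × K) :=
            Nat.card_le_card_of_injective _ key
        _ = Nat.card {c : K // c + star c = 0} * Nat.card K := Nat.card_prod _ _
        _ ≤ p ^ n * (p ^ n) ^ 2 := by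
            rw [h.card]
            exact Nat.mul_le_mul_right _ (card_tr_zero_le h)
        _ = (p ^ n) ^ 3 := by ring
    have h2 : (p ^ n) ^ 2 ≤ (CH (MH E)).relIndex ⊤ := by
      rw [Subgroup.relIndex_top_right, Subgroup.index, ← h.card]
      choose f f1 f2 f3 f4 f5 using fun k : K => exists_elt h k 0 0 0 (by simp)
      refine Nat.card_le_card_of_injective (fun k : K => (QuotientGroup.mk (f k) : UG K ⧸ CH (MH E))) ?_
      intro k k' hk
      have h3 : (f k)⁻¹ * f k' ∈ CH (MH E) := QuotientGroup.eq.1 hk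
      have h4 := h3 m0 hm0
      simp only [UG.mul_r, UG.inv_r, UG.mul_u2, UG.inv_u2, f1, f3, neg_zero, add_zero, star_zero, mul_zero] at h4
      have h5 := (mul_eq_zero.1 h4).resolve_right hc0
      linear_combination -h5
    have hq := one_lt_q h
    have h3 : ∀ q : ℕ, 1 < q → q ^ 3 < (q ^ 2) ^ 2 := fun q hq => by
      rw [← pow_mul]
      exact Nat.pow_lt_pow_right hq (by norm_num)
    calc (ZS K).relIndex (MH E) ≤ (p ^ n) ^ 3 := h1
      _ < ((p ^ n) ^ 2) ^ 2 := h3 _ hq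
      _ ≤ ((CH (MH E)).relIndex ⊤) ^ 2 := Nat.pow_le_pow_left h2 2

end Cfsg.Agent.H339.PU
end

-- part: H699/PU/Coord
section
/-!
# S5258: coordinates in `UG K` (helper699)

* `exists_star_ne`, `exists_half` : `star ≠ id`, an element `w` with `w + star w = 1`;
* `mem_Q2_of_comm` : `C_S(Z₂) = Q₂`; `mem_VV_of_comm` : `C_{Q₂}(Y) = V`; commutators.
-/

set_option autoImplicit false

namespace Cfsg.Agent.H699.PU

open Cfsg Cfsg.FusionSystem Cfsg.Agent.H756.PU Cfsg.Agent.H756.PU.UG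

universe u

variable {K : Type u} [Field K] [StarRing K]

section field

variable {p n : ℕ} (hK : HypK K p n)

include hK

theorem two_le_q : 2 ≤ p ^ n := by
  calc 2 ≤ p := hK.pp.two_le
    _ = p ^ 1 := (pow_one p).symm
    _ ≤ p ^ n := Nat.pow_le_pow_right hK.pp.pos hK.hn

/-- `star` is not the identity -/
theorem exists_star_ne : ∃ t : K, star t ≠ t := by
  classical
  by_contra hcon
  push Not at hcon
  have := hK.fin
  have := Fintype.ofFinite K
  have hq := two_le_q hK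
  have h1 : ∀ t : K, t ^ (p ^ n) = t := fun t => by rw [← hK.star_eq, hcon]
  have h2 : Fintype.card K = (p ^ n) ^ 2 := by rw [← Nat.card_eq_fintype_card, hK.card]
  have h3 : (Polynomial.X ^ (p ^ n) - Polynomial.X : Polynomial K) ≠ 0 :=
    FiniteField.X_pow_card_sub_X_ne_zero K (by omega)
  have h4 : (Polynomial.X ^ (p ^ n) - Polynomial.X : Polynomial K).natDegree = p ^ n :=
    FiniteField.X_pow_card_sub_X_natDegree_eq K (by omega)
  have h5 : (Finset.univ : Finset K).card ≤ p ^ n := by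
    rw [← h4]
    refine le_trans (Finset.card_le_card ?_) ((Multiset.toFinset_card_le _).trans (Polynomial.card_roots' _))
    intro t _
    rw [Multiset.mem_toFinset, Polynomial.mem_roots h3, Polynomial.IsRoot.def]
    simp [h1 t]
  rw [Finset.card_univ, h2, pow_two] at h5
  nlinarith only [hq, h5]

/-- an element of trace one -/
theorem exists_half : ∃ w : K, w + star w = 1 := by
  obtain ⟨t, ht⟩ := exists_star_ne hK
  have h1 : ∃ w : K, w + star w ≠ 0 := by
    by_contra hcon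
    push Not at hcon
    have h2 := hcon 1
    have h3 := hcon t
    rw [star_one] at h2
    apply ht
    linear_combination h3 - t * h2
  obtain ⟨w, hw⟩ := h1
  refine ⟨w * (w + star w)⁻¹, ?_⟩
  rw [star_mul', star_inv₀, star_add, star_star, add_comm (star w) w, ← add_mul, mul_inv_cancel₀ hw]

/-- `ρ ↦ (b ↦ star ρ b - ρ star b)` has trivial kernel -/
theorem eq_zero_of_comm {ρ : K} (h : ∀ b : K, star ρ * b = ρ * star b) : ρ = 0 := by
  obtain ⟨t, ht⟩ := exists_star_ne hK
  have h1 := h 1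
  rw [star_one, mul_one, mul_one] at h1
  have h2 := h t
  rw [h1] at h2
  by_contra h3
  exact ht (mul_left_cancel₀ h3 h2).symm

end field

/-! ### Commutators -/

theorem comm_iff {x y : UG K} : x * y = y * x ↔
    x.r * y.u2 = y.r * x.u2 ∧
    x.r * y.d + star x.r * y.b + x.r * star x.r * y.c - x.u1 * (star y.u1 + star x.r * star y.u2) =
      y.r * x.d + star y.r * x.b + y.r * star y.r * x.c - y.u1 * (star x.u1 + star y.r * star x.u2) ∧
    x.r * y.c - x.u1 * star y.u2 = y.r * x.c - y.u1 * star x.u2 ∧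
    x.u2 * star y.u2 = y.u2 * star x.u2 := by
  rw [UG.ext_iff]
  simp only [mul_r, mul_u1, mul_u2, mul_a, mul_b, mul_c]
  constructor
  · rintro ⟨-, h1, -, h2, h3, h4⟩
    refine ⟨?_, ?_, ?_, ?_⟩
    · linear_combination h1
    · linear_combination h2
    · linear_combination h3
    · linear_combination -h4
  · rintro ⟨h1, h2, h3, h4⟩
    refine ⟨add_comm _ _, ?_, add_comm _ _, ?_, ?_, ?_⟩
    · linear_combination h1
    · linear_combination h2
    · linear_combination h3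
    · linear_combination -h4

/-- the element of `Z₂` with given `b` -/
def zb (b : K) : UG K :=
  { r := 0, u1 := 0, u2 := 0, a := 0, b := b, c := 0, ha := by simp, hc := by simp }

theorem zb_mem (b : K) : zb b ∈ Z2 K := ⟨rfl, rfl, rfl, rfl⟩

/-- `C_S(Z₂) ≤ Q₂` -/
theorem mem_Q2_of_comm {p n : ℕ} (hK : HypK K p n) {x : UG K} (h : ∀ z ∈ Z2 K, x * z = z * x) : x ∈ Q2 K := by
  refine eq_zero_of_comm hK fun b => ?_
  have h1 := (comm_iff.1 (h (zb b) (zb_mem b))).2.1
  simp only [zb, d, star_zero] at h1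
  linear_combination h1

/-- `Q₂ ≤ C_S(Z₂)` -/
theorem comm_of_mem_Q2 {x z : UG K} (hx : x ∈ Q2 K) (hz : z ∈ Z2 K) : x * z = z * x := by
  have hx' : x.r = 0 := hx
  obtain ⟨h1, h2, h3, h4⟩ := hz
  rw [comm_iff]
  simp only [hx', h1, h2, h3, h4, _root_.MulZeroClass.mul_zero, _root_.MulZeroClass.zero_mul, _root_.star_zero, _root_.add_zero, _root_.sub_self, _root_.and_self]

/-- an element of `Y` with given `u1` -/
def yt (w : K) (hw : w + star w = 1) (t : K) : UG K :=
  { r := 0, u1 := t, u2 := 0, a := - (w * (t * star t)), b := 0, c := 0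
    ha := by
      rw [star_neg, star_mul', star_mul', star_star, mul_comm (star t) t]
      linear_combination (- (t * star t)) * hw
    hc := by simp }

theorem yt_mem (w : K) (hw : w + star w = 1) (t : K) : yt w hw t ∈ YY K := ⟨rfl, rfl⟩

/-- `C_{Q₂}(Y) ≤ V` -/
theorem mem_VV_of_comm {p n : ℕ} (hK : HypK K p n) {x : UG K} (hx : x ∈ Q2 K) (h : ∀ y ∈ YY K, x * y = y * x) :
    x ∈ VV K := by
  obtain ⟨w, hw⟩ := exists_half hK
  have hx' : x.r = 0 := hx
  have h1 : x.u2 = 0 := by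
    have h2 := (comm_iff.1 (h _ (yt_mem w hw 1))).2.2.1
    simp only [yt, hx', star_zero] at h2
    rw [← star_eq_zero]
    linear_combination h2
  refine ⟨hx', eq_zero_of_comm hK fun t => ?_, h1⟩
  have h2 := (comm_iff.1 (h _ (yt_mem w hw t))).2.1
  simp only [yt, hx', h1, d, star_zero] at h2
  linear_combination h2

/-- `V` centralizes `Q₂` -/
theorem comm_of_mem_VV {x v : UG K} (hx : x ∈ Q2 K) (hv : v ∈ VV K) : x * v = v * x := by
  have hx' : x.r = 0 := hx
  obtain ⟨h1, h2, h3⟩ := hv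
  rw [comm_iff]
  simp only [hx', h1, h2, h3, _root_.MulZeroClass.mul_zero, _root_.MulZeroClass.zero_mul, _root_.star_zero, _root_.add_zero, _root_.sub_self, _root_.and_self]

theorem com_r (x y : UG K) : (x * y * x⁻¹ * y⁻¹).r = 0 := by
  simp only [mul_r, inv_r]; ring

theorem com_u2 (x y : UG K) : (x * y * x⁻¹ * y⁻¹).u2 = 0 := by
  simp only [mul_u2, inv_u2]; ring

theorem com_u1 (x y : UG K) : (x * y * x⁻¹ * y⁻¹).u1 = x.r * y.u2 - y.r * x.u2 := by
  simp only [mul_r, mul_u1, inv_u1, inv_u2, inv_r]; ring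

/-- `S' ≤ Y` -/
theorem com_mem_YY (x y : UG K) : x * y * x⁻¹ * y⁻¹ ∈ YY K := ⟨com_r x y, com_u2 x y⟩

/-- `Q₂' ≤ V` -/
theorem com_mem_VV {x y : UG K} (hx : x ∈ Q2 K) (hy : y ∈ Q2 K) : x * y * x⁻¹ * y⁻¹ ∈ VV K := by
  have hx' : x.r = 0 := hx
  have hy' : y.r = 0 := hy
  refine ⟨com_r x y, ?_, com_u2 x y⟩
  rw [com_u1, hx', hy', zero_mul, zero_mul, sub_zero]

theorem VV_le_Q2 : VV K ≤ Q2 K := fun _ h => h.1

theorem VV_le_YY : VV K ≤ YY K := fun _ h => ⟨h.1, h.2.2⟩

theorem YY_le_Q2 : YY K ≤ Q2 K := fun _ h => h.1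

end Cfsg.Agent.H699.PU
end

-- part: H699/PU/E3e
section
/-!
# S5258: StE3e (helper699)
-/

set_option autoImplicit false

namespace Cfsg.Agent.H699.PU

open Cfsg Cfsg.FusionSystem Cfsg.Agent.H756.PU Cfsg.Agent.H756.PU.UG

universe u

section

variable {Ω : Type*} [Group Ω] {E : Subgroup Ω} {Γ : Subgroup (MulAut E)}

/-- the centraliser of an invariant subgroup is invariant -/
theorem inv_cent {M C : Subgroup Ω} (hM : _root_.Cfsg.Agent.H756.PU.Inv Γ M)
    (hC : ∀ x, x ∈ C ↔ x ∈ E ∧ ∀ m ∈ M, x * m = m * x) : _root_.Cfsg.Agent.H756.PU.Inv Γ C := by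
  refine ⟨fun x hx => ((hC x).1 hx).1, fun γ hγ e he => (hC _).2 ⟨(γ e).2, fun m hm => ?_⟩⟩
  have h1 := ((hC _).1 he).2
  let m' : E := ⟨m, hM.1 hm⟩
  have h2 : ((γ⁻¹ m' : E) : Ω) ∈ M := hM.2 γ⁻¹ (Γ.inv_mem hγ) m' hm
  have h3 : e * (γ⁻¹ m') = (γ⁻¹ m') * e := Subtype.ext (h1 _ h2)
  have h4 := congrArg γ h3
  rw [map_mul, map_mul, MulAut.apply_inv_self] at h4
  exact congrArg Subtype.val h4

/-- the centre of an invariant subgroup is invariant -/
theorem inv_center {M C : Subgroup Ω} (hM : _root_.Cfsg.Agent.H756.PU.Inv Γ M)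
    (hC : ∀ x, x ∈ C ↔ x ∈ M ∧ ∀ m ∈ M, x * m = m * x) : _root_.Cfsg.Agent.H756.PU.Inv Γ C := by
  refine ⟨fun x hx => hM.1 ((hC x).1 hx).1, fun γ hγ e he => (hC _).2 ⟨hM.2 γ hγ e ((hC _).1 he).1, fun m hm => ?_⟩⟩
  have h1 := ((hC _).1 he).2
  let m' : E := ⟨m, hM.1 hm⟩
  have h2 : ((γ⁻¹ m' : E) : Ω) ∈ M := hM.2 γ⁻¹ (Γ.inv_mem hγ) m' hm
  have h3 : e * (γ⁻¹ m') = (γ⁻¹ m') * e := Subtype.ext (h1 _ h2)
  have h4 := congrArg γ h3
  rw [map_mul, map_mul, MulAut.apply_inv_self] at h4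
  exact congrArg Subtype.val h4

theorem inv_self : _root_.Cfsg.Agent.H756.PU.Inv Γ E := ⟨le_rfl, fun _ _ _ _ => Subtype.property _⟩

end

/-- (E3e) -/
theorem stE3e : StE3e.{u} := by
  intro K _ _ p n hK E Γ hE hYE hZ2
  -- `E ∩ Q₂ = C_E(Z₂)`
  have hC : _root_.Cfsg.Agent.H756.PU.Inv Γ (E ⊓ Q2 K) := by
    refine inv_cent hZ2 fun x => ⟨fun hx => ⟨hx.1, fun m hm => comm_of_mem_Q2 hx.2 hm⟩, fun hx =>
      ⟨hx.1, mem_Q2_of_comm hK hx.2⟩⟩
  -- `V = Z(E ∩ Q₂)`
  have hV : _root_.Cfsg.Agent.H756.PU.Inv Γ (VV K) := by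
    refine inv_center hC fun x => ⟨fun hx => ⟨⟨hYE (VV_le_YY hx), VV_le_Q2 hx⟩, fun m hm =>
      (comm_of_mem_VV hm.2 hx).symm⟩, fun hx => mem_VV_of_comm hK hx.1.2 fun y hy =>
      hx.2 y ⟨hYE hy, YY_le_Q2 hy⟩⟩
  have hQE : Q2 K ≤ E := by
    refine Cfsg.Agent.H732.PU.stChain hE (VV K) (E ⊓ Q2 K) E hV hC inv_self
      (le_inf (VV_le_YY.trans hYE) VV_le_Q2) inf_le_left (Q2 K) le_top ?_ ?_ ?_ ?_
    · intro x hx e he
      exact hYE (com_mem_YY x e)
    · intro x hx e he
      refine ⟨hYE (com_mem_YY x e), YY_le_Q2 (com_mem_YY x e)⟩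
    · intro x hx e he
      exact com_mem_VV hx he.2
    · intro x hx v hv
      exact comm_of_mem_VV hx hv
  refine ⟨hQE, ?_⟩
  rwa [inf_eq_right.2 hQE] at hC

end Cfsg.Agent.H699.PU
end

-- part: H699/PU/E3f
section
/-!
# S5258: StE3f (helper699)

`le_Q1_of_comm` : a subgroup `B` of order `|Q₁|` with `B' ≤ Z` is contained in `Q₁`.
-/

set_option autoImplicit false

namespace Cfsg.Agent.H699.PU

open Cfsg Cfsg.FusionSystem Cfsg.Agent.H756.PU Cfsg.Agent.H756.PU.UG

universe u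

variable {K : Type u} [Field K] [StarRing K]

/-- the elements of trace zero -/
def T0 (K : Type u) [Field K] [StarRing K] : AddSubgroup K where
  carrier := {a | a + star a = 0}
  zero_mem' := by simp only [_root_.Set.mem_ofPred_eq, _root_.star_zero, _root_.add_zero]
  add_mem' := by
    intro a b ha hb
    have ha' : a + star a = 0 := ha
    have hb' : b + star b = 0 := hb
    show a + b + star (a + b) = 0
    rw [star_add]
    linear_combination ha' + hb'
  neg_mem' := by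
    intro a ha
    have ha' : a + star a = 0 := ha
    show -a + star (-a) = 0
    rw [star_neg]
    linear_combination -ha'

theorem mem_T0 {a : K} : a ∈ T0 K ↔ a + star a = 0 := Iff.rfl

theorem add_half_mem {w : K} (hw : w + star w = 1) {a t : K} (h : a + star a + t * star t = 0) :
    a + w * (t * star t) ∈ T0 K := by
  rw [mem_T0, star_add, star_mul', star_mul', star_star, mul_comm (star t) t]
  linear_combination h + (t * star t) * hw

section card

variable {p n : ℕ} (hK : HypK K p n)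

include hK

theorem card_T0_lt : Nat.card (T0 K) < Nat.card K := by
  have := hK.fin
  obtain ⟨w, hw⟩ := exists_half hK
  have h1 : (T0 K) ≠ ⊤ := by
    intro h
    have h2 : w ∈ T0 K := by rw [h]; trivial
    rw [mem_T0, hw] at h2
    exact one_ne_zero h2
  have h2 := AddSubgroup.card_mul_index (T0 K)
  have h3 : (T0 K).index ≠ 1 := fun h => h1 (AddSubgroup.index_eq_one.1 h)
  have h4 : (T0 K).index ≠ 0 := AddSubgroup.index_ne_zero_of_finite
  have h5 : 0 < Nat.card (T0 K) := Nat.card_pos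
  have h6 : 2 ≤ (T0 K).index := by omega
  nlinarith

/-- `|S| ≤ |K|⁴ |T₀|²` -/
theorem card_S_le : Nat.card (UG K) ≤ Nat.card K ^ 4 * Nat.card (T0 K) ^ 2 := by
  have := hK.fin
  obtain ⟨w, hw⟩ := exists_half hK
  have h1 : Nat.card (UG K) ≤ Nat.card ((K × K × K × K) × (T0 K × T0 K)) := by
    refine Nat.card_le_card_of_injective (fun g : UG K => ((g.r, g.u1, g.u2, g.b),
      (⟨_, add_half_mem hw g.ha⟩, ⟨_, add_half_mem hw g.hc⟩))) ?_
    intro g h hgh
    simp only [Prod.mk.injEq, Subtype.mk.injEq] at hgh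
    obtain ⟨⟨h1, h2, h3, h4⟩, h5, h6⟩ := hgh
    ext
    · exact h1
    · exact h2
    · exact h3
    · rw [h2] at h5
      exact add_right_cancel h5
    · exact h4
    · rw [h3] at h6
      exact add_right_cancel h6
  refine h1.trans (le_of_eq ?_)
  simp only [Nat.card_prod]
  ring

/-- `|Z₂| ≤ |K| |T₀|` -/
theorem card_Z2_le : Nat.card (Z2 K) ≤ Nat.card K * Nat.card (T0 K) := by
  have := hK.fin
  rw [← Nat.card_prod]
  refine Nat.card_le_card_of_injective (fun g : Z2 K => ((g : UG K).b, (⟨(g : UG K).a, by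
    have h1 := (g : UG K).ha
    obtain ⟨h2, h3, h4, h5⟩ := g.2
    rw [h3, zero_mul, add_zero] at h1
    exact h1⟩ : T0 K))) ?_
  rintro ⟨g, g1, g2, g3, g4⟩ ⟨h, h1, h2, h3, h4⟩ hgh
  simp only [Prod.mk.injEq, Subtype.mk.injEq] at hgh
  apply Subtype.ext
  ext
  · exact g1.trans h1.symm
  · exact g2.trans h2.symm
  · exact g3.trans h3.symm
  · exact hgh.2
  · exact hgh.1
  · exact g4.trans h4.symm

/-- `|Y₁| ≤ |K|² |T₀|` -/
theorem card_Y1_le : Nat.card (Y1 K) ≤ Nat.card K ^ 2 * Nat.card (T0 K) := by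
  have := hK.fin
  obtain ⟨w, hw⟩ := exists_half hK
  have h1 : Nat.card (Y1 K) ≤ Nat.card ((K × K) × T0 K) := by
    refine Nat.card_le_card_of_injective (fun g : Y1 K => (((g : UG K).u1, (g : UG K).b),
      ⟨_, add_half_mem hw (g : UG K).ha⟩)) ?_
    rintro ⟨g, ⟨g1, g2⟩, g3⟩ ⟨h, ⟨h1, h2⟩, h3⟩ hgh
    simp only [Prod.mk.injEq, Subtype.mk.injEq] at hgh
    obtain ⟨⟨k1, k2⟩, k3⟩ := hgh
    have g3' : g.r = 0 := g3
    have h3' : h.r = 0 := h3
    apply Subtype.ext
    ext
    · exact g3'.trans h3'.symm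
    · exact k1
    · exact g1.trans h1.symm
    · rw [k1] at k3
      exact add_right_cancel k3
    · exact k2
    · exact g2.trans h2.symm
  refine h1.trans (le_of_eq ?_)
  simp only [Nat.card_prod]
  ring

/-- `|Q₁ V| ≤ |K|³ |T₀|²` -/
theorem card_QV_le : Nat.card (QV K) ≤ Nat.card K ^ 3 * Nat.card (T0 K) ^ 2 := by
  have := hK.fin
  obtain ⟨w, hw⟩ := exists_half hK
  have h1 : Nat.card (QV K) ≤ Nat.card ((K × K × K) × (T0 K × T0 K)) := by
    refine Nat.card_le_card_of_injective (fun g : QV K => (((g : UG K).r, (g : UG K).u1, (g : UG K).b),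
      (⟨_, add_half_mem hw (g : UG K).ha⟩, ⟨_, add_half_mem hw (g : UG K).hc⟩))) ?_
    rintro ⟨g, g1⟩ ⟨h, h1⟩ hgh
    simp only [Prod.mk.injEq, Subtype.mk.injEq] at hgh
    obtain ⟨⟨k1, k2, k3⟩, k4, k5⟩ := hgh
    have g1' : g.u2 = 0 := g1
    have h1' : h.u2 = 0 := h1
    apply Subtype.ext
    ext
    · exact k1
    · exact k2
    · exact g1'.trans h1'.symm
    · rw [k2] at k4
      exact add_right_cancel k4
    · exact k3
    · rw [g1', h1'] at k5
      exact add_right_cancel k5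
  refine h1.trans (le_of_eq ?_)
  simp only [Nat.card_prod]
  ring

omit hK in
/-- an element of `Q₁` with given coordinates -/
def q1elt (w : K) (hw : w + star w = 1) (r u b : K) (a : T0 K) : UG K :=
  { r := r
    u1 := u
    u2 := 0
    a := a - w * (u * star u)
    b := b
    c := 0
    ha := by
      have h2 := mem_T0.1 a.2
      rw [star_sub, star_mul', star_mul', star_star, mul_comm (star u) u]
      linear_combination h2 - (u * star u) * hw
    hc := by simp }

/-- `|Q₁| ≥ |K|³ |T₀|` -/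
theorem le_card_Q1 [Finite (UG K)] : Nat.card K ^ 3 * Nat.card (T0 K) ≤ Nat.card (Q1 K) := by
  have := hK.fin
  obtain ⟨w, hw⟩ := exists_half hK
  have h1 : Nat.card ((K × K × K) × T0 K) ≤ Nat.card (Q1 K) := by
    refine Nat.card_le_card_of_injective (fun x : (K × K × K) × T0 K =>
      (⟨q1elt w hw x.1.1 x.1.2.1 x.1.2.2 x.2, rfl, rfl⟩ : Q1 K)) ?_
    rintro ⟨⟨r, u, b⟩, a⟩ ⟨⟨r', u', b'⟩, a'⟩ h
    simp only [Subtype.mk.injEq, q1elt, UG.mk.injEq] at h
    obtain ⟨k1, k2, -, k3, k4, -⟩ := h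
    subst k1 k2 k4
    have : (a : K) = a' := by
      have := sub_left_inj.1 k3
      exact this
    rw [Subtype.ext this]
  refine le_trans (le_of_eq ?_) h1
  simp only [Nat.card_prod]
  ring

end card

theorem finite_UG {p n : ℕ} (hK : HypK K p n) : Finite (UG K) := by
  have := hK.fin
  refine Finite.of_injective (fun g : UG K => (g.r, g.u1, g.u2, g.a, g.b, g.c)) ?_
  intro g h hgh
  simp only [Prod.mk.injEq] at hgh
  obtain ⟨h1, h2, h3, h4, h5, h6⟩ := hgh
  ext <;> assumption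

/-- the count -/
theorem false_of_card {G : Type*} [Group G] [Finite G] {B Q X T : Subgroup G} (hB : Nat.card B = Nat.card Q)
    (hBX : B ≤ X) (hQX : Q ≤ X) (hT : B ⊓ Q ≤ T) (h : Nat.card X * Nat.card T < Nat.card Q ^ 2) : False := by
  have h1 : Nat.card (B ⊓ Q : Subgroup G) * (B ⊓ Q).relIndex B = Nat.card B := by
    rw [← Subgroup.relIndex_bot_left, ← Subgroup.relIndex_bot_left (H := B)]
    exact Subgroup.relIndex_mul_relIndex _ _ _ bot_le inf_le_left
  have h2 : Nat.card Q * Q.relIndex X = Nat.card X := by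
    rw [← Subgroup.relIndex_bot_left, ← Subgroup.relIndex_bot_left (H := X)]
    exact Subgroup.relIndex_mul_relIndex _ _ _ bot_le hQX
  have h3 : (B ⊓ Q).relIndex B ≤ Q.relIndex X := by
    rw [Subgroup.inf_relIndex_left]
    exact Subgroup.relIndex_le_of_le_right hBX (by
      rw [Subgroup.relIndex]
      exact Subgroup.FiniteIndex.index_ne_zero)
  have h4 : Nat.card (B ⊓ Q : Subgroup G) ≤ Nat.card T := Subgroup.card_le_of_le hT
  have h5 : Nat.card B * Nat.card Q ≤ Nat.card X * Nat.card T := by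
    calc Nat.card B * Nat.card Q = Nat.card (B ⊓ Q : Subgroup G) * ((B ⊓ Q).relIndex B * Nat.card Q) := by
          rw [← h1]; ring
      _ ≤ Nat.card T * (Q.relIndex X * Nat.card Q) := Nat.mul_le_mul h4 (Nat.mul_le_mul_right _ h3)
      _ = Nat.card X * Nat.card T := by rw [← h2]; ring
  rw [hB, ← pow_two] at h5
  omega

/-- a subgroup of order `|Q₁|` which is abelian modulo `Z` is contained in `Q₁` -/
theorem le_Q1_of_comm {p n : ℕ} (hK : HypK K p n) {B : Subgroup (UG K)} (hB : Nat.card B = Nat.card (Q1 K))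
    (hc : ∀ x ∈ B, ∀ y ∈ B, x * y * x⁻¹ * y⁻¹ ∈ ZS K) : B ≤ Q1 K := by
  have hfin := finite_UG hK
  have hKf := hK.fin
  by_contra hcon
  -- commutators modulo `Z`
  have hcc : ∀ x ∈ B, ∀ y ∈ B, x.r * y.u2 = y.r * x.u2 ∧
      x.r * y.c - x.u1 * star y.u2 = y.r * x.c - y.u1 * star x.u2 := by
    intro x hx y hy
    obtain ⟨h1, h2, h3, h4, h5⟩ := hc x hx y hy
    have h6 : x * y = (x * y * x⁻¹ * y⁻¹) * (y * x) := by group
    have h7 : (x * y).u1 = (y * x).u1 := by
      conv_lhs => rw [h6]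
      rw [mul_u1, h2, h1, zero_add, zero_mul, add_zero]
    have h8 : (x * y).b = (y * x).b := by
      conv_lhs => rw [h6]
      rw [mul_b, h4, h1, h2, zero_add, zero_mul, zero_mul, add_zero, sub_zero]
    rw [mul_u1, mul_u1] at h7
    rw [mul_b, mul_b] at h8
    exact ⟨by linear_combination h7, by linear_combination h8⟩
  set k := Nat.card K with hk
  set t := Nat.card (T0 K) with ht
  have htk : t < k := card_T0_lt hK
  have ht0 : 0 < t := Nat.card_pos
  have hk0 : 0 < k := by omega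
  have hQ : k ^ 3 * t ≤ Nat.card (Q1 K) := le_card_Q1 hK
  have hQ2 : (k ^ 3 * t) ^ 2 ≤ Nat.card (Q1 K) ^ 2 := Nat.pow_le_pow_left hQ 2
  have hfinal : k ^ 5 * t ^ 3 < (k ^ 3 * t) ^ 2 := by
    have h1 : (k ^ 3 * t) ^ 2 = k ^ 5 * t ^ 2 * k := by ring
    have h2 : k ^ 5 * t ^ 3 = k ^ 5 * t ^ 2 * t := by ring
    rw [h1, h2]
    exact Nat.mul_lt_mul_of_pos_left htk (by positivity)
  by_cases hA : ∃ x ∈ B, x.u2 ≠ 0
  · obtain ⟨x, hx, hxu⟩ := hA
    refine false_of_card (X := ⊤) (T := Z2 K) hB le_top le_top ?_ ?_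
    · intro y hy
      obtain ⟨h1, h2⟩ := hcc x hx y hy.1
      obtain ⟨hy2, hyc⟩ := hy.2
      rw [hy2, mul_zero] at h1
      rw [hy2, hyc, star_zero, mul_zero, mul_zero, sub_zero] at h2
      have h3 : y.r = 0 := (mul_eq_zero.1 h1.symm).resolve_right hxu
      rw [h3, zero_mul, zero_sub, zero_eq_neg, mul_eq_zero, star_eq_zero] at h2
      exact ⟨h3, h2.resolve_right hxu, hy2, hyc⟩
    · rw [Subgroup.card_top]
      calc Nat.card (UG K) * Nat.card (Z2 K) ≤ (k ^ 4 * t ^ 2) * (k * t) :=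
            Nat.mul_le_mul (card_S_le hK) (card_Z2_le hK)
        _ = k ^ 5 * t ^ 3 := by ring
        _ < _ := hfinal
        _ ≤ _ := hQ2
  · push Not at hA
    obtain ⟨x, hx, hxQ⟩ : ∃ x ∈ B, x ∉ Q1 K := by
      by_contra h
      push Not at h
      exact hcon h
    have hxc : x.c ≠ 0 := fun h => hxQ ⟨hA x hx, h⟩
    refine false_of_card (X := QV K) (T := Y1 K) hB (fun y hy => hA y hy) (fun y hy => hy.1) ?_ ?_
    · intro y hy
      obtain ⟨h1, h2⟩ := hcc x hx y hy.1
      obtain ⟨hy2, hyc⟩ := hy.2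
      rw [hy2, hyc, hA x hx, star_zero, mul_zero, mul_zero, mul_zero, sub_zero, sub_zero] at h2
      exact ⟨hy.2, (mul_eq_zero.1 h2.symm).resolve_right hxc⟩
    · calc Nat.card (QV K) * Nat.card (Y1 K) ≤ (k ^ 3 * t ^ 2) * (k ^ 2 * t) :=
            Nat.mul_le_mul (card_QV_le hK) (card_Y1_le hK)
        _ = k ^ 5 * t ^ 3 := by ring
        _ < _ := hfinal
        _ ≤ _ := hQ2

/-- `Q₁' ≤ Z` -/
theorem com_mem_ZS {x y : UG K} (hx : x ∈ Q1 K) (hy : y ∈ Q1 K) : x * y * x⁻¹ * y⁻¹ ∈ ZS K := by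
  obtain ⟨h1, h2⟩ := hx
  obtain ⟨h3, h4⟩ := hy
  refine ⟨com_r x y, ?_, com_u2 x y, ?_, ?_⟩
  · rw [com_u1, h1, h3, mul_zero, mul_zero, sub_zero]
  · simp only [mul_b, mul_r, mul_u1, inv_b, inv_u2, inv_c, d, h1, h2, h3, h4]
    simp only [_root_.MulZeroClass.mul_zero, _root_.add_zero, _root_.star_zero, _root_.sub_zero, _root_.MulZeroClass.zero_mul, _root_.star_neg, _root_.star_star, _root_.add_neg_cancel_comm, _root_.neg_zero, _root_.add_neg_cancel, _root_.Cfsg.Agent.H756.PU.UG.inv_r, _root_.Cfsg.Agent.H756.PU.UG.inv_u1, _root_.sub_self]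
  · simp only [h1, h2, h3, h4, _root_.Cfsg.Agent.H756.PU.UG.mul_c, _root_.add_zero, _root_.star_zero, _root_.MulZeroClass.mul_zero, _root_.sub_self, _root_.Cfsg.Agent.H756.PU.UG.inv_c, _root_.Cfsg.Agent.H756.PU.UG.mul_u2, _root_.Cfsg.Agent.H756.PU.UG.inv_u2, _root_.neg_zero]

/-- (E3f) -/
theorem stE3f : StE3f.{u} := by
  intro K _ _ p n hK E Γ hE hZ hQE
  have hfin := finite_UG hK
  refine ⟨hQE, fun γ hγ e he => ?_⟩
  set B : Subgroup (UG K) := (((Q1 K).subgroupOf E).map γ.toMonoidHom).map E.subtype with hB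
  have h1 : Nat.card B = Nat.card (Q1 K) := by
    rw [hB, Subgroup.card_map_of_injective E.subtype_injective,
      Subgroup.card_map_of_injective (f := γ.toMonoidHom) γ.injective]
    exact Nat.card_congr (Subgroup.subgroupOfEquivOfLe hQE).toEquiv
  have h2 : B ≤ Q1 K := by
    refine le_Q1_of_comm hK h1 ?_
    rintro _ ⟨_, ⟨x, hx, rfl⟩, rfl⟩ _ ⟨_, ⟨y, hy, rfl⟩, rfl⟩
    have h3 : ((x * y * x⁻¹ * y⁻¹ : E) : UG K) ∈ ZS K := com_mem_ZS hx hy
    have h4 := hZ.2 γ hγ _ h3
    rw [map_mul, map_mul, map_mul, map_inv, map_inv] at h4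
    exact h4
  exact h2 ⟨γ e, ⟨e, he, rfl⟩, rfl⟩

end Cfsg.Agent.H699.PU
end

-- part: H358/PU/Act
section
/-!
# S5258, PU-L2, part 1: the action of `GL₂(K)` on `Q₂` (helper358)
-/

set_option autoImplicit false

namespace Cfsg.Agent.H358.PU

open Cfsg Cfsg.FusionSystem Cfsg.Agent.H756.PU Matrix

universe u

variable {K : Type u} [Field K] [StarRing K]

theorem mul_d_of {x y : UG K} (hx : x.r = 0) : (x * y).d = x.d + y.d - x.u2 * star y.u1 := by
  simp only [UG.d, UG.mul_b, UG.mul_u1, UG.mul_u2, hx, star_add, star_sub, star_mul', star_star, zero_mul, add_zero]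
  ring

/-- the matrix `M` acts on `Q₂` -/
def qm (M : Matrix (Fin 2) (Fin 2) K) (e : UG K) : UG K where
  r := 0
  u1 := M 0 0 * e.u1 + M 0 1 * e.u2
  u2 := M 1 0 * e.u1 + M 1 1 * e.u2
  a := M 0 0 * (e.a * star (M 0 0) + e.b * star (M 0 1)) + M 0 1 * (e.d * star (M 0 0) + e.c * star (M 0 1))
  b := M 0 0 * (e.a * star (M 1 0) + e.b * star (M 1 1)) + M 0 1 * (e.d * star (M 1 0) + e.c * star (M 1 1))
  c := M 1 0 * (e.a * star (M 1 0) + e.b * star (M 1 1)) + M 1 1 * (e.d * star (M 1 0) + e.c * star (M 1 1))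
  ha := by
    have h1 := e.ha
    have h3 := e.hc
    simp only [UG.d, star_add, star_sub, star_mul', star_star, star_neg]
    linear_combination (M 0 0 * star (M 0 0)) * h1 + (M 0 1 * star (M 0 1)) * h3
  hc := by
    have h1 := e.ha
    have h3 := e.hc
    simp only [UG.d, star_add, star_sub, star_mul', star_star, star_neg]
    linear_combination (M 1 0 * star (M 1 0)) * h1 + (M 1 1 * star (M 1 1)) * h3

theorem qm_d (M : Matrix (Fin 2) (Fin 2) K) (e : UG K) : (qm M e).d =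
    M 1 0 * (e.a * star (M 0 0) + e.b * star (M 0 1)) + M 1 1 * (e.d * star (M 0 0) + e.c * star (M 0 1)) := by
  have h1 := e.ha
  have h3 := e.hc
  simp only [UG.d, qm, star_add, star_sub, star_mul', star_star, star_neg]
  linear_combination (- M 1 0 * star (M 0 0)) * h1 + (- M 1 1 * star (M 0 1)) * h3

theorem qm_mul (M : Matrix (Fin 2) (Fin 2) K) {x y : UG K} (hx : x.r = 0) : qm M (x * y) = qm M x * qm M y := by
  have hd := mul_d_of (y := y) hx
  ext
  · simp only [qm, _root_.Fin.isValue, _root_.Cfsg.Agent.H756.PU.UG.mul_u1, _root_.Cfsg.Agent.H756.PU.UG.mul_u2, _root_.Cfsg.Agent.H756.PU.UG.mul_c, _root_.Cfsg.Agent.H756.PU.UG.mul_r, _root_.add_zero]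
  · simp only [qm, UG.mul_u1, UG.mul_u2, hx]; ring
  · simp only [qm, UG.mul_u1, UG.mul_u2, hx]; ring
  · simp only [UG.mul_a]
    simp only [qm, UG.mul_a, UG.mul_b, UG.mul_c, UG.mul_u1, UG.mul_u2, hd, hx, star_add, star_mul', star_zero]
    ring
  · simp only [UG.mul_b]
    simp only [qm, UG.mul_a, UG.mul_b, UG.mul_c, UG.mul_u1, UG.mul_u2, hd, hx, star_add, star_mul', star_zero]
    ring
  · simp only [UG.mul_c]
    simp only [qm, UG.mul_a, UG.mul_b, UG.mul_c, UG.mul_u1, UG.mul_u2, hd, hx, star_add, star_mul', star_zero]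
    ring

theorem qm_qm (M N : Matrix (Fin 2) (Fin 2) K) (x : UG K) : qm M (qm N x) = qm (M * N) x := by
  have hd := qm_d N x
  have e00 : (M * N) 0 0 = M 0 0 * N 0 0 + M 0 1 * N 1 0 := by rw [Matrix.mul_apply, Fin.sum_univ_two]
  have e01 : (M * N) 0 1 = M 0 0 * N 0 1 + M 0 1 * N 1 1 := by rw [Matrix.mul_apply, Fin.sum_univ_two]
  have e10 : (M * N) 1 0 = M 1 0 * N 0 0 + M 1 1 * N 1 0 := by rw [Matrix.mul_apply, Fin.sum_univ_two]
  have e11 : (M * N) 1 1 = M 1 0 * N 0 1 + M 1 1 * N 1 1 := by rw [Matrix.mul_apply, Fin.sum_univ_two]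
  have ha : (qm M (qm N x)).a = M 0 0 * ((qm N x).a * star (M 0 0) + (qm N x).b * star (M 0 1)) +
    M 0 1 * ((qm N x).d * star (M 0 0) + (qm N x).c * star (M 0 1)) := rfl
  have hb : (qm M (qm N x)).b = M 0 0 * ((qm N x).a * star (M 1 0) + (qm N x).b * star (M 1 1)) +
    M 0 1 * ((qm N x).d * star (M 1 0) + (qm N x).c * star (M 1 1)) := rfl
  have hc : (qm M (qm N x)).c = M 1 0 * ((qm N x).a * star (M 1 0) + (qm N x).b * star (M 1 1)) +
    M 1 1 * ((qm N x).d * star (M 1 0) + (qm N x).c * star (M 1 1)) := rfl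
  ext
  · rfl
  · simp only [qm, e00, e01, e10, e11]; ring
  · simp only [qm, e00, e01, e10, e11]; ring
  · rw [ha, hd]; simp only [qm, e00, e01, e10, e11, star_add, star_mul']; ring
  · rw [hb, hd]; simp only [qm, e00, e01, e10, e11, star_add, star_mul']; ring
  · rw [hc, hd]; simp only [qm, e00, e01, e10, e11, star_add, star_mul']; ring

theorem qm_one {x : UG K} (hx : x.r = 0) : qm 1 x = x := by
  ext
  · exact hx.symm
  all_goals simp [qm]

/-- `GL₂(K)` acts on `Q₂` -/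
def act : GL (Fin 2) K →* MulAut (Q2 K) where
  toFun A :=
    { toFun := fun e => ⟨qm A e, rfl⟩
      invFun := fun e => ⟨qm (A⁻¹ : GL (Fin 2) K) e, rfl⟩
      left_inv := fun e => Subtype.ext (by
        change qm _ (qm _ (e : UG K)) = e
        rw [qm_qm, ← Units.val_mul, inv_mul_cancel, Units.val_one, qm_one e.2])
      right_inv := fun e => Subtype.ext (by
        change qm _ (qm _ (e : UG K)) = e
        rw [qm_qm, ← Units.val_mul, mul_inv_cancel, Units.val_one, qm_one e.2])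
      map_mul' := fun x y => Subtype.ext (qm_mul _ x.2) }
  map_one' := by
    ext1 e
    exact Subtype.ext (qm_one e.2)
  map_mul' A B := by
    ext1 e
    exact Subtype.ext (qm_qm _ _ _).symm

theorem act_apply (A : GL (Fin 2) K) (e : Q2 K) : ((act A e : Q2 K) : UG K) = qm A e := rfl

end Cfsg.Agent.H358.PU
end

-- part: H358/PU/Fld
section
/-!
# S5258, PU-L2, part 2: facts on the field, centre of `Q₂`, the group `CC` of the automorphisms trivial on `Q₂/V` (helper358)
-/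

set_option autoImplicit false

namespace Cfsg.Agent.H358.PU

open Cfsg Cfsg.FusionSystem Cfsg.Agent.H756.PU Matrix

universe u

variable {K : Type u} [Field K] [StarRing K] {p n : ℕ}

theorem one_lt (h : HypK K p n) : 1 < p ^ n :=
  Nat.one_lt_pow (by have := h.hn; omega) h.pp.one_lt

theorem exists_pow_ne (h : HypK K p n) : ∃ θ : K, θ ≠ 0 ∧ θ ^ (p ^ n - 1) ≠ 1 := by
  have := h.fin
  have := Fintype.ofFinite K
  by_contra hcon
  push Not at hcon
  have hq := one_lt h
  have h1 : ∀ x : Kˣ, x ^ (p ^ n - 1) = 1 := fun x => Units.ext (by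
    rw [Units.val_pow_eq_pow_val, hcon x x.ne_zero, Units.val_one])
  obtain ⟨g, hg⟩ := IsCyclic.exists_generator (α := Kˣ)
  have h2 : orderOf g = Nat.card Kˣ := orderOf_eq_card_of_forall_mem_zpowers hg
  have h3 := orderOf_dvd_of_pow_eq_one (h1 g)
  rw [h2, Nat.card_units, h.card] at h3
  have h4 := Nat.le_of_dvd (by omega) h3
  have h5 : p ^ n < (p ^ n) ^ 2 := by nlinarith only [hq]
  omega

theorem exists_star_ne (h : HypK K p n) : ∃ θ : K, star θ ≠ θ := by
  obtain ⟨θ, h0, h1⟩ := exists_pow_ne h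
  refine ⟨θ, fun h2 => h1 ?_⟩
  rw [h.star_eq] at h2
  have hq := one_lt h
  have h3 : θ * θ ^ (p ^ n - 1) = θ * 1 := by
    rw [← pow_succ', Nat.sub_add_cancel hq.le, h2, mul_one]
  exact mul_left_cancel₀ h0 h3

theorem exists_trace_ne (h : HypK K p n) : ∃ θ : K, θ + star θ ≠ 0 := by
  by_contra hcon
  push Not at hcon
  obtain ⟨θ, hθ⟩ := exists_star_ne h
  have h1 := hcon 1
  rw [star_one] at h1
  have h2 := hcon θ
  apply hθ
  have h3 : θ + θ = 0 := by
    have : θ + θ = θ * (1 + 1) := by ring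
    rw [this, h1, mul_zero]
  linear_combination h2 - h3

theorem exists_of_fix (h : HypK K p n) {x : K} (hx : star x = x) : ∃ a : K, a + star a = x := by
  obtain ⟨θ, hθ⟩ := exists_trace_ne h
  have h1 : star (θ + star θ) = θ + star θ := by rw [star_add, star_star, add_comm]
  refine ⟨x * (θ + star θ)⁻¹ * θ, ?_⟩
  rw [star_mul', star_mul', star_inv₀, h1, hx, ← mul_add, inv_mul_cancel_right₀ hθ]

theorem exists_of_skew (h : HypK K p n) {a : K} (ha : a + star a = 0) : ∃ x : K, x - star x = a := by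
  obtain ⟨θ, hθ⟩ := exists_star_ne h
  have hw : θ - star θ ≠ 0 := fun h1 => hθ (sub_eq_zero.1 h1).symm
  have h1 : star (θ - star θ) = -(θ - star θ) := by rw [star_sub, star_star]; ring
  have h2 : star a = -a := by linear_combination ha
  have h3 : star (a * (θ - star θ)⁻¹) = a * (θ - star θ)⁻¹ := by
    rw [star_mul', star_inv₀, h1, h2, inv_neg]
    ring
  refine ⟨a * (θ - star θ)⁻¹ * θ, ?_⟩
  rw [star_mul', h3, ← mul_sub, inv_mul_cancel_right₀ hw]

/-- elements of `Q₂` with given `u` -/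
theorem exists_u (h : HypK K p n) (x y : K) : ∃ e : Q2 K, (e : UG K).u1 = x ∧ (e : UG K).u2 = y ∧ (e : UG K).b = 0 := by
  have hN : ∀ z : K, star (-(z * star z)) = -(z * star z) := by
    intro z
    rw [star_neg, star_mul', star_star, mul_comm (star z)]
  obtain ⟨a, ha⟩ := exists_of_fix h (hN x)
  obtain ⟨c, hc⟩ := exists_of_fix h (hN y)
  exact ⟨⟨⟨0, x, y, a, 0, c, by linear_combination ha, by linear_combination hc⟩, rfl⟩, rfl, rfl, rfl⟩

variable (K) in
/-- the automorphisms of `Q₂` trivial on `Q₂/V` -/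
def CC : Subgroup (MulAut (Q2 K)) where
  carrier := {α | ∀ e : Q2 K, ((α e : Q2 K) : UG K).u1 = (e : UG K).u1 ∧ ((α e : Q2 K) : UG K).u2 = (e : UG K).u2}
  one_mem' := fun _ => ⟨rfl, rfl⟩
  mul_mem' := by
    intro α β hα hβ e
    rw [MulAut.mul_apply, (hα _).1, (hα _).2, (hβ _).1, (hβ _).2]
    exact ⟨rfl, rfl⟩
  inv_mem' := by
    intro α hα e
    have h1 := hα (α⁻¹ e)
    rw [MulAut.apply_inv_self] at h1
    exact ⟨h1.1.symm, h1.2.symm⟩

/-- `V` inside `Q₂` -/
def InV (e : Q2 K) : Prop := (e : UG K).u1 = 0 ∧ (e : UG K).u2 = 0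

theorem inV_comm {e : Q2 K} (he : InV e) (f : Q2 K) : e * f = f * e := by
  apply Subtype.ext
  have hr : (e : UG K).r = 0 := e.2
  have hr' : (f : UG K).r = 0 := f.2
  obtain ⟨h1, h2⟩ := he
  change (e : UG K) * f = f * e
  ext
  · simp only [UG.mul_r]; ring
  · simp only [UG.mul_u1, hr, hr']; ring
  · simp only [UG.mul_u2]; ring
  · simp only [UG.mul_a, hr, hr', h1, h2, star_zero]; ring
  · simp only [UG.mul_b, hr, hr', h1, h2, star_zero]; ring
  · simp only [UG.mul_c, h2, star_zero]; ring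

theorem inV_iff (h : HypK K p n) {e : Q2 K} : InV e ↔ ∀ f : Q2 K, e * f = f * e := by
  refine ⟨fun he => inV_comm he, fun H => ?_⟩
  have hr : (e : UG K).r = 0 := e.2
  have hb : ∀ f : Q2 K, (e : UG K).u1 * star (f : UG K).u2 = (f : UG K).u1 * star (e : UG K).u2 := by
    intro f
    have hr' : (f : UG K).r = 0 := f.2
    have h1 : ((e : UG K) * f).b = ((f : UG K) * e).b := congrArg (fun x : Q2 K => (x : UG K).b) (H f)
    rw [UG.mul_b, UG.mul_b, hr, hr'] at h1
    linear_combination -h1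
  obtain ⟨f, hf1, hf2, -⟩ := exists_u h (0 : K) 1
  obtain ⟨g, hg1, hg2, -⟩ := exists_u h (1 : K) 0
  have h1 := hb f
  have h2 := hb g
  rw [hf1, hf2, star_one, mul_one, zero_mul] at h1
  rw [hg1, hg2, star_zero, mul_zero, one_mul] at h2
  exact ⟨h1, star_eq_zero.1 h2.symm⟩

theorem inV_map (h : HypK K p n) (β : MulAut (Q2 K)) {e : Q2 K} (he : InV e) : InV (β e) := by
  rw [inV_iff h] at he ⊢
  intro f
  obtain ⟨g, rfl⟩ := β.surjective f
  rw [← map_mul, ← map_mul, he]

theorem u1_mul (e f : Q2 K) : ((e * f : Q2 K) : UG K).u1 = (e : UG K).u1 + (f : UG K).u1 := by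
  have hr : (e : UG K).r = 0 := e.2
  change ((e : UG K) * f).u1 = _
  rw [UG.mul_u1, hr, zero_mul, add_zero]

theorem u2_mul (e f : Q2 K) : ((e * f : Q2 K) : UG K).u2 = (e : UG K).u2 + (f : UG K).u2 := rfl

theorem u1_inv (e : Q2 K) : ((e⁻¹ : Q2 K) : UG K).u1 = -(e : UG K).u1 := by
  have hr : (e : UG K).r = 0 := e.2
  change ((e : UG K)⁻¹).u1 = _
  rw [UG.inv_u1, hr, zero_mul, add_zero]

theorem u2_inv (e : Q2 K) : ((e⁻¹ : Q2 K) : UG K).u2 = -(e : UG K).u2 := rfl

theorem inV_iff_eq (e f : Q2 K) : InV (e⁻¹ * f) ↔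
    (f : UG K).u1 = (e : UG K).u1 ∧ (f : UG K).u2 = (e : UG K).u2 := by
  unfold InV
  rw [u1_mul, u2_mul, u1_inv, u2_inv]
  constructor
  · rintro ⟨h1, h2⟩
    exact ⟨by linear_combination h1, by linear_combination h2⟩
  · rintro ⟨h1, h2⟩
    exact ⟨by linear_combination h1, by linear_combination h2⟩

theorem mem_CC {α : MulAut (Q2 K)} : α ∈ CC K ↔ ∀ e : Q2 K, InV (e⁻¹ * α e) :=
  ⟨fun h e => (inV_iff_eq _ _).2 (h e), fun h e => (inV_iff_eq _ _).1 (h e)⟩

theorem CC_normal (h : HypK K p n) : (CC K).Normal := by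
  refine ⟨fun α hα β => ?_⟩
  rw [mem_CC] at hα ⊢
  intro e
  have h1 := inV_map h β (hα (β⁻¹ e))
  rw [map_mul, map_inv, MulAut.apply_inv_self] at h1
  exact h1

/-- products commute up to the `v`-part -/
theorem comm_eq {e f e' f' : Q2 K} (h1 : (e' : UG K).u1 = (e : UG K).u1) (h2 : (e' : UG K).u2 = (e : UG K).u2)
    (h3 : (f' : UG K).u1 = (f : UG K).u1) (h4 : (f' : UG K).u2 = (f : UG K).u2) :
    e' * f' * e'⁻¹ * f'⁻¹ = e * f * e⁻¹ * f⁻¹ := by
  have hv := (inV_iff_eq e e').2 ⟨h1, h2⟩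
  have hw := (inV_iff_eq f f').2 ⟨h3, h4⟩
  obtain ⟨v, hv', rfl⟩ : ∃ v, InV v ∧ e' = e * v := ⟨_, hv, by group⟩
  obtain ⟨w, hw', rfl⟩ : ∃ w, InV w ∧ f' = f * w := ⟨_, hw, by group⟩
  have c1 : ∀ x, v * x = x * v := inV_comm hv'
  have c2 : ∀ x, w * x = x * w := inV_comm hw'
  calc e * v * (f * w) * (e * v)⁻¹ * (f * w)⁻¹ = e * (v * f) * (w * v⁻¹) * e⁻¹ * w⁻¹ * f⁻¹ := by group
    _ = e * (f * v) * (v⁻¹ * w) * e⁻¹ * w⁻¹ * f⁻¹ := by rw [c1 f, c2 v⁻¹]
    _ = e * f * (w * e⁻¹) * w⁻¹ * f⁻¹ := by group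
    _ = e * f * (e⁻¹ * w) * w⁻¹ * f⁻¹ := by rw [c2 e⁻¹]
    _ = _ := by group

/-- the elements of `CC` fix the commutators -/
theorem CC_fix_comm {α : MulAut (Q2 K)} (hα : α ∈ CC K) (e f : Q2 K) : α (e * f * e⁻¹ * f⁻¹) = e * f * e⁻¹ * f⁻¹ := by
  rw [map_mul, map_mul, map_mul, map_inv, map_inv]
  exact comm_eq (hα e).1 (hα e).2 (hα f).1 (hα f).2

/-- the coordinates of a commutator -/
theorem comm_coord (e f : Q2 K) : ((e * f * e⁻¹ * f⁻¹ : Q2 K) : UG K).a =
      (f : UG K).u1 * star (e : UG K).u1 - (e : UG K).u1 * star (f : UG K).u1 ∧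
    ((e * f * e⁻¹ * f⁻¹ : Q2 K) : UG K).b =
      (f : UG K).u1 * star (e : UG K).u2 - (e : UG K).u1 * star (f : UG K).u2 ∧
    ((e * f * e⁻¹ * f⁻¹ : Q2 K) : UG K).c =
      (f : UG K).u2 * star (e : UG K).u2 - (e : UG K).u2 * star (f : UG K).u2 ∧ InV (e * f * e⁻¹ * f⁻¹) := by
  have hr : (e : UG K).r = 0 := e.2
  have hr' : (f : UG K).r = 0 := f.2
  set x := e * f * e⁻¹ * f⁻¹ with hx
  have h0 : InV x := by
    constructor
    · rw [hx, u1_mul, u1_mul, u1_mul, u1_inv, u1_inv]; ring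
    · rw [hx, u2_mul, u2_mul, u2_mul, u2_inv, u2_inv]; ring
  have h1 : x * (f * e) = e * f := by rw [hx]; group
  have h2 : (x : UG K) * ((f : UG K) * e) = (e : UG K) * f := congrArg Subtype.val h1
  have ea := congrArg UG.a h2
  have eb := congrArg UG.b h2
  have ec := congrArg UG.c h2
  have hrx : (x : UG K).r = 0 := x.2
  simp only [UG.mul_a, UG.mul_b, UG.mul_c, hr, hr', hrx, h0.1, h0.2, star_zero] at ea eb ec
  exact ⟨by linear_combination ea, by linear_combination eb, by linear_combination ec, h0⟩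

theorem ext_InV {e f : Q2 K} (he : InV e) (hf : InV f) (ha : (e : UG K).a = (f : UG K).a)
    (hb : (e : UG K).b = (f : UG K).b) (hc : (e : UG K).c = (f : UG K).c) : e = f := by
  apply Subtype.ext
  ext
  · exact (show (e : UG K).r = 0 from e.2).trans (show (f : UG K).r = 0 from f.2).symm
  · exact he.1.trans hf.1.symm
  · exact he.2.trans hf.2.symm
  · exact ha
  · exact hb
  · exact hc

theorem a_mul {e : Q2 K} (he : InV e) (f : Q2 K) : ((e * f : Q2 K) : UG K).a = (e : UG K).a + (f : UG K).a := by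
  have hr : (e : UG K).r = 0 := e.2
  change ((e : UG K) * f).a = _
  rw [UG.mul_a, hr, he.1, star_zero]
  ring

theorem b_mul {e : Q2 K} (he : InV e) (f : Q2 K) : ((e * f : Q2 K) : UG K).b = (e : UG K).b + (f : UG K).b := by
  have hr : (e : UG K).r = 0 := e.2
  change ((e : UG K) * f).b = _
  rw [UG.mul_b, hr, he.1]
  ring

theorem c_mul {e : Q2 K} (he : InV e) (f : Q2 K) : ((e * f : Q2 K) : UG K).c = (e : UG K).c + (f : UG K).c := by
  change ((e : UG K) * f).c = _
  rw [UG.mul_c, he.2]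
  ring

theorem InV.mul {e f : Q2 K} (he : InV e) (hf : InV f) : InV (e * f) :=
  ⟨by rw [u1_mul, he.1, hf.1, add_zero], by rw [u2_mul, he.2, hf.2, add_zero]⟩

theorem fix3 {α : MulAut (Q2 K)} {A B C : Q2 K} (hA : α A = A) (hB : α B = B) (hC : α C = C) :
    α (A * (B * C)) = A * (B * C) := by
  rw [map_mul, map_mul, hA, hB, hC]

/-- the elements of `CC` fix `V` -/
theorem CC_fix (h : HypK K p n) {α : MulAut (Q2 K)} (hα : α ∈ CC K) {v : Q2 K} (hv : InV v) : α v = v := by
  have h0 := (v : UG K).ha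
  have h3 := (v : UG K).hc
  rw [hv.1, zero_mul, add_zero] at h0
  rw [hv.2, zero_mul, add_zero] at h3
  obtain ⟨x, hx⟩ := exists_of_skew h h0
  obtain ⟨y, hy⟩ := exists_of_skew h h3
  obtain ⟨e1, e11, e12, -⟩ := exists_u h x 0
  obtain ⟨e2, e21, e22, -⟩ := exists_u h (-1 : K) 0
  obtain ⟨f1, f11, f12, -⟩ := exists_u h (v : UG K).b 0
  obtain ⟨f2, f21, f22, -⟩ := exists_u h (0 : K) (-1)
  obtain ⟨g1, g11, g12, -⟩ := exists_u h 0 y
  have hs : star (-1 : K) = -1 := by rw [star_neg, star_one]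
  obtain ⟨a1, a2, a3, a4⟩ := comm_coord e1 e2
  obtain ⟨b1, b2, b3, b4⟩ := comm_coord f1 f2
  obtain ⟨c1, c2, c3, c4⟩ := comm_coord g1 f2
  have key : v = (e1 * e2 * e1⁻¹ * e2⁻¹) * ((f1 * f2 * f1⁻¹ * f2⁻¹) * (g1 * f2 * g1⁻¹ * f2⁻¹)) := by
    refine ext_InV hv (a4.mul (b4.mul c4)) ?_ ?_ ?_
    · rw [a_mul a4, a_mul b4, a1, b1, c1, e11, e21, f11, f21, g11, hs, star_zero]
      linear_combination -hx
    · rw [b_mul a4, b_mul b4, a2, b2, c2, e11, e21, e12, e22, f11, f21, f12, f22, g11, g12, hs, star_zero]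
      ring
    · rw [c_mul a4, c_mul b4, a3, b3, c3, e12, e22, f12, f22, g12, hs, star_zero]
      linear_combination -hy
  rw [key]
  exact fix3 (CC_fix_comm hα e1 e2) (CC_fix_comm hα f1 f2) (CC_fix_comm hα g1 f2)

/-- `CC` is abelian -/
theorem CC_comm (h : HypK K p n) : ∀ α ∈ CC K, ∀ β ∈ CC K, α * β = β * α := by
  intro α hα β hβ
  ext1 e
  rw [MulAut.mul_apply, MulAut.mul_apply]
  have h1 := mem_CC.1 hα e
  have h2 := mem_CC.1 hβ e
  have h3 : β e = e * (e⁻¹ * β e) := by group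
  have h4 : α e = e * (e⁻¹ * α e) := by group
  have h5 : α (β e) = α e * (e⁻¹ * β e) := by
    conv_lhs => rw [h3]
    rw [map_mul, CC_fix h hα h2]
  have h6 : β (α e) = β e * (e⁻¹ * α e) := by
    conv_lhs => rw [h4]
    rw [map_mul, CC_fix h hβ h1]
  rw [h5, h6]
  calc α e * (e⁻¹ * β e) = e * ((e⁻¹ * α e) * (e⁻¹ * β e)) := by group
    _ = e * ((e⁻¹ * β e) * (e⁻¹ * α e)) := by rw [inV_comm h1]
    _ = β e * (e⁻¹ * α e) := by group

theorem InV.pow {v : Q2 K} (hv : InV v) (m : ℕ) : InV (v ^ m) ∧ ((v ^ m : Q2 K) : UG K).a = m * (v : UG K).a ∧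
    ((v ^ m : Q2 K) : UG K).b = m * (v : UG K).b ∧ ((v ^ m : Q2 K) : UG K).c = m * (v : UG K).c := by
  induction m with
  | zero =>
    rw [pow_zero]
    refine ⟨⟨rfl, rfl⟩, ?_, ?_, ?_⟩ <;> rw [Nat.cast_zero, zero_mul] <;> rfl
  | succ m ih =>
    obtain ⟨h1, h2, h3, h4⟩ := ih
    rw [pow_succ]
    refine ⟨h1.mul hv, ?_, ?_, ?_⟩
    · rw [a_mul h1, h2]; push_cast; ring
    · rw [b_mul h1, h3]; push_cast; ring
    · rw [c_mul h1, h4]; push_cast; ring

theorem InV.pow_p (h : HypK K p n) {v : Q2 K} (hv : InV v) : v ^ p = 1 := by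
  have := h.char
  obtain ⟨h1, h2, h3, h4⟩ := hv.pow p
  have hp : ((p : ℕ) : K) = 0 := CharP.cast_eq_zero K p
  rw [hp, zero_mul] at h2 h3 h4
  exact ext_InV h1 ⟨rfl, rfl⟩ h2 h3 h4

/-- `CC` has exponent `p` -/
theorem CC_pow (h : HypK K p n) {α : MulAut (Q2 K)} (hα : α ∈ CC K) (m : ℕ) (e : Q2 K) :
    (α ^ m) e = e * (e⁻¹ * α e) ^ m := by
  induction m with
  | zero => rw [pow_zero, pow_zero, mul_one]; rfl
  | succ m ih =>
    have h1 := mem_CC.1 hα e
    rw [pow_succ', MulAut.mul_apply, ih, map_mul, CC_fix h hα (h1.pow m).1, pow_succ' (e⁻¹ * α e), ← mul_assoc e,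
      mul_inv_cancel_left]

theorem CC_pgroup (h : HypK K p n) : IsPGroup p (CC K) := by
  rintro ⟨α, hα⟩
  refine ⟨1, Subtype.ext ?_⟩
  rw [pow_one]
  ext1 e
  change (α ^ p) e = e
  rw [CC_pow h hα, (mem_CC.1 hα e).pow_p h, mul_one]

end Cfsg.Agent.H358.PU
end

-- part: H358/PU/Lam
section
/-!
# S5258, PU-L2, part 3: `Lam2 = Inn(Q₂) SL₂(K)` (helper358)
-/

set_option autoImplicit false
set_option linter.unusedSectionVars false
set_option linter.unusedSimpArgs false

namespace Cfsg.Agent.H358.PU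

open Cfsg Cfsg.FusionSystem Cfsg.Agent.H756.PU Matrix

universe u

variable {K : Type u} [Field K] [StarRing K] {p n : ℕ}

instance Q2_normal : (Q2 K).Normal := ⟨fun x hx g => by
  have hr : x.r = 0 := hx
  change (g * x * g⁻¹).r = 0
  simp [hr]⟩

/-- conjugation by the elements of `UG K` -/
def cj : UG K →* MulAut (Q2 K) := MulAut.conjNormal

theorem cj_apply (g : UG K) (e : Q2 K) : ((cj g e : Q2 K) : UG K) = g * e * g⁻¹ := MulAut.conjNormal_apply g e

theorem aut_eq : autInducedBy ⊤ (Q2 K) = (cj (K := K)).range := by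
  apply le_antisymm
  · unfold autInducedBy
    rw [Subgroup.closure_le]
    rintro α ⟨g, -, hg⟩
    refine ⟨g, ?_⟩
    ext1 e
    exact Subtype.ext ((cj_apply g e).trans (hg e).symm)
  · rintro _ ⟨g, rfl⟩
    exact Subgroup.subset_closure ⟨g, Subgroup.mem_top g, fun e => cj_apply g e⟩

theorem aut_conj {G : Type*} [Group G] (α : MulAut G) (g : G) : α * MulAut.conj g = MulAut.conj (α g) * α := by
  ext x
  rw [MulAut.mul_apply, MulAut.mul_apply, MulAut.conj_apply, MulAut.conj_apply, map_mul, map_mul, map_inv]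

theorem aut_conj' {G : Type*} [Group G] (α : MulAut G) (g : G) : α * MulAut.conj g * α⁻¹ = MulAut.conj (α g) := by
  rw [aut_conj, mul_inv_cancel_right]

variable (K) in
/-- `Inn(Q₂)` -/
def InnQ : Subgroup (MulAut (Q2 K)) := (MulAut.conj : Q2 K →* MulAut (Q2 K)).range

theorem InnQ_normal : (InnQ K).Normal := by
  refine ⟨?_⟩
  rintro _ ⟨q, rfl⟩ α
  exact ⟨α q, (aut_conj' α q).symm⟩

theorem conj_eq_cj (q : Q2 K) : MulAut.conj q = cj (q : UG K) := by
  ext1 e
  exact Subtype.ext (cj_apply _ _).symm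

theorem InnQ_le_aut : InnQ K ≤ autInducedBy ⊤ (Q2 K) := by
  rw [aut_eq]
  rintro _ ⟨q, rfl⟩
  exact ⟨q, (conj_eq_cj q).symm⟩

theorem InnQ_le_CC : InnQ K ≤ CC K := by
  rintro _ ⟨q, rfl⟩ e
  rw [MulAut.conj_apply, u1_mul, u1_mul, u2_mul, u2_mul, u1_inv, u2_inv]
  exact ⟨by ring, by ring⟩

/-- root elements -/
def rt (r : K) : UG K := ⟨r, 0, 0, 0, 0, 0, by simp, by simp⟩

theorem rt_inv (r : K) : (rt r)⁻¹ = rt (-r) := by
  rw [inv_eq_iff_mul_eq_one]
  ext <;> simp only [rt, UG.mul_a, UG.mul_b, UG.d, _root_.Cfsg.Agent.H756.PU.UG.mul_r, _root_.add_neg_cancel, _root_.Cfsg.Agent.H756.PU.UG.one_r, _root_.Cfsg.Agent.H756.PU.UG.mul_u1, _root_.add_zero, _root_.MulZeroClass.mul_zero, _root_.Cfsg.Agent.H756.PU.UG.one_u1, _root_.Cfsg.Agent.H756.PU.UG.mul_u2, _root_.Cfsg.Agent.H756.PU.UG.one_u2, _root_.star_zero, _root_.neg_zero, _root_.sub_self, _root_.Cfsg.Agent.H756.PU.UG.one_a, _root_.Cfsg.Agent.H756.PU.UG.one_b, _root_.Cfsg.Agent.H756.PU.UG.mul_c,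 _root_.Cfsg.Agent.H756.PU.UG.one_c]

/-- unipotent matrices -/
def uA (r : K) : GL (Fin 2) K := ⟨!![1, r; 0, 1], !![1, -r; 0, 1],
  by rw [Matrix.mul_fin_two, Matrix.one_fin_two]; simp, by rw [Matrix.mul_fin_two, Matrix.one_fin_two]; simp⟩

/-- the Weyl element -/
def wA : GL (Fin 2) K := ⟨!![0, 1; -1, 0], !![0, -1; 1, 0],
  by rw [Matrix.mul_fin_two, Matrix.one_fin_two]; simp, by rw [Matrix.mul_fin_two, Matrix.one_fin_two]; simp⟩

/-- diagonal matrices -/
def dg (x y : Kˣ) : GL (Fin 2) K := ⟨!![(x : K), 0; 0, (y : K)], !![((x⁻¹ : Kˣ) : K), 0; 0, ((y⁻¹ : Kˣ) : K)],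
  by rw [Matrix.mul_fin_two, Matrix.one_fin_two]; simp, by rw [Matrix.mul_fin_two, Matrix.one_fin_two]; simp⟩

theorem dg_mul (x y x' y' : Kˣ) : dg x y * dg x' y' = dg (x * x') (y * y') := by
  apply Units.ext
  change !![(x : K), 0; 0, (y : K)] * !![(x' : K), 0; 0, (y' : K)] = !![((x * x' : Kˣ) : K), 0; 0, ((y * y' : Kˣ) : K)]
  rw [Matrix.mul_fin_two]
  simp

theorem act_uA (r : K) : act (uA r) = cj (rt r) := by
  ext1 e
  apply Subtype.ext
  rw [act_apply, cj_apply, rt_inv]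
  have hr : (e : UG K).r = 0 := e.2
  ext
  · simp only [qm, rt, hr, _root_.Fin.isValue, _root_.Cfsg.Agent.H756.PU.UG.mul_r, _root_.add_zero, _root_.add_neg_cancel]
  · simp only [qm, rt, uA, hr, _root_.Fin.isValue, _root_.Matrix.of_apply, _root_.Matrix.cons_val', _root_.Matrix.cons_val_zero, _root_.Matrix.cons_val_fin_one, _root_.one_mul, _root_.Matrix.cons_val_one, _root_.MulZeroClass.zero_mul, _root_.zero_add, _root_.star_one, _root_.mul_one, _root_.star_zero, _root_.MulZeroClass.mul_zero, _root_.Cfsg.Agent.H756.PU.UG.mul_u1, _root_.add_zero, _root_.Cfsg.Agent.H756.PU.UG.mul_r]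
  · simp only [qm, rt, uA, hr, _root_.Fin.isValue, _root_.Matrix.of_apply, _root_.Matrix.cons_val', _root_.Matrix.cons_val_zero, _root_.Matrix.cons_val_fin_one, _root_.one_mul, _root_.Matrix.cons_val_one, _root_.MulZeroClass.zero_mul, _root_.zero_add, _root_.star_one, _root_.mul_one, _root_.star_zero, _root_.MulZeroClass.mul_zero, _root_.Cfsg.Agent.H756.PU.UG.mul_u2, _root_.add_zero]
  · simp only [qm, rt, uA, UG.mul_a, UG.mul_b, UG.d, hr, _root_.Fin.isValue, _root_.Matrix.of_apply, _root_.Matrix.cons_val', _root_.Matrix.cons_val_zero, _root_.Matrix.cons_val_fin_one, _root_.one_mul, _root_.Matrix.cons_val_one, _root_.MulZeroClass.zero_mul, _root_.zero_add, _root_.star_one, _root_.mul_one, _root_.star_zero, _root_.MulZeroClass.mul_zero, _root_.sub_zero, _root_.add_zero, _root_.Cfsg.Agent.H756.PU.UG.mul_r, _root_.neg_zero, _root_.sub_self, _root_.Cfsg.Agent.H756.PU.UG.mul_u1]; ring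
  · simp only [qm, rt, uA, UG.mul_a, UG.mul_b, UG.d, hr, _root_.Fin.isValue, _root_.Matrix.of_apply, _root_.Matrix.cons_val', _root_.Matrix.cons_val_zero, _root_.Matrix.cons_val_fin_one, _root_.one_mul, _root_.Matrix.cons_val_one, _root_.MulZeroClass.zero_mul, _root_.zero_add, _root_.star_one, _root_.mul_one, _root_.star_zero, _root_.MulZeroClass.mul_zero, _root_.sub_zero, _root_.add_zero, _root_.Cfsg.Agent.H756.PU.UG.mul_r, _root_.Cfsg.Agent.H756.PU.UG.mul_u1]
  · simp only [qm, rt, uA, UG.mul_a, UG.mul_b, UG.d, hr, _root_.Fin.isValue, _root_.Matrix.of_apply, _root_.Matrix.cons_val', _root_.Matrix.cons_val_zero, _root_.Matrix.cons_val_fin_one, _root_.one_mul, _root_.Matrix.cons_val_one, _root_.MulZeroClass.zero_mul, _root_.zero_add, _root_.star_one, _root_.mul_one, _root_.star_zero, _root_.MulZeroClass.mul_zero, _root_.Cfsg.Agent.H756.PU.UG.mul_c, _root_.sub_zero, _root_.add_zero, _root_.Cfsg.Agent.H756.PU.UG.mul_u2]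

theorem isW2_act : IsW2 (act (K := K) wA) := by
  refine ⟨fun e => ?_, fun e => ?_, fun e => ?_, fun e => ?_, fun e => ?_⟩ <;> rw [act_apply] <;> simp [qm, wA]

theorem eq_act_of_isW2 {γ : MulAut (Q2 K)} (h : IsW2 γ) : γ = act wA := by
  have h' := isW2_act (K := K)
  ext1 e
  apply Subtype.ext
  ext
  · exact (show ((γ e : Q2 K) : UG K).r = 0 from (γ e).2).trans
      (show ((act wA e : Q2 K) : UG K).r = 0 from (act wA e).2).symm
  · rw [h.u1, h'.u1]
  · rw [h.u2, h'.u2]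
  · rw [h.a, h'.a]
  · rw [h.b, h'.b]
  · rw [h.c, h'.c]

variable (K) in
/-- `Inn(Q₂) SL₂(K)` -/
def LQ : Subgroup (MulAut (Q2 K)) where
  carrier := {l | ∃ (q : Q2 K) (A : GL (Fin 2) K), A.det = 1 ∧ l = MulAut.conj q * act A}
  one_mem' := ⟨1, 1, map_one _, by rw [map_one, map_one, mul_one]⟩
  mul_mem' := by
    rintro _ _ ⟨q, A, hA, rfl⟩ ⟨q', A', hA', rfl⟩
    refine ⟨q * act A q', A * A', by rw [map_mul, hA, hA', mul_one], ?_⟩
    rw [map_mul, map_mul, mul_assoc, ← mul_assoc (act A), aut_conj]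
    simp only [mul_assoc]
  inv_mem' := by
    rintro _ ⟨q, A, hA, rfl⟩
    refine ⟨act A⁻¹ q⁻¹, A⁻¹, by rw [map_inv, hA, inv_one], ?_⟩
    rw [_root_.mul_inv_rev, ← map_inv, ← map_inv, aut_conj]

theorem act_mem_LQ {A : GL (Fin 2) K} (hA : A.det = 1) : act A ∈ LQ K := ⟨1, A, hA, by rw [map_one, one_mul]⟩

theorem conj_mem_LQ (q : Q2 K) : MulAut.conj q ∈ LQ K := ⟨q, 1, map_one _, by rw [map_one, mul_one]⟩

theorem det_uA (r : K) : (uA r).det = 1 := by
  apply Units.ext
  change Matrix.det !![1, r; 0, 1] = 1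
  rw [Matrix.det_fin_two_of]
  ring

theorem det_wA : (wA : GL (Fin 2) K).det = 1 := by
  apply Units.ext
  change Matrix.det !![(0 : K), 1; -1, 0] = 1
  rw [Matrix.det_fin_two_of]
  ring

theorem cj_eq (g : UG K) : ∃ q : Q2 K, cj g = MulAut.conj q * act (uA g.r) := by
  refine ⟨⟨g * (rt g.r)⁻¹, ?_⟩, ?_⟩
  · change (g * (rt g.r)⁻¹).r = 0
    simp [rt]
  · rw [conj_eq_cj, act_uA, ← map_mul, inv_mul_cancel_right]

theorem Lam2_le_LQ : Lam2 K ≤ LQ K := by
  unfold Lam2
  refine sup_le ?_ ?_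
  · rw [aut_eq]
    rintro _ ⟨g, rfl⟩
    obtain ⟨q, hq⟩ := cj_eq g
    rw [hq]
    exact mul_mem (conj_mem_LQ q) (act_mem_LQ (det_uA _))
  · rw [Subgroup.closure_le]
    intro γ hγ
    rw [eq_act_of_isW2 hγ]
    exact act_mem_LQ det_wA

theorem act_uA_mem (r : K) : act (uA r) ∈ Lam2 K := by
  apply Subgroup.mem_sup_left
  rw [aut_eq, act_uA]
  exact ⟨_, rfl⟩

theorem act_wA_mem : act (wA : GL (Fin 2) K) ∈ Lam2 K := by
  apply Subgroup.mem_sup_right
  exact Subgroup.subset_closure isW2_act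

theorem act_mem_of_ne {A : GL (Fin 2) K} (hA : A.det = 1) (hc : (A : Matrix (Fin 2) (Fin 2) K) 1 0 ≠ 0) :
    act A ∈ Lam2 K := by
  have hd : (A : Matrix (Fin 2) (Fin 2) K) 0 0 * (A : Matrix (Fin 2) (Fin 2) K) 1 1 -
      (A : Matrix (Fin 2) (Fin 2) K) 0 1 * (A : Matrix (Fin 2) (Fin 2) K) 1 0 = 1 := by
    rw [← Matrix.det_fin_two]
    exact congrArg Units.val hA
  obtain ⟨a, ha⟩ : ∃ a, a = (A : Matrix (Fin 2) (Fin 2) K) 0 0 := ⟨_, rfl⟩
  obtain ⟨b, hb⟩ : ∃ b, b = (A : Matrix (Fin 2) (Fin 2) K) 0 1 := ⟨_, rfl⟩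
  obtain ⟨c, hc'⟩ : ∃ c, c = (A : Matrix (Fin 2) (Fin 2) K) 1 0 := ⟨_, rfl⟩
  obtain ⟨d, hd'⟩ : ∃ d, d = (A : Matrix (Fin 2) (Fin 2) K) 1 1 := ⟨_, rfl⟩
  rw [← ha, ← hb, ← hc', ← hd'] at hd
  rw [← hc'] at hc
  have key : A = uA ((a - 1) / c) * wA⁻¹ * uA (-c) * wA * uA ((d - 1) / c) := by
    apply Units.ext
    change (A : Matrix (Fin 2) (Fin 2) K) = !![1, (a - 1) / c; 0, 1] * !![0, -1; 1, 0] * !![1, -c; 0, 1] *
      !![0, 1; -1, 0] * !![1, (d - 1) / c; 0, 1]
    rw [Matrix.mul_fin_two, Matrix.mul_fin_two, Matrix.mul_fin_two, Matrix.mul_fin_two, Matrix.eta_fin_two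
      (A : Matrix (Fin 2) (Fin 2) K), ← ha, ← hb, ← hc', ← hd']
    congr 1
    ext i j
    fin_cases i <;> fin_cases j
    · simp only [_root_.Nat.succ_eq_add_one, _root_.Nat.reduceAdd, _root_.Fin.zero_eta, _root_.Fin.isValue, _root_.Matrix.cons_val', _root_.Matrix.cons_val_zero, _root_.Matrix.cons_val_fin_one, _root_.MulZeroClass.mul_zero, _root_.mul_one, _root_.zero_add, _root_.mul_neg, _root_.add_zero, _root_.neg_add_rev, _root_.neg_neg, _root_.neg_zero, _root_.one_mul]; field_simp; ring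
    · simp only [_root_.Nat.succ_eq_add_one, _root_.Nat.reduceAdd, _root_.Fin.zero_eta, _root_.Fin.isValue, _root_.Fin.mk_one, _root_.Matrix.cons_val', _root_.Matrix.cons_val_one, _root_.Matrix.cons_val_fin_one, _root_.Matrix.cons_val_zero, _root_.MulZeroClass.mul_zero, _root_.mul_one, _root_.zero_add, _root_.mul_neg, _root_.add_zero, _root_.neg_add_rev, _root_.neg_neg, _root_.neg_zero, _root_.one_mul]; field_simp; linear_combination -hd
    · simp only [_root_.Nat.succ_eq_add_one, _root_.Nat.reduceAdd, _root_.Fin.mk_one, _root_.Fin.isValue, _root_.Fin.zero_eta, _root_.Matrix.cons_val', _root_.Matrix.cons_val_zero, _root_.Matrix.cons_val_fin_one, _root_.Matrix.cons_val_one, _root_.MulZeroClass.mul_zero, _root_.mul_one, _root_.zero_add, _root_.mul_neg, _root_.add_zero, _root_.neg_add_rev, _root_.neg_neg, _root_.neg_zero, _root_.one_mul]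
    · simp; field_simp; ring
  rw [key, map_mul, map_mul, map_mul, map_mul, map_inv]
  exact mul_mem (mul_mem (mul_mem (mul_mem (act_uA_mem _) (_root_.InvMemClass.inv_mem act_wA_mem)) (act_uA_mem _)) act_wA_mem)
    (act_uA_mem _)

theorem act_mem {A : GL (Fin 2) K} (hA : A.det = 1) : act A ∈ Lam2 K := by
  by_cases hc : (A : Matrix (Fin 2) (Fin 2) K) 1 0 = 0
  · have hd : (A : Matrix (Fin 2) (Fin 2) K) 0 0 * (A : Matrix (Fin 2) (Fin 2) K) 1 1 -
        (A : Matrix (Fin 2) (Fin 2) K) 0 1 * (A : Matrix (Fin 2) (Fin 2) K) 1 0 = 1 := by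
      rw [← Matrix.det_fin_two]
      exact congrArg Units.val hA
    have h1 : ((wA * A : GL (Fin 2) K) : Matrix (Fin 2) (Fin 2) K) 1 0 ≠ 0 := by
      have h2 : ((wA * A : GL (Fin 2) K) : Matrix (Fin 2) (Fin 2) K) 1 0 = -(A : Matrix (Fin 2) (Fin 2) K) 0 0 := by
        change (!![(0 : K), 1; -1, 0] * (A : Matrix (Fin 2) (Fin 2) K)) 1 0 = _
        rw [Matrix.mul_apply, Fin.sum_univ_two]
        simp
      rw [h2, neg_ne_zero]
      intro h3
      rw [h3, hc, zero_mul, mul_zero, sub_zero] at hd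
      exact zero_ne_one hd
    have h2 := act_mem_of_ne (A := wA * A) (by rw [map_mul, det_wA, hA, mul_one]) h1
    rw [map_mul] at h2
    exact (Subgroup.mul_mem_cancel_left _ act_wA_mem).1 h2
  · exact act_mem_of_ne hA hc

theorem Lam2_eq : Lam2 K = LQ K := by
  refine le_antisymm Lam2_le_LQ ?_
  rintro _ ⟨q, A, hA, rfl⟩
  exact (mul_mem (Subgroup.mem_sup_left (InnQ_le_aut ⟨q, rfl⟩)) (act_mem hA) :)

theorem act_conj_mem (B : GL (Fin 2) K) {l : MulAut (Q2 K)} (hl : l ∈ Lam2 K) : act B * l * (act B)⁻¹ ∈ Lam2 K := by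
  rw [Lam2_eq] at hl ⊢
  obtain ⟨q, A, hA, rfl⟩ := hl
  refine ⟨act B q, B * A * B⁻¹, by rw [map_mul, map_mul, hA, mul_one, map_inv, mul_inv_cancel], ?_⟩
  rw [map_mul, map_mul, map_inv, ← mul_assoc, ← mul_assoc, ← mul_assoc, ← aut_conj]

/-- `Lam2 ∩ CC = Inn(Q₂)` -/
theorem Lam2_inf (h : HypK K p n) : Lam2 K ⊓ CC K = InnQ K := by
  apply le_antisymm
  · rintro l ⟨hl, hc⟩
    rw [SetLike.mem_coe, Lam2_eq] at hl
    obtain ⟨q, A, hA, rfl⟩ := hl
    have h1 : act A ∈ CC K := (Subgroup.mul_mem_cancel_left _ (InnQ_le_CC ⟨q, rfl⟩)).1 hc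
    have h2 : A = 1 := by
      obtain ⟨e, e1, e2, -⟩ := exists_u h (1 : K) 0
      obtain ⟨f, f1, f2, -⟩ := exists_u h (0 : K) 1
      have h3 := h1 e
      have h4 := h1 f
      rw [act_apply] at h3 h4
      simp only [qm, e1, e2, f1, f2, mul_one, mul_zero, add_zero, zero_add] at h3 h4
      apply Units.ext
      ext i j
      fin_cases i <;> fin_cases j
      · exact h3.1
      · exact h4.1
      · exact h3.2
      · exact h4.2
    rw [h2, map_one, mul_one]
    exact ⟨q, rfl⟩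
  · exact le_inf (InnQ_le_aut.trans le_sup_left) InnQ_le_CC

end Cfsg.Agent.H358.PU
end

-- part: H358/PU/L2
section
/-!
# S5258, PU-L2: `StL2` from `StL2a`, `StLift`, `StGrp` (helper358)
-/

set_option autoImplicit false
set_option linter.unusedSectionVars false

namespace Cfsg.Agent.H358.PU

open Cfsg Cfsg.Agent.H756.PU

universe u

variable {K : Type u} [Field K] [StarRing K] {p n : ℕ}

section gamma

variable {Γ : Subgroup (MulAut (Q2 K))} {D : Subgroup (MulAut (UG K))}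

theorem InnQ_le (hP : Par p (Q2 K) Γ D) : InnQ K ≤ Γ := InnQ_le_aut.trans hP.indu

/-- `Γ ∩ CC = Inn(Q₂)` -/
theorem gamma_inf (h : HypK K p n) (hP : Par p (Q2 K) Γ D) : Γ ⊓ CC K = InnQ K := by
  apply le_antisymm
  · intro x hx
    have hCn := CC_normal h
    obtain ⟨g, hg, hg'⟩ := hP.syl (Γ ⊓ CC K) inf_le_left ((CC_pgroup h).to_le inf_le_right)
    have h1 : g⁻¹ * x * g ∈ Γ ⊓ CC K := by
      refine ⟨Γ.mul_mem (Γ.mul_mem (Γ.inv_mem hg) hx.1) hg, ?_⟩
      have := hCn.conj_mem x hx.2 g⁻¹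
      rwa [inv_inv] at this
    have h2 := hg' _ h1
    have e : g * (g⁻¹ * x * g) * g⁻¹ = x := by group
    rw [e, aut_eq] at h2
    obtain ⟨s, rfl⟩ := h2
    obtain ⟨f, hf1, hf2, -⟩ := exists_u h (0 : K) 1
    have h3 := (hx.2 f).1
    rw [cj_apply] at h3
    simp only [UG.mul_u1, UG.mul_r, UG.inv_u1, UG.inv_u2, hf1, hf2] at h3
    have hfr : (f : UG K).r = 0 := f.2
    have h4 : s.r = 0 := by
      rw [hfr] at h3
      linear_combination h3
    exact ⟨⟨s, h4⟩, conj_eq_cj _⟩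
  · exact le_inf (InnQ_le hP) InnQ_le_CC

/-- `Aut_S(Q₂)` is a Sylow subgroup -/
theorem not_dvd_relIndex [Finite (UG K)] (h : HypK K p n) (hPG : IsPGroup p (⊤ : Subgroup (UG K)))
    (hP : Par p (Q2 K) Γ D) {L : Subgroup (MulAut (Q2 K))} (hL : L ≤ Γ) (hPL : autInducedBy ⊤ (Q2 K) ≤ L) :
    ¬ p ∣ (autInducedBy ⊤ (Q2 K)).relIndex L := by
  intro hd
  have : Fact p.Prime := ⟨h.pp⟩
  set P := autInducedBy ⊤ (Q2 K) with hPdef
  have hPp : IsPGroup p P := by
    rw [hPdef, aut_eq]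
    have h1 : IsPGroup p (UG K) := hPG.of_equiv Subgroup.topEquiv
    exact h1.of_surjective (cj (K := K)).rangeRestrict (cj (K := K)).rangeRestrict_surjective
  obtain ⟨j, hj⟩ := IsPGroup.iff_card.1 hPp
  have h1 : p ^ (j + 1) ∣ Nat.card L := by
    have h0 := Subgroup.relIndex_mul_relIndex ⊥ P L bot_le hPL
    rw [Subgroup.relIndex_bot_left, Subgroup.relIndex_bot_left, hj] at h0
    rw [← h0, pow_succ]
    exact mul_dvd_mul_left _ hd
  obtain ⟨R, hR⟩ := Sylow.exists_subgroup_card_pow_prime p h1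
  have hR' : Nat.card (R.map L.subtype) = p ^ (j + 1) := by
    rw [Subgroup.card_map_of_injective L.subtype_injective, hR]
  have hRp : IsPGroup p (R.map L.subtype) := IsPGroup.of_card hR'
  obtain ⟨g, -, hg⟩ := hP.syl (R.map L.subtype) ((Subgroup.map_subtype_le R).trans hL) hRp
  have h2 : (R.map L.subtype).map (MulAut.conj g).toMonoidHom ≤ P := by
    rintro _ ⟨x, hx, rfl⟩
    exact hg x hx
  have h3 := Subgroup.card_le_of_le h2
  rw [Subgroup.card_map_of_injective (MulAut.conj g).injective, hR', hj] at h3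
  have h4 := Nat.pow_lt_pow_right h.pp.one_lt (Nat.lt_succ_self j)
  exact absurd h3 (not_le.2 h4)

/-- the main step -/
theorem Lam2_le (hL : StLift.{u}) [Finite (UG K)] (h : HypK K p n) (hPG : IsPGroup p (⊤ : Subgroup (UG K)))
    (hP : Par p (Q2 K) Γ D)
    (hl : ∀ l ∈ Lam2 K, ∃ γ ∈ Γ, ∀ e : Q2 K, ((γ e : Q2 K) : UG K).u1 = ((l e : Q2 K) : UG K).u1 ∧
      ((γ e : Q2 K) : UG K).u2 = ((l e : Q2 K) : UG K).u2)
    (η : Kˣ →* MulAut (Q2 K)) (hη : ∀ t, η t ∈ Γ) (hη' : ∀ t, ∃ B, η t = act B)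
    (hfix : ∀ c ∈ CC K, (∀ t, η t * c = c * η t) → c = 1) : Lam2 K ≤ Γ := by
  have hfact : Fact p.Prime := ⟨h.pp⟩
  have hfin := h.fin
  have hCn := CC_normal h
  have hgi := gamma_inf h hP
  have hin := InnQ_normal (K := K)
  have hfinA : Finite (MulAut (Q2 K)) := inferInstance
  have hCle : CC K ≤ Lam2 K ⊔ CC K := le_sup_right
  have hLC : Γ ⊓ (Lam2 K ⊔ CC K) ⊓ CC K = InnQ K := by
    rw [inf_assoc, inf_eq_right.2 hCle, hgi]
  have hLC' : Lam2 K ⊓ CC K = InnQ K := Lam2_inf h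
  have hlC : ∀ {γ l : MulAut (Q2 K)}, (∀ e : Q2 K, ((γ e : Q2 K) : UG K).u1 = ((l e : Q2 K) : UG K).u1 ∧
      ((γ e : Q2 K) : UG K).u2 = ((l e : Q2 K) : UG K).u2) → l⁻¹ * γ ∈ CC K := by
    intro γ l H
    rw [mem_CC]
    intro e
    have h1 := inV_map h l⁻¹ ((inV_iff_eq (l e) (γ e)).2 (H e))
    rw [map_mul, map_inv, MulAut.inv_apply_self] at h1
    exact h1
  have hnorm : ∀ {N : Subgroup (MulAut (Q2 K))}, (∀ t, ∀ x ∈ N, η t * x * (η t)⁻¹ ∈ N) →
      η.range ≤ Subgroup.normalizer (N : Set (MulAut (Q2 K))) := by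
    intro N H
    rintro _ ⟨t, rfl⟩
    rw [Subgroup.mem_normalizer_iff]
    intro x
    refine ⟨H t x, fun hx => ?_⟩
    have h1 := H t⁻¹ _ hx
    rw [map_inv] at h1
    have e : (η t)⁻¹ * (η t * x * (η t)⁻¹) * (η t)⁻¹⁻¹ = x := by group
    rwa [e] at h1
  have key : Γ ⊓ (Lam2 K ⊔ CC K) = Lam2 K := by
    refine hL (p := p) (CC K) (Γ ⊓ (Lam2 K ⊔ CC K)) (Lam2 K) (autInducedBy ⊤ (Q2 K)) η.range hCn (CC_comm h)
      (CC_pgroup h) ?_ (hLC.trans hLC'.symm) (le_inf hP.indu (le_sup_left.trans le_sup_left)) le_sup_left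
      (hLC.le.trans InnQ_le_aut) (not_dvd_relIndex h hPG hP inf_le_left
        (le_inf hP.indu (le_sup_left.trans le_sup_left))) ?_ ?_ ?_ ?_ ?_ ?_
    · apply le_antisymm
      · exact sup_le inf_le_right le_sup_right
      · refine sup_le ?_ le_sup_right
        intro l hll
        obtain ⟨γ, hγ, H⟩ := hl l hll
        have h1 := hlC H
        have h2 : γ ∈ Lam2 K ⊔ CC K := by
          have e : γ = l * (l⁻¹ * γ) := by group
          rw [e]
          exact mul_mem (Subgroup.mem_sup_left hll) (Subgroup.mem_sup_right h1)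
        have e : l = γ * (l⁻¹ * γ)⁻¹ := by group
        rw [e]
        exact mul_mem (Subgroup.mem_sup_left ⟨hγ, h2⟩) (Subgroup.mem_sup_right (inv_mem h1))
    · rw [hLC, Subgroup.normalizer_eq_top_iff.2 hin]
      exact le_top
    · rw [hLC, Subgroup.normalizer_eq_top_iff.2 hin]
      exact le_top
    · refine hnorm fun t x hx => ⟨Γ.mul_mem (Γ.mul_mem (hη t) hx.1) (Γ.inv_mem (hη t)), ?_⟩
      obtain ⟨B, hB⟩ := hη' t
      have h1 : Lam2 K ⊔ CC K ≤ (Lam2 K ⊔ CC K).comap (MulAut.conj (η t)).toMonoidHom := by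
        refine sup_le ?_ ?_
        · intro l hl
          refine Subgroup.mem_sup_left ?_
          change η t * l * (η t)⁻¹ ∈ Lam2 K
          rw [hB]
          exact act_conj_mem B hl
        · intro c hc
          exact Subgroup.mem_sup_right (hCn.conj_mem c hc _)
      exact h1 hx.2
    · refine hnorm fun t x hx => ?_
      obtain ⟨B, hB⟩ := hη' t
      rw [hB]
      exact act_conj_mem B hx
    · have h1 : Nat.card η.range ∣ Nat.card Kˣ := Subgroup.card_range_dvd η
      rw [Nat.card_units, h.card] at h1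
      refine Nat.Coprime.coprime_dvd_left h1 ?_
      rw [Nat.coprime_comm, Nat.Prime.coprime_iff_not_dvd h.pp]
      intro h2
      have h3 : p ∣ (p ^ n) ^ 2 := by
        rw [← pow_mul]
        exact dvd_pow_self p (by have := h.hn; omega)
      have h4 : 1 ≤ (p ^ n) ^ 2 := Nat.one_le_iff_ne_zero.2 (pow_ne_zero _ (pow_ne_zero _ h.pp.ne_zero))
      have h5 := (Nat.dvd_sub_iff_right h4 h3).1 h2
      exact h.pp.one_lt.ne' (Nat.dvd_one.1 h5)
    · intro c hc H
      exact hfix c hc fun t => H _ ⟨t, rfl⟩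
  rw [← key]
  exact inf_le_left

end gamma

end Cfsg.Agent.H358.PU
end

-- part: H358/PU/L2b
section
/-!
# S5258, PU-L2: `StL2` from `StL2a`, `StLift`, `StGrp`: the end (helper358)
-/

set_option autoImplicit false
set_option linter.unusedSectionVars false

namespace Cfsg.Agent.H358.PU

open Cfsg Cfsg.Agent.H756.PU

universe u

variable {K : Type u} [Field K] [StarRing K] {p n : ℕ}

theorem exists_pow_ne' (h : HypK K p n) {m : ℕ} (hm : 0 < m) (hm' : m < (p ^ n) ^ 2 - 1) :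
    ∃ θ : K, θ ≠ 0 ∧ θ ^ m ≠ 1 := by
  have := h.fin
  have := Fintype.ofFinite K
  by_contra hcon
  push Not at hcon
  have h1 : ∀ x : Kˣ, x ^ m = 1 := fun x => Units.ext (by
    rw [Units.val_pow_eq_pow_val, hcon x x.ne_zero, Units.val_one])
  obtain ⟨g, hg⟩ := IsCyclic.exists_generator (α := Kˣ)
  have h2 : orderOf g = Nat.card Kˣ := orderOf_eq_card_of_forall_mem_zpowers hg
  have h3 := orderOf_dvd_of_pow_eq_one (h1 g)
  rw [h2, Nat.card_units, h.card] at h3
  have h4 := Nat.le_of_dvd hm h3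
  omega

theorem pow_card_sub (h : HypK K p n) {θ : K} (hθ : θ ≠ 0) : θ ^ ((p ^ n) ^ 2 - 1) = 1 := by
  have := h.fin
  have := Fintype.ofFinite K
  have h1 := FiniteField.pow_card_sub_one_eq_one θ hθ
  rwa [← Nat.card_eq_fintype_card, h.card] at h1

/-- an element of norm one -/
theorem exists_norm_one (h : HypK K p n) : ∃ t : K, t ≠ 0 ∧ t ≠ 1 ∧ t * star t = 1 := by
  obtain ⟨θ, h0, h1⟩ := exists_pow_ne h
  refine ⟨θ ^ (p ^ n - 1), pow_ne_zero _ h0, h1, ?_⟩
  rw [h.star_eq, ← pow_succ', ← pow_mul]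
  have h2 : (p ^ n - 1) * (p ^ n + 1) = (p ^ n) ^ 2 - 1 := by
    have := Nat.sq_sub_sq (p ^ n) 1
    rw [one_pow, mul_comm] at this
    exact this.symm
  rw [h2, pow_card_sub h h0]

/-- a fixed element -/
theorem exists_fixed (h : HypK K p n) (h2 : p ^ n ≠ 2) : ∃ t : K, t ≠ 0 ∧ t ≠ 1 ∧ star t = t := by
  have hq := one_lt h
  obtain ⟨θ, h0, h1⟩ := exists_pow_ne' h (m := p ^ n + 1) (by omega) (by
    have h3 : 3 ≤ p ^ n := by omega
    have h4 : 3 * p ^ n ≤ (p ^ n) ^ 2 := by rw [pow_two]; exact Nat.mul_le_mul_right _ h3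
    omega)
  refine ⟨θ ^ (p ^ n + 1), pow_ne_zero _ h0, h1, ?_⟩
  rw [h.star_eq, ← pow_mul]
  have h3 : (p ^ n + 1) * p ^ n = ((p ^ n) ^ 2 - 1) + (p ^ n + 1) := by
    have h4 : 1 ≤ (p ^ n) ^ 2 := Nat.one_le_pow _ _ (by omega)
    have h5 : (p ^ n + 1) * p ^ n = (p ^ n) ^ 2 + p ^ n := by ring
    omega
  rw [h3, pow_add, pow_card_sub h h0, one_mul]

/-- the fixed points of a torus element on `CC` -/
theorem kill (h : HypK K p n) {c : MulAut (Q2 K)} (hc : c ∈ CC K) {x y : Kˣ} (hx : (x : K) ≠ 1) (hy : (y : K) ≠ 1)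
    (H : act (dg x y) * c = c * act (dg x y)) (e : Q2 K) : ∃ w : Q2 K,
      ((e⁻¹ * c e : Q2 K) : UG K).a = ((x : K) * star (x : K) - 1) * (w : UG K).a ∧
      ((e⁻¹ * c e : Q2 K) : UG K).b = ((x : K) * star (y : K) - 1) * (w : UG K).b ∧
      ((e⁻¹ * c e : Q2 K) : UG K).c = ((y : K) * star (y : K) - 1) * (w : UG K).c := by
  have hx' : (x : K) - 1 ≠ 0 := sub_ne_zero.2 hx
  have hy' : (y : K) - 1 ≠ 0 := sub_ne_zero.2 hy
  set A := act (dg x y) with hA
  have hV := mem_CC.1 hc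
  obtain ⟨f, f1, f2, -⟩ := exists_u h (((x : K) - 1)⁻¹ * (e : UG K).u1) (((y : K) - 1)⁻¹ * (e : UG K).u2)
  have hA' : ∀ g : Q2 K, ((A g : Q2 K) : UG K) = qm !![(x : K), 0; 0, (y : K)] g := fun g => act_apply _ g
  -- `v` is multiplicative
  have hmul : ∀ g k : Q2 K, (g * k)⁻¹ * c (g * k) = (g⁻¹ * c g) * (k⁻¹ * c k) := by
    intro g k
    have h1 := inV_comm (hV g) k⁻¹
    calc (g * k)⁻¹ * c (g * k) = k⁻¹ * (g⁻¹ * c g) * c k := by rw [map_mul]; group
      _ = (g⁻¹ * c g) * k⁻¹ * c k := by rw [h1]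
      _ = _ := by group
  have hact : ∀ g : Q2 K, (A g)⁻¹ * c (A g) = A (g⁻¹ * c g) := by
    intro g
    have h1 : A (c g) = c (A g) := by
      have := congrArg (fun φ : MulAut (Q2 K) => φ g) H
      exact this
    rw [map_mul, map_inv, h1]
  have hinv : ∀ g : Q2 K, (g⁻¹)⁻¹ * c g⁻¹ = (g⁻¹ * c g)⁻¹ := by
    intro g
    rw [eq_inv_iff_mul_eq_one, ← hmul, inv_mul_cancel, map_one, inv_one, one_mul]
  -- `e` and `A f * f⁻¹` have the same `u`
  have hu : InV ((A f * f⁻¹)⁻¹ * e) := by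
    rw [inV_iff_eq, u1_mul, u2_mul, u1_inv, u2_inv, hA']
    constructor
    · simp only [qm, f1]
      simp
      field_simp
      ring
    · simp only [qm, f2]
      simp
      field_simp
      ring
  obtain ⟨v, hv, hev⟩ : ∃ v, InV v ∧ e = A f * f⁻¹ * v := ⟨_, hu, by group⟩
  have hcv : v⁻¹ * c v = 1 := by rw [CC_fix h hc hv, inv_mul_cancel]
  have key : e⁻¹ * c e = (f⁻¹ * c f)⁻¹ * A (f⁻¹ * c f) := by
    rw [hev, hmul, hmul, hcv, mul_one, hact, hinv]
    exact inV_comm (by rw [← hact]; exact hV _) _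
  obtain ⟨w, hw, hw'⟩ : ∃ w, InV w ∧ w = f⁻¹ * c f := ⟨_, hV f, rfl⟩
  rw [← hw'] at key
  have key2 : w * (e⁻¹ * c e) = A w := by rw [key]; group
  have ea := a_mul hw (e⁻¹ * c e)
  have eb := b_mul hw (e⁻¹ * c e)
  have ec := c_mul hw (e⁻¹ * c e)
  rw [key2, hA'] at ea eb ec
  obtain ⟨z, hz⟩ : ∃ z, z = e⁻¹ * c e := ⟨_, rfl⟩
  rw [← hz] at ea eb ec ⊢
  refine ⟨w, ?_, ?_, ?_⟩
  · simp only [qm, _root_.Fin.isValue, _root_.Matrix.of_apply, _root_.Matrix.cons_val', _root_.Matrix.cons_val_zero, _root_.Matrix.cons_val_fin_one, _root_.Matrix.cons_val_one, _root_.MulZeroClass.zero_mul, _root_.add_zero, _root_.zero_add, _root_.star_zero, _root_.MulZeroClass.mul_zero] at ea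
    linear_combination -ea
  · simp only [qm, _root_.Fin.isValue, _root_.Matrix.of_apply, _root_.Matrix.cons_val', _root_.Matrix.cons_val_zero, _root_.Matrix.cons_val_fin_one, _root_.Matrix.cons_val_one, _root_.MulZeroClass.zero_mul, _root_.add_zero, _root_.zero_add, _root_.star_zero, _root_.MulZeroClass.mul_zero] at eb
    linear_combination -eb
  · simp only [qm, _root_.Fin.isValue, _root_.Matrix.of_apply, _root_.Matrix.cons_val', _root_.Matrix.cons_val_zero, _root_.Matrix.cons_val_fin_one, _root_.Matrix.cons_val_one, _root_.MulZeroClass.zero_mul, _root_.add_zero, _root_.zero_add, _root_.star_zero, _root_.MulZeroClass.mul_zero] at ec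
    linear_combination -ec

theorem eq_one_of {c : MulAut (Q2 K)} (hc : c ∈ CC K)
    (H : ∀ e : Q2 K, ((e⁻¹ * c e : Q2 K) : UG K).a = 0 ∧ ((e⁻¹ * c e : Q2 K) : UG K).b = 0 ∧
      ((e⁻¹ * c e : Q2 K) : UG K).c = 0) : c = 1 := by
  ext1 e
  have h1 : e⁻¹ * c e = 1 := ext_InV (mem_CC.1 hc e) ⟨rfl, rfl⟩ (H e).1 (H e).2.1 (H e).2.2
  rw [MulAut.one_apply]
  exact (inv_mul_eq_one.1 h1).symm

theorem isR_act {α : MulAut (UG K)} {x y : Kˣ} (hα : IsTor α x y (RingEquiv.refl K)) :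
    IsR α (act (dg x y)) := by
  intro e
  have hr : (e : UG K).r = 0 := e.2
  rw [act_apply]
  ext
  · rw [hα.r, hr, map_zero, mul_zero]; rfl
  · rw [hα.u1]; simp only [qm, dg, _root_.Units.val_inv_eq_inv_val, _root_.Fin.isValue, _root_.Matrix.of_apply, _root_.Matrix.cons_val', _root_.Matrix.cons_val_zero, _root_.Matrix.cons_val_fin_one, _root_.Matrix.cons_val_one, _root_.MulZeroClass.zero_mul, _root_.add_zero, _root_.zero_add, _root_.star_zero, _root_.MulZeroClass.mul_zero, _root_.RingEquiv.refl_apply]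
  · rw [hα.u2]; simp only [qm, dg, _root_.Units.val_inv_eq_inv_val, _root_.Fin.isValue, _root_.Matrix.of_apply, _root_.Matrix.cons_val', _root_.Matrix.cons_val_zero, _root_.Matrix.cons_val_fin_one, _root_.Matrix.cons_val_one, _root_.MulZeroClass.zero_mul, _root_.add_zero, _root_.zero_add, _root_.star_zero, _root_.MulZeroClass.mul_zero, _root_.RingEquiv.refl_apply]
  · rw [hα.a]; simp only [qm, dg, _root_.Units.val_inv_eq_inv_val, _root_.Fin.isValue, _root_.Matrix.of_apply, _root_.Matrix.cons_val', _root_.Matrix.cons_val_zero, _root_.Matrix.cons_val_fin_one, _root_.Matrix.cons_val_one, _root_.MulZeroClass.zero_mul, _root_.add_zero, _root_.zero_add, _root_.star_zero, _root_.MulZeroClass.mul_zero, _root_.RingEquiv.refl_apply]; ring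
  · rw [hα.b]; simp only [qm, dg, _root_.Units.val_inv_eq_inv_val, _root_.Fin.isValue, _root_.Matrix.of_apply, _root_.Matrix.cons_val', _root_.Matrix.cons_val_zero, _root_.Matrix.cons_val_fin_one, _root_.Matrix.cons_val_one, _root_.MulZeroClass.zero_mul, _root_.add_zero, _root_.zero_add, _root_.star_zero, _root_.MulZeroClass.mul_zero, _root_.RingEquiv.refl_apply]; ring
  · rw [hα.c]; simp only [qm, dg, _root_.Units.val_inv_eq_inv_val, _root_.Fin.isValue, _root_.Matrix.of_apply, _root_.Matrix.cons_val', _root_.Matrix.cons_val_zero, _root_.Matrix.cons_val_fin_one, _root_.Matrix.cons_val_one, _root_.MulZeroClass.zero_mul, _root_.add_zero, _root_.zero_add, _root_.star_zero, _root_.MulZeroClass.mul_zero, _root_.RingEquiv.refl_apply]; ring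

theorem mem_of_hasTor (hG : StGrp.{u}) (h : HypK K p n) {Γ : Subgroup (MulAut (Q2 K))} {D : Subgroup (MulAut (UG K))}
    (hP : Par p (Q2 K) Γ D) {f g : K → K} (hT : HasTor D f g) (t x y : Kˣ) (hx : (x : K) = f t) (hy : (y : K) = g t) :
    act (dg x y) ∈ Γ := by
  obtain ⟨-, -, g3, -⟩ := hG h
  obtain ⟨α, hα⟩ := g3 x y (RingEquiv.refl K) x.ne_zero y.ne_zero
  refine hP.D_res α (hT t t.ne_zero α ?_) _ (isR_act hα)
  rw [← hx, ← hy]
  exact hα

/-- `dg` along two characters -/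
def eta (f g : Kˣ →* Kˣ) : Kˣ →* MulAut (Q2 K) where
  toFun t := act (dg (f t) (g t))
  map_one' := by
    have h1 : dg (1 : Kˣ) 1 = 1 := by
      apply Units.ext
      change !![((1 : Kˣ) : K), 0; 0, ((1 : Kˣ) : K)] = 1
      rw [Units.val_one, Matrix.one_fin_two]
    rw [map_one, map_one, h1, map_one]
  map_mul' s t := by rw [map_mul, map_mul, ← dg_mul, map_mul]

theorem l2 (hG : StGrp.{u}) (hA : StL2a.{u}) (hL : StLift.{u}) : StL2.{u} := by
  intro K _ _ p n h Γ D hP hD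
  obtain ⟨h1, h2, h3⟩ := hA h Γ D hP hD
  obtain ⟨g1, g2, -, -⟩ := hG h
  have hfinU : Finite (UG K) := by
    apply Nat.finite_of_card_ne_zero
    rw [g1]
    exact pow_ne_zero _ (pow_ne_zero _ h.pp.ne_zero)
  have m1 : ∀ t : Kˣ, act (dg t t⁻¹) ∈ Γ := fun t =>
    mem_of_hasTor hG h hP h1 t t t⁻¹ rfl (Units.val_inv_eq_inv_val t)
  have hLam : Lam2 K ≤ Γ := by
    obtain ⟨t, t0, t1, tN⟩ := exists_norm_one h
    obtain ⟨t', rfl⟩ : ∃ t' : Kˣ, (t' : K) = t := ⟨Units.mk0 t t0, rfl⟩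
    by_cases hq : p ^ n = 2
    · have m2 : ∀ t : Kˣ, act (dg t t) ∈ Γ := by
        intro t
        have e : dg t t = dg (t * t) 1 * dg t⁻¹ t⁻¹⁻¹ := by
          rw [dg_mul, one_mul, inv_inv, mul_inv_cancel_right]
        rw [e, map_mul]
        exact Γ.mul_mem (mem_of_hasTor hG h hP (hD hq) (t * t) (t * t) 1 rfl Units.val_one) (m1 _)
      refine Lam2_le hL h g2 hP h2 (eta (MonoidHom.id _) (MonoidHom.id _)) m2 (fun t => ⟨_, rfl⟩) ?_
      intro c hc H
      refine eq_one_of hc fun e => ?_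
      obtain ⟨w, ha, hb, hc'⟩ := kill h hc (x := t') (y := t') t1 t1 (H t') e
      rw [ha, hb, hc', tN, sub_self, zero_mul, zero_mul, zero_mul]
      exact ⟨rfl, rfl, rfl⟩
    · obtain ⟨s, s0, s1, sF⟩ := exists_fixed h hq
      obtain ⟨s', rfl⟩ : ∃ s' : Kˣ, (s' : K) = s := ⟨Units.mk0 s s0, rfl⟩
      refine Lam2_le hL h g2 hP h2 (eta (MonoidHom.id _) invMonoidHom) m1 (fun t => ⟨_, rfl⟩) ?_
      have hi : ∀ z : Kˣ, (z : K) ≠ 1 → ((z⁻¹ : Kˣ) : K) ≠ 1 := by
        intro z hz hz'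
        apply hz
        have : z⁻¹ = 1 := Units.ext hz'
        rw [inv_eq_one] at this
        rw [this, Units.val_one]
      intro c hc H
      refine eq_one_of hc fun e => ?_
      obtain ⟨w, ha, -, hc'⟩ := kill h hc (x := t') (y := t'⁻¹) t1 (hi _ t1) (H t') e
      obtain ⟨w', -, hb, -⟩ := kill h hc (x := s') (y := s'⁻¹) s1 (hi _ s1) (H s') e
      refine ⟨?_, ?_, ?_⟩
      · rw [ha, tN, sub_self, zero_mul]
      · have e1 : (s' : K) * star ((s'⁻¹ : Kˣ) : K) = 1 := by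
          rw [Units.val_inv_eq_inv_val, star_inv₀, sF, mul_inv_cancel₀ s0]
        rw [hb, e1, sub_self, zero_mul]
      · have e1 : ((t'⁻¹ : Kˣ) : K) * star ((t'⁻¹ : Kˣ) : K) = 1 := by
          rw [Units.val_inv_eq_inv_val, star_inv₀, ← mul_inv, tN, inv_one]
        rw [hc', e1, sub_self, zero_mul]
  refine ⟨h1, fun γ => ⟨fun hγ => ?_, ?_⟩⟩
  · obtain ⟨l, hl, d, hd, δ, hδ, H⟩ := h3 γ hγ
    have hδΓ := hP.D_res d hd δ hδ
    have hmem : (l * δ)⁻¹ * γ ∈ Γ ⊓ CC K := by
      refine ⟨Γ.mul_mem (Γ.inv_mem (Γ.mul_mem (hLam hl) hδΓ)) hγ, mem_CC.2 fun e => ?_⟩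
      have h5 := inV_map h (l * δ)⁻¹ ((inV_iff_eq ((l * δ) e) (γ e)).2 (H e))
      rw [map_mul, map_inv, MulAut.inv_apply_self] at h5
      exact h5
    rw [gamma_inf h hP] at hmem
    obtain ⟨q, hq⟩ := hmem
    refine ⟨l * (δ * MulAut.conj q * δ⁻¹), (Lam2 K).mul_mem hl ?_, d, hd, δ, hδ, ?_⟩
    · rw [aut_conj']
      exact Subgroup.mem_sup_left (InnQ_le_aut ⟨_, rfl⟩)
    · have e : γ = l * δ * ((l * δ)⁻¹ * γ) := by group
      rw [e, ← hq]
      group
  · rintro ⟨l, hl, d, hd, δ, hδ, rfl⟩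
    exact Γ.mul_mem (hLam hl) (hP.D_res d hd δ hδ)

end Cfsg.Agent.H358.PU
end

private theorem dce_d0e909345252 : _root_.True := by
  try have : _root_.True := by simp only [_root_.Cfsg.Agent.H756.PU.UG.mk.congr_simp]
  try have : _root_.True := by simp only [_root_.Cfsg.Agent.H699.PU.q1elt.eq_1]
  try have : _root_.True := by simp only [_root_.Cfsg.Agent.H358.PU.dg.eq_1]
  try have : _root_.True := by simp only [_root_.Cfsg.Agent.H358.PU.qm.eq_1]
  try have : _root_.True := by simp only [_root_.Cfsg.Agent.H699.PU.yt.eq_1]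
  try have : _root_.True := by simp only [_root_.Cfsg.Agent.H358.PU.wA.eq_1]
  try have : _root_.True := by simp only [_root_.Cfsg.Agent.H358.PU.rt.eq_1]
  try have : _root_.True := by simp only [_root_.Cfsg.Agent.H358.PU.uA.eq_1]
  try have : _root_.True := by simp only [_root_.Cfsg.Agent.H699.PU.zb.eq_1]
  exact _root_.True.intro
end
end
end
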